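/-
helper22: Bender–Glauberman, Section 10, Theorem 10.1 (control of fusion by a maximal subgroup
`M` for the primes in `σ(M)`), proved from the conclusion of the Uniqueness Theorem (B&G 9.6)
taken as a hypothesis `BGUniq G`.  Everything lives in `Cfsg.Agent.Helper22`.
-/
import Cfsg.Agent.Helper23.Uniq3

set_option autoImplicit false

namespace Cfsg.Agent.Helper22

open Cfsg Subgroup Cfsg.Agent.Helper23 Cfsg.Agent.Helper35
open scoped Pointwise

universe u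

variable {G : Type u} [Group G] [Finite G]

/-- The conclusion of the Uniqueness Theorem (B&G 9.6), as a hypothesis on `G`. -/
def BGUniq (G : Type u) [Group G] : Prop :=
  ∀ K : Subgroup G, K ≠ ⊤ → ¬ Cfsg.RankLE 1 ↥K →
    (¬ Cfsg.RankLE 2 ↥K ∨ ¬ Cfsg.RankLE 2 ↥(Subgroup.centralizer (K : Set G))) →
      Cfsg.InUniqueMaximal K

omit [Finite G] in
theorem bg10_not_rankLE_one {p : ℕ} (hp : p.Prime) {R : Subgroup G} (hr : ¬ PRankLE p 2 ↥R) :
    ¬ RankLE 1 ↥R := by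
  intro h
  apply hr
  intro A hAc hAp
  have h1 := h p hp A hAc hAp
  calc Nat.card A ≤ p ^ 1 := h1
    _ ≤ p ^ 2 := Nat.pow_le_pow_right hp.pos (by norm_num)

omit [Finite G] in
/-- A subgroup of `p`-rank at least three of a maximal subgroup `M` lies in no other maximal
subgroup. -/
theorem bg10_uniq_of_rank3 (hU : BGUniq G) {p : ℕ} (hp : p.Prime) {M R : Subgroup G}
    (hM : IsCoatom M) (hRM : R ≤ M) (hr : ¬ PRankLE p 2 ↥R) :
    ∀ L : Subgroup G, IsCoatom L → R ≤ L → L = M := by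
  have hR : R ≠ ⊤ := by
    intro h
    rw [h] at hRM
    exact hM.1 (top_le_iff.mp hRM)
  obtain ⟨M', -, huniq⟩ := hU R hR (bg10_not_rankLE_one hp hr) (Or.inl (fun h => hr (h p hp)))
  intro L hL hRL
  rw [huniq L ⟨hL, hRL⟩, huniq M ⟨hM, hRM⟩]

/-! ### Conjugates and Sylow subgroups, internal form -/

omit [Finite G] in
theorem bg10_isPGroup_conj {p : ℕ} {g : G} {X : Subgroup G} (h : IsPGroup p ↥X) :
    IsPGroup p ↥(MulAut.conj g • X) := by
  rw [Subgroup.pointwise_smul_def]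
  exact h.map _

theorem bg10_mem_normalizer {H : Subgroup G} {g : G} (h : ∀ x ∈ H, g * x * g⁻¹ ∈ H) :
    g ∈ normalizer (H : Set G) := by
  have hle : MulAut.conj g • H ≤ H := by
    intro x hx
    rw [mem_conj_smul] at hx
    have h1 := h _ hx
    have e : g * (g⁻¹ * x * g) * g⁻¹ = x := by group
    rwa [e] at h1
  have heq : MulAut.conj g • H = H :=
    Subgroup.eq_of_le_of_card_ge hle (by rw [card_conj_smul])
  rw [Subgroup.mem_normalizer_iff]
  intro x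
  refine ⟨h x, fun hx => ?_⟩
  rw [← heq, mem_conj_smul] at hx
  have e : g⁻¹ * (g * x * g⁻¹) * g = x := by group
  rwa [e] at hx

theorem bg10_sylow_conj {p : ℕ} [Fact p.Prime] {S T H : Subgroup G} (hS : IsSylowOf p S H)
    (hT : IsSylowOf p T H) : ∃ h ∈ H, T = MulAut.conj h • S := by
  obtain ⟨S', hS'⟩ := hS.exists_sylow
  obtain ⟨T', hT'⟩ := hT.exists_sylow
  obtain ⟨h, hh⟩ := MulAction.exists_smul_eq ↥H S' T'
  refine ⟨h, h.2, ?_⟩
  have h1 : ∀ x : ↥H, x ∈ (T' : Subgroup ↥H) ↔ h⁻¹ * x * h ∈ (S' : Subgroup ↥H) := by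
    intro x
    rw [← hh, Sylow.coe_subgroup_smul, mem_conj_smul]
  ext x
  rw [mem_conj_smul]
  constructor
  · intro hx
    have hxH : x ∈ H := hT.1 hx
    have h2 : (⟨x, hxH⟩ : ↥H) ∈ (T' : Subgroup ↥H) := by
      rw [hT']; exact Subgroup.mem_subgroupOf.mpr hx
    have h3 := (h1 _).mp h2
    rw [hS', Subgroup.mem_subgroupOf] at h3
    exact h3
  · intro hx
    have hxH : x ∈ H := by
      have h4 : (h : G)⁻¹ * x * h ∈ H := hS.1 hx
      have e : x = (h : G) * ((h : G)⁻¹ * x * h) * (h : G)⁻¹ := by group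
      rw [e]; exact H.mul_mem (H.mul_mem h.2 h4) (H.inv_mem h.2)
    have h2 : h⁻¹ * (⟨x, hxH⟩ : ↥H) * h ∈ (S' : Subgroup ↥H) := by
      rw [hS']; exact Subgroup.mem_subgroupOf.mpr hx
    have h3 := (h1 _).mpr h2
    rw [hT', Subgroup.mem_subgroupOf] at h3
    exact h3

theorem bg10_sylow_card {p : ℕ} [Fact p.Prime] {S T H : Subgroup G} (hS : IsSylowOf p S H)
    (hT : IsSylowOf p T H) : Nat.card T = Nat.card S := by
  obtain ⟨h, -, rfl⟩ := bg10_sylow_conj hS hT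
  exact card_conj_smul h S

theorem bg10_card_le_sylow {p : ℕ} [Fact p.Prime] {S X H : Subgroup G} (hS : IsSylowOf p S H)
    (hX : IsPGroup p X) (hXH : X ≤ H) : Nat.card X ≤ Nat.card S := by
  obtain ⟨Q, hQ, hXQ⟩ := exists_isSylowOf_ge hX hXH
  rw [← bg10_sylow_card hS hQ]
  exact Subgroup.card_le_of_le hXQ

theorem bg10_isSylowOf_of_card {p : ℕ} [Fact p.Prime] {S X H : Subgroup G}
    (hS : IsSylowOf p S H) (hX : IsPGroup p X) (hXH : X ≤ H)
    (hc : Nat.card S ≤ Nat.card X) : IsSylowOf p X H := by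
  obtain ⟨Q, hQ, hXQ⟩ := exists_isSylowOf_ge hX hXH
  have e : X = Q := Subgroup.eq_of_le_of_card_ge hXQ (by rw [bg10_sylow_card hS hQ]; exact hc)
  rw [e]; exact hQ

theorem bg10_isSylowOf_conj {p : ℕ} [Fact p.Prime] {S H : Subgroup G} (hS : IsSylowOf p S H)
    {c : G} (hc : c ∈ H) : IsSylowOf p (MulAut.conj c • S) H := by
  refine bg10_isSylowOf_of_card hS (bg10_isPGroup_conj hS.2.1) ?_ ?_
  · intro x hx
    rw [mem_conj_smul] at hx
    have h1 : c⁻¹ * x * c ∈ H := hS.1 hx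
    have e : x = c * (c⁻¹ * x * c) * c⁻¹ := by group
    rw [e]; exact H.mul_mem (H.mul_mem hc h1) (H.inv_mem hc)
  · rw [card_conj_smul]

theorem bg10_exists_conj_le {p : ℕ} [Fact p.Prime] {P R : Subgroup G} (hP : IsSylowOf p P ⊤)
    (hR : IsPGroup p R) : ∃ h : G, ∀ r ∈ R, h * r * h⁻¹ ∈ P := by
  obtain ⟨Q, hQ, hRQ⟩ := exists_isSylowOf_ge hR (le_top : R ≤ ⊤)
  obtain ⟨h, -, rfl⟩ := bg10_sylow_conj hQ hP
  exact ⟨h, fun r hr => conj_mem_conj_smul (hRQ hr)⟩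

omit [Finite G] in
theorem bg10_le_sylow_of_normal {p : ℕ} [Fact p.Prime] {X R N : Subgroup G}
    (hR : IsSylowOf p R N) (hX : IsPGroup p X) (hXN : X ≤ N)
    (hN : N ≤ normalizer (X : Set G)) : X ≤ R := by
  have h1 : IsPGroup p ↥(R ⊔ X) := IsPGroup.to_sup_of_normal_right' hR.2.1 hX (hR.1.trans hN)
  have h2 := hR.2.2 (R ⊔ X) (sup_le hR.1 hXN) h1 le_sup_left
  rw [← h2]; exact le_sup_right

/-- `O_{p'}(N)` centralizes every `p`-subgroup of `N` that is normal in `N`. -/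
theorem bg10_coreIn_le_centralizer {p : ℕ} [Fact p.Prime] {X N : Subgroup G}
    (hX : IsPGroup p X) (hXN : X ≤ N) (hN : N ≤ normalizer (X : Set G)) :
    Helper34.coreIn p N ≤ centralizer (X : Set G) := by
  intro a ha
  rw [Subgroup.mem_centralizer_iff]
  intro x hx
  have haN : a ∈ N := Helper34.coreIn_le p N ha
  have h1 : a * x * a⁻¹ * x⁻¹ ∈ X :=
    X.mul_mem ((Subgroup.mem_normalizer_iff.mp (hN haN) x).mp hx) (X.inv_mem hx)
  have h2 : a * x * a⁻¹ * x⁻¹ ∈ Helper34.coreIn p N := by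
    have hxn := uq_le_normalizer_coreIn p N (hXN hx)
    have h3 := (Subgroup.mem_normalizer_iff.mp hxn a⁻¹).mp (inv_mem ha)
    have e : a * x * a⁻¹ * x⁻¹ = a * (x * a⁻¹ * x⁻¹) := by group
    rw [e]; exact mul_mem ha h3
  have hcop : (Nat.card X).Coprime (Nat.card (Helper34.coreIn p N)) := by
    obtain ⟨n, hn⟩ := IsPGroup.iff_card.mp hX
    rw [hn]
    exact Nat.Coprime.pow_left n (Helper34.card_coreIn_coprime p N).symm
  have h3 : a * x * a⁻¹ * x⁻¹ ∈ X ⊓ Helper34.coreIn p N := Subgroup.mem_inf.mpr ⟨h1, h2⟩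
  rw [(Subgroup.disjoint_of_coprime_natCard hcop).eq_bot, Subgroup.mem_bot] at h3
  calc x * a = (a * x * a⁻¹ * x⁻¹)⁻¹ * (a * x) := by group
    _ = a * x := by rw [h3]; simp

omit [Finite G] in
theorem bg10_conj_mem_centralizer {X : Subgroup G} {n c : G} (hn : n ∈ normalizer (X : Set G))
    (hc : c ∈ centralizer (X : Set G)) : n * c * n⁻¹ ∈ centralizer (X : Set G) := by
  rw [Subgroup.mem_centralizer_iff] at hc ⊢
  intro x hx
  have hn' : n⁻¹ ∈ normalizer (X : Set G) := inv_mem hn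
  have h1 : n⁻¹ * x * n⁻¹⁻¹ ∈ X := (Subgroup.mem_normalizer_iff.mp hn' x).mp hx
  have h2 := hc _ h1
  rw [inv_inv] at h2
  calc x * (n * c * n⁻¹) = n * ((n⁻¹ * x * n) * c) * n⁻¹ := by group
    _ = n * (c * (n⁻¹ * x * n)) * n⁻¹ := by rw [h2]
    _ = n * c * n⁻¹ * x := by group

/-! ### Theorem 10.1 -/

/-- `g X g⁻¹ ≤ M` implies `g ∈ M C_G(X)`. -/
def BGFus (M X : Subgroup G) : Prop :=
  ∀ g : G, (∀ x ∈ X, g * x * g⁻¹ ∈ M) → ∃ m ∈ M, ∃ c ∈ centralizer (X : Set G), g = m * c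

theorem bg10_fus_base {p : ℕ} [Fact p.Prime] {M P X : Subgroup G} (hP : IsSylowOf p P M)
    (hNP : normalizer (P : Set G) ≤ M) (hXM : X ≤ M) (hXp : IsPGroup p X)
    (hc : Nat.card P ≤ Nat.card X) : BGFus M X := by
  intro g hg
  have hX : IsSylowOf p X M := bg10_isSylowOf_of_card hP hXp hXM hc
  have hX' : IsSylowOf p (MulAut.conj g • X) M := by
    refine bg10_isSylowOf_of_card hP (bg10_isPGroup_conj hXp) ?_ ?_
    · intro y hy
      rw [mem_conj_smul] at hy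
      have h1 := hg _ hy
      have e : g * (g⁻¹ * y * g) * g⁻¹ = y := by group
      rwa [e] at h1
    · rw [card_conj_smul]; exact hc
  obtain ⟨m₀, hm₀, e₀⟩ := bg10_sylow_conj hP hX
  obtain ⟨m₁, hm₁, e₁⟩ := bg10_sylow_conj hP hX'
  have hn : m₁⁻¹ * g * m₀ ∈ normalizer (P : Set G) := by
    apply bg10_mem_normalizer
    intro x hx
    have h1 : m₀ * x * m₀⁻¹ ∈ X := by rw [e₀]; exact conj_mem_conj_smul hx
    have h2 : g * (m₀ * x * m₀⁻¹) * g⁻¹ ∈ MulAut.conj g • X := conj_mem_conj_smul h1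
    rw [e₁, mem_conj_smul] at h2
    have e : m₁⁻¹ * g * m₀ * x * (m₁⁻¹ * g * m₀)⁻¹ = m₁⁻¹ * (g * (m₀ * x * m₀⁻¹) * g⁻¹) * m₁ := by
      group
    rw [e]; exact h2
  have hgM : g ∈ M := by
    have h3 := hNP hn
    have e : g = m₁ * (m₁⁻¹ * g * m₀) * m₀⁻¹ := by group
    rw [e]; exact M.mul_mem (M.mul_mem hm₁ h3) (M.inv_mem hm₀)
  exact ⟨g, hgM, 1, one_mem _, (mul_one g).symm⟩

/-- Claim A: for `g X g⁻¹ ≤ M` there is a Sylow `p`-subgroup `R` of `N_G(X)` with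
`g R g⁻¹ ≤ M`, strictly larger than `X`. -/
theorem bg10_fus_sylow {p : ℕ} [Fact p.Prime] {M P X : Subgroup G} (hP : IsSylowOf p P M)
    (hPtop : IsSylowOf p P ⊤) (hXp : IsPGroup p X) (hc : Nat.card X < Nat.card P)
    (IH : ∀ Y : Subgroup G, Y ≤ M → IsPGroup p Y → Nat.card X < Nat.card Y → BGFus M Y)
    (g : G) (hg : ∀ x ∈ X, g * x * g⁻¹ ∈ M) :
    ∃ R : Subgroup G, IsSylowOf p R (normalizer (X : Set G)) ∧ (∀ r ∈ R, g * r * g⁻¹ ∈ M) ∧
      Nat.card X < Nat.card R := by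
  have hpp : p.Prime := Fact.out
  have hX'M : MulAut.conj g • X ≤ M := by
    intro y hy
    rw [mem_conj_smul] at hy
    have h1 := hg _ hy
    have e : g * (g⁻¹ * y * g) * g⁻¹ = y := by group
    rwa [e] at h1
  have hX'p : IsPGroup p ↥(MulAut.conj g • X) := bg10_isPGroup_conj hXp
  obtain ⟨Q, hQ, hX'Q⟩ := exists_isSylowOf_ge hX'p hX'M
  have hlt : MulAut.conj g • X < Q := by
    refine lt_of_le_of_ne hX'Q ?_
    intro e
    have h1 : Nat.card Q = Nat.card P := bg10_sylow_card hP hQ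
    rw [← e, card_conj_smul] at h1
    omega
  obtain ⟨y, hyQ, hyN, hyX⟩ := exists_mem_normalizer_not_mem hpp hQ.2.1 hlt
  obtain ⟨Y', hY'def⟩ : ∃ Y' : Subgroup G, Y' = MulAut.conj g • X ⊔ zpowers y := ⟨_, rfl⟩
  have hY'Q : Y' ≤ Q := by
    rw [hY'def]; exact sup_le hX'Q ((zpowers_le).mpr hyQ)
  have hY'p : IsPGroup p Y' := hQ.2.1.to_le hY'Q
  have hY'M : Y' ≤ M := hY'Q.trans hQ.1
  have hX'Y' : MulAut.conj g • X ≤ Y' := by rw [hY'def]; exact le_sup_left
  have hyY' : y ∈ Y' := by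
    rw [hY'def]; exact (le_sup_right : zpowers y ≤ _) (mem_zpowers y)
  have hcard : Nat.card X < Nat.card Y' := by
    by_contra hcon
    have h1 : MulAut.conj g • X = Y' :=
      Subgroup.eq_of_le_of_card_ge hX'Y' (by rw [card_conj_smul]; omega)
    exact hyX (by rw [h1]; exact hyY')
  have hY'N : Y' ≤ normalizer ((MulAut.conj g • X : Subgroup G) : Set G) := by
    rw [hY'def]; exact sup_le le_normalizer ((zpowers_le).mpr hyN)
  -- `Y = g⁻¹ Y' g`
  have hYN : MulAut.conj g⁻¹ • Y' ≤ normalizer (X : Set G) := by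
    intro z hz
    rw [mem_conj_smul, inv_inv] at hz
    have hw := hY'N hz
    apply bg10_mem_normalizer
    intro x hx
    have h1 : g * x * g⁻¹ ∈ MulAut.conj g • X := conj_mem_conj_smul hx
    have h2 := (Subgroup.mem_normalizer_iff.mp hw _).mp h1
    rw [mem_conj_smul] at h2
    have e : g⁻¹ * (g * z * g⁻¹ * (g * x * g⁻¹) * (g * z * g⁻¹)⁻¹) * g = z * x * z⁻¹ := by group
    rwa [e] at h2
  have hYp : IsPGroup p ↥(MulAut.conj g⁻¹ • Y') := bg10_isPGroup_conj hY'p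
  obtain ⟨R₀, hR₀, hYR₀⟩ := exists_isSylowOf_ge hYp hYN
  obtain ⟨h, hh⟩ := bg10_exists_conj_le hPtop hR₀.2.1
  have hfus : ∀ y' ∈ Y', h * g⁻¹ * y' * (h * g⁻¹)⁻¹ ∈ M := by
    intro y' hy'
    have h1 : g⁻¹ * y' * g ∈ MulAut.conj g⁻¹ • Y' := by
      rw [mem_conj_smul, inv_inv]
      have e : g * (g⁻¹ * y' * g) * g⁻¹ = y' := by group
      rw [e]; exact hy'
    have h2 := hP.1 (hh _ (hYR₀ h1))
    have e : h * g⁻¹ * y' * (h * g⁻¹)⁻¹ = h * (g⁻¹ * y' * g) * h⁻¹ := by group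
    rw [e]; exact h2
  obtain ⟨m, hm, c', hc', e⟩ := IH Y' hY'M hY'p hcard (h * g⁻¹) hfus
  have hh_eq : h = m * c' * g := by
    calc h = h * g⁻¹ * g := by group
      _ = m * c' * g := by rw [e]
  have hcX : g⁻¹ * c' * g ∈ centralizer (X : Set G) := by
    rw [Subgroup.mem_centralizer_iff] at hc' ⊢
    intro x hx
    have h1 := hc' _ (hX'Y' (conj_mem_conj_smul hx))
    calc x * (g⁻¹ * c' * g) = g⁻¹ * (g * x * g⁻¹ * c') * g := by group
      _ = g⁻¹ * (c' * (g * x * g⁻¹)) * g := by rw [h1]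
      _ = g⁻¹ * c' * g * x := by group
  have hcN : g⁻¹ * c' * g ∈ normalizer (X : Set G) := centralizer_le_normalizer _ hcX
  refine ⟨MulAut.conj (g⁻¹ * c' * g) • R₀, bg10_isSylowOf_conj hR₀ hcN, ?_, ?_⟩
  · intro r hr
    rw [mem_conj_smul] at hr
    have h2 := hP.1 (hh _ hr)
    have e2 : g * r * g⁻¹ =
        m⁻¹ * (h * ((g⁻¹ * c' * g)⁻¹ * r * (g⁻¹ * c' * g)) * h⁻¹) * m := by
      rw [hh_eq]; group
    rw [e2]
    exact M.mul_mem (M.mul_mem (M.inv_mem hm) h2) hm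
  · rw [card_conj_smul]
    have h1 : Nat.card ↥(MulAut.conj g⁻¹ • Y') ≤ Nat.card R₀ := Subgroup.card_le_of_le hYR₀
    rw [card_conj_smul] at h1
    omega

/-- Claim B: `N_G(X) = N_M(X) C_G(X)`, given a Sylow `p`-subgroup `R ≤ M` of `N_G(X)` for which
fusion is controlled. -/
theorem bg10_fus_normalizer {p : ℕ} [Fact p.Prime] (hG : IsMinSimpleOddOrder G) (hU : BGUniq G)
    {M X R : Subgroup G} (hM : IsCoatom M) (hXp : IsPGroup p X) (hX1 : X ≠ ⊥) (hXM : X ≤ M)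
    (hR : IsSylowOf p R (normalizer (X : Set G))) (hRM : R ≤ M) (hT : BGFus M R) :
    ∀ n ∈ normalizer (X : Set G), ∃ m ∈ M, ∃ c ∈ centralizer (X : Set G), n = m * c := by
  have hpp : p.Prime := Fact.out
  have hsimple := hG.2.1
  have hp2 : p ≠ 2 := by
    rintro rfl
    have h1 : 2 ∣ Nat.card G :=
      (dvd_card_of_isPGroup_ne_bot hXp hX1).trans (Subgroup.card_subgroup_dvd_card X)
    exact (Nat.not_even_iff_odd.mpr hG.1) (even_iff_two_dvd.mpr h1)
  have hX2 : X ≠ ⊤ := by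
    intro h
    rw [h] at hXM
    exact hM.1 (top_le_iff.mp hXM)
  have hN : normalizer (X : Set G) ≠ ⊤ := normalizer_ne_top_of_simple hX1 hX2
  have hXR : X ≤ R := bg10_le_sylow_of_normal hR hXp le_normalizer le_rfl
  by_cases hr : PRankLE p 2 ↥R
  · intro n hn
    obtain ⟨s, hs, a, ha, n', hn', e⟩ := uq_factor_of_rank2 hG hp2 hN hR hr n hn
    have haN : a ∈ normalizer (X : Set G) := Helper34.coreIn_le p _ ha
    have haC : a ∈ centralizer (X : Set G) := bg10_coreIn_le_centralizer hXp le_normalizer le_rfl ha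
    have hn'N : n' ∈ normalizer (X : Set G) := by
      have e' : n' = a⁻¹ * s⁻¹ * n := by rw [e]; group
      rw [e']
      exact mul_mem (mul_mem (inv_mem haN) (inv_mem (hR.1 hs))) hn
    obtain ⟨m', hm', c', hc', e'⟩ := hT n' (fun r hr' =>
      hRM ((Subgroup.mem_normalizer_iff.mp hn' r).mp hr'))
    have hc'X : c' ∈ centralizer (X : Set G) := Subgroup.centralizer_le hXR hc'
    have hm'N : m' ∈ normalizer (X : Set G) := by
      have e'' : m' = n' * c'⁻¹ := by rw [e']; group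
      rw [e'']
      exact mul_mem hn'N (inv_mem (centralizer_le_normalizer _ hc'X))
    have h1 : m'⁻¹ * a * m'⁻¹⁻¹ ∈ centralizer (X : Set G) :=
      bg10_conj_mem_centralizer (inv_mem hm'N) haC
    rw [inv_inv] at h1
    refine ⟨s * m', M.mul_mem (hRM hs) hm', m'⁻¹ * a * m' * c', mul_mem h1 hc'X, ?_⟩
    rw [e, e']; group
  · have huniq := bg10_uniq_of_rank3 hU hpp hM hRM hr
    obtain ⟨L, hL, hNL⟩ := uq_exists_coatom_ge hN
    have hLM : L = M := huniq L hL (hR.1.trans hNL)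
    intro n hn
    exact ⟨n, hLM ▸ hNL hn, 1, one_mem _, (mul_one n).symm⟩

theorem bg10_fus_step {p : ℕ} [Fact p.Prime] (hG : IsMinSimpleOddOrder G) (hU : BGUniq G)
    {M P X : Subgroup G} (hM : IsCoatom M) (hP : IsSylowOf p P M) (hPtop : IsSylowOf p P ⊤)
    (hXp : IsPGroup p X) (hX1 : X ≠ ⊥) (hXM : X ≤ M) (hc : Nat.card X < Nat.card P)
    (IH : ∀ Y : Subgroup G, Y ≤ M → IsPGroup p Y → Nat.card X < Nat.card Y → BGFus M Y) :
    BGFus M X := by
  intro g hg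
  obtain ⟨R₁, hR₁, hR₁M, hcR₁⟩ := bg10_fus_sylow hP hPtop hXp hc IH 1 (fun x hx => by
    simpa using hXM hx)
  have hR₁M' : R₁ ≤ M := fun r hr => by simpa using hR₁M r hr
  obtain ⟨R₂, hR₂, hR₂M, -⟩ := bg10_fus_sylow hP hPtop hXp hc IH g hg
  have hT₁ : BGFus M R₁ := IH R₁ hR₁M' hR₁.2.1 hcR₁
  have hXR₁ : X ≤ R₁ := bg10_le_sylow_of_normal hR₁ hXp le_normalizer le_rfl
  obtain ⟨u, hu, e⟩ := bg10_sylow_conj hR₁ hR₂
  obtain ⟨m, hm, c, hc', e1⟩ := hT₁ (g * u) (fun r hr => by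
    have h1 : u * r * u⁻¹ ∈ R₂ := by rw [e]; exact conj_mem_conj_smul hr
    have h2 := hR₂M _ h1
    have e2 : g * u * r * (g * u)⁻¹ = g * (u * r * u⁻¹) * g⁻¹ := by group
    rw [e2]; exact h2)
  have hcX : c ∈ centralizer (X : Set G) := Subgroup.centralizer_le hXR₁ hc'
  obtain ⟨m₁, hm₁, c₁, hc₁, e3⟩ := bg10_fus_normalizer hG hU hM hXp hX1 hXM hR₁ hR₁M' hT₁ u hu
  have hm₁N : m₁ ∈ normalizer (X : Set G) := by
    have e4 : m₁ = u * c₁⁻¹ := by rw [e3]; group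
    rw [e4]
    exact mul_mem hu (inv_mem (centralizer_le_normalizer _ hc₁))
  refine ⟨m * m₁⁻¹, M.mul_mem hm (M.inv_mem hm₁), m₁ * (c * c₁⁻¹) * m₁⁻¹,
    bg10_conj_mem_centralizer hm₁N (mul_mem hcX (inv_mem hc₁)), ?_⟩
  have e5 : g = m * c * u⁻¹ := by rw [← e1]; group
  rw [e5, e3]; group

/-- **Bender–Glauberman 10.1(a)**, from the Uniqueness Theorem: if `N_G(P) ≤ M` for a Sylow
`p`-subgroup `P` of the maximal subgroup `M`, then `g X g⁻¹ ≤ M` implies `g ∈ M C_G(X)` for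
every nontrivial `p`-subgroup `X` of `M`. -/
theorem bg10_fus {p : ℕ} [Fact p.Prime] (hG : IsMinSimpleOddOrder G) (hU : BGUniq G)
    {M P : Subgroup G} (hM : IsCoatom M) (hP : IsSylowOf p P M)
    (hNP : normalizer (P : Set G) ≤ M) :
    ∀ X : Subgroup G, X ≤ M → IsPGroup p X → X ≠ ⊥ → BGFus M X := by
  have hPtop : IsSylowOf p P ⊤ := hP.of_normalizer_inf_le le_top (inf_le_left.trans hNP)
  have key : ∀ k : ℕ, ∀ X : Subgroup G, X ≤ M → IsPGroup p X → X ≠ ⊥ →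
      Nat.card P ≤ Nat.card X + k → BGFus M X := by
    intro k
    induction k with
    | zero =>
      intro X hXM hXp _ hc
      exact bg10_fus_base hP hNP hXM hXp (by omega)
    | succ k ih =>
      intro X hXM hXp hX1 hc
      by_cases hc' : Nat.card P ≤ Nat.card X
      · exact bg10_fus_base hP hNP hXM hXp hc'
      · refine bg10_fus_step hG hU hM hP hPtop hXp hX1 hXM (by omega) ?_
        intro Y hYM hYp hcY
        refine ih Y hYM hYp ?_ (by omega)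
        rintro rfl
        have h1 : Nat.card (⊥ : Subgroup G) = 1 := Subgroup.card_bot
        have h2 : 0 < Nat.card X := Nat.card_pos
        omega
  intro X hXM hXp hX1
  exact key (Nat.card P) X hXM hXp hX1 (by omega)

/-- **Bender–Glauberman 10.1**, from the Uniqueness Theorem, in the form of the frozen
statement. -/
theorem bg10_sigma_fusion (hG : IsMinSimpleOddOrder G) (hU : BGUniq G) {M : Subgroup G}
    (hM : IsCoatom M) {p : ℕ} [Fact p.Prime] (hp : p ∈ Cfsg.sigma M) {X : Subgroup G}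
    (hXp : IsPGroup p X) (hX1 : X ≠ ⊥) (hXM : X ≤ M) :
    (∀ g : G, X.map (MulAut.conj g).toMonoidHom ≤ M →
        ∃ m ∈ M, ∃ c ∈ centralizer (X : Set G), g = m * c) ∧
      normalizer (X : Set G) = (M ⊓ normalizer (X : Set G)) ⊔ centralizer (X : Set G) := by
  obtain ⟨-, -, P₀, hP₀⟩ := hp
  have hT := bg10_fus hG hU hM (isSylowOf_map P₀) hP₀ X hXM hXp hX1
  refine ⟨fun g hg => hT g (fun x hx => hg ⟨x, hx, rfl⟩), le_antisymm ?_ ?_⟩
  · intro n hn
    obtain ⟨m, hm, c, hc, e⟩ := hT n (fun x hx =>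
      hXM ((Subgroup.mem_normalizer_iff.mp hn x).mp hx))
    have hmN : m ∈ normalizer (X : Set G) := by
      have e' : m = n * c⁻¹ := by rw [e]; group
      rw [e']
      exact mul_mem hn (inv_mem (centralizer_le_normalizer _ hc))
    rw [e]
    exact Subgroup.mul_mem_sup (Subgroup.mem_inf.mpr ⟨hm, hmN⟩) hc
  · exact sup_le inf_le_right (centralizer_le_normalizer _)

end Cfsg.Agent.Helper22
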