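/-
helper22: Bender–Glauberman, Section 10, Theorem 10.2 (`M_α` and `M_σ` are Hall subgroups of
`M` and of `G`, `M/M_α` has rank at most two and `M'/M_α` is nilpotent), proved from the
conclusion of the Uniqueness Theorem (B&G 9.6) taken as a hypothesis `BGUniq G`.
Everything lives in `Cfsg.Agent.Helper22`.
-/
import Cfsg.Agent.Helper22.BG10a
import Cfsg.Agent.Helper31.WVTransfer

set_option autoImplicit false

namespace Cfsg.Agent.Helper22

open Cfsg Subgroup Cfsg.Agent.Helper23 Cfsg.Agent.Helper35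
open scoped Pointwise commutatorElement

universe u

variable {G : Type u} [Group G] [Finite G]

omit [Finite G] in
theorem bg10_commutator_eq_top (hG : IsMinSimpleOddOrder G) :
    (⁅(⊤ : Subgroup G), ⊤⁆ : Subgroup G) = ⊤ := by
  have hsimple := hG.2.1
  have hn : (⁅(⊤ : Subgroup G), ⊤⁆ : Subgroup G).Normal := inferInstance
  rcases hn.eq_bot_or_eq_top with h | h
  · exfalso
    apply hG.2.2.1
    refine ⟨⟨fun a b => ?_⟩⟩
    have h1 : ⁅a, b⁆ ∈ (⁅(⊤ : Subgroup G), ⊤⁆ : Subgroup G) :=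
      Subgroup.commutator_mem_commutator (Subgroup.mem_top a) (Subgroup.mem_top b)
    rw [h, Subgroup.mem_bot] at h1
    exact commutatorElement_eq_one_iff_mul_comm.mp h1
  · exact h

theorem bg10_not_dvd_index {p : ℕ} [Fact p.Prime] {P : Subgroup G} (hP : IsSylowOf p P ⊤) :
    ¬ p ∣ P.index := by
  obtain ⟨P', hP'⟩ := hP.exists_sylow_top
  rw [← hP']; exact P'.not_dvd_index

/-- For `p ∈ σ(M)` (witnessed by the Sylow subgroup `P`), `P ≤ M'`: focal subgroup theorem plus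
control of fusion. -/
theorem bg10_sylow_le_commutator {p : ℕ} [Fact p.Prime] (hG : IsMinSimpleOddOrder G)
    (hU : BGUniq G) {M P : Subgroup G} (hM : IsCoatom M) (hP : IsSylowOf p P M)
    (hNP : normalizer (P : Set G) ≤ M) : P ≤ ⁅M, M⁆ := by
  have hPtop : IsSylowOf p P ⊤ := hP.of_normalizer_inf_le le_top (inf_le_left.trans hNP)
  have hidx : ¬ p ∣ P.relIndex ⊤ := by
    rw [Subgroup.relIndex_top_right]; exact bg10_not_dvd_index hPtop
  have hfoc := Helper31.focal_in (M := (⊤ : Subgroup G)) le_top hP.2.1 hidx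
  rw [bg10_commutator_eq_top hG, inf_top_eq] at hfoc
  refine hfoc.trans ?_
  rw [Subgroup.closure_le]
  rintro z ⟨s, hs, g, -, hgs, rfl⟩
  by_cases hs1 : s = 1
  · subst hs1
    have e : (1 : G)⁻¹ * (g⁻¹ * 1 * g) = 1 := by group
    rw [e]; exact one_mem _
  · have hX1 : zpowers s ≠ ⊥ := by
      rw [Ne, zpowers_eq_bot]; exact hs1
    have hXP : zpowers s ≤ P := (zpowers_le).mpr hs
    have hT := bg10_fus hG hU hM hP hNP (zpowers s) (hXP.trans hP.1) (hP.2.1.to_le hXP) hX1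
    have hgs' : g⁻¹ * s * g⁻¹⁻¹ ∈ P := by rw [inv_inv]; exact hgs
    obtain ⟨m, hm, c, hc, e⟩ := hT g⁻¹ (fun x hx => by
      obtain ⟨k, rfl⟩ := mem_zpowers_iff.mp hx
      rw [← conj_zpow]
      exact hP.1 (P.zpow_mem hgs' k))
    have hcs : s * c = c * s := (Subgroup.mem_centralizer_iff.mp hc) s (mem_zpowers s)
    have e3 : g⁻¹ * s * g = m * s * m⁻¹ := by
      calc g⁻¹ * s * g = g⁻¹ * s * g⁻¹⁻¹ := by rw [inv_inv]
        _ = m * c * s * (m * c)⁻¹ := by rw [e]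
        _ = m * (c * s) * c⁻¹ * m⁻¹ := by group
        _ = m * (s * c) * c⁻¹ * m⁻¹ := by rw [hcs]
        _ = m * s * m⁻¹ := by group
    have e2 : s⁻¹ * (g⁻¹ * s * g) = ⁅s⁻¹, m⁆ := by
      rw [e3, commutatorElement_def]; group
    rw [e2]
    exact Subgroup.commutator_mem_commutator (M.inv_mem (hP.1 hs)) hm

theorem bg10_sylow_le_commutator' {p : ℕ} [Fact p.Prime] (hG : IsMinSimpleOddOrder G)
    (hU : BGUniq G) {M : Subgroup G} (hM : IsCoatom M) (P₀ : Sylow p ↥M)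
    (hNP : normalizer (((P₀ : Subgroup ↥M).map M.subtype : Subgroup G) : Set G) ≤ M) :
    (P₀ : Subgroup ↥M) ≤ commutator ↥M := by
  intro x hx
  have h1 : (x : G) ∈ ⁅M, M⁆ :=
    bg10_sylow_le_commutator hG hU hM (isSylowOf_map P₀) hNP ⟨x, hx, rfl⟩
  rw [← Subgroup.map_subtype_commutator] at h1
  obtain ⟨w, hw, hwx⟩ := h1
  have e : w = x := Subtype.ext hwx
  rw [← e]; exact hw

/-! ### The quotient by `O_π` -/

section Quot

variable {H : Type u} [Group H] [Finite H]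

theorem bg10_comap_le_piCore {π π' : Set ℕ} (hsub : π ⊆ π') (D : Subgroup (H ⧸ piCore π H))
    [D.Normal] (hD : ∀ q : ℕ, q.Prime → q ∣ Nat.card D → q ∈ π') :
    D.comap (QuotientGroup.mk' (piCore π H)) ≤ piCore π' H := by
  apply le_sSup
  refine ⟨inferInstance, ?_⟩
  intro q hq hqd
  have hle : piCore π H ≤ D.comap (QuotientGroup.mk' (piCore π H)) := by
    intro x hx
    rw [Subgroup.mem_comap, QuotientGroup.mk'_apply, (QuotientGroup.eq_one_iff x).mpr hx]
    exact D.one_mem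
  have hcard := card_map_mk_mul_card (piCore π H) (D.comap (QuotientGroup.mk' (piCore π H))) hle
  rw [Subgroup.map_comap_eq_self_of_surjective (QuotientGroup.mk'_surjective _)] at hcard
  rw [← hcard] at hqd
  rcases (Nat.Prime.dvd_mul hq).mp hqd with h | h
  · exact hD q hq h
  · exact hsub (mem_of_dvd_card_piCore π hq h)

theorem bg10_primes_pCore (q : ℕ) [Fact q.Prime] (K : Type u) [Group K] [Finite K] :
    ∀ r : ℕ, r.Prime → r ∣ Nat.card (pCore q K) → r = q := by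
  intro r hr hrd
  have hq : q.Prime := Fact.out
  obtain ⟨n, hn⟩ := IsPGroup.iff_card.mp (Helper24.isPGroup_pCore q K)
  rw [hn] at hrd
  exact (Nat.prime_dvd_prime_iff_eq hr hq).mp (hr.dvd_of_dvd_pow hrd)

theorem bg10_pCore_quot_eq_bot {π : Set ℕ} {q : ℕ} (hq : q.Prime) (hqπ : q ∈ π) :
    pCore q (H ⧸ piCore π H) = ⊥ := by
  have := Fact.mk hq
  have hD : ∀ r : ℕ, r.Prime → r ∣ Nat.card (pCore q (H ⧸ piCore π H)) → r ∈ π := by
    intro r hr hrd
    rw [bg10_primes_pCore q _ r hr hrd]; exact hqπ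
  have h1 := bg10_comap_le_piCore (le_refl π) (pCore q (H ⧸ piCore π H)) hD
  rw [eq_bot_iff]
  intro d hd
  obtain ⟨x, rfl⟩ := QuotientGroup.mk'_surjective (piCore π H) d
  have hx : x ∈ piCore π H := h1 hd
  rw [Subgroup.mem_bot, QuotientGroup.mk'_apply]
  exact (QuotientGroup.eq_one_iff x).mpr hx

theorem bg10_pRank_quot {π : Set ℕ} (hπ : ∀ q : ℕ, q.Prime → q ∉ π → PRankLE q 2 H) {q : ℕ}
    (hq : q.Prime) (hqπ : q ∉ π) : PRankLE q 2 (H ⧸ piCore π H) := by
  have := Fact.mk hq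
  refine pRankLE_quotient q 2 (piCore π H) ?_ (hπ q hq hqπ)
  rw [Nat.coprime_comm, Nat.Prime.coprime_iff_not_dvd hq]
  intro h
  exact hqπ (mem_of_dvd_card_piCore π hq h)

theorem bg10_pRank_pCore_quot {π : Set ℕ} (hπ : ∀ q : ℕ, q.Prime → q ∉ π → PRankLE q 2 H)
    (q : ℕ) [Fact q.Prime] : PRankLE q 2 ↥(pCore q (H ⧸ piCore π H)) := by
  have hq : q.Prime := Fact.out
  by_cases hqπ : q ∈ π
  · rw [bg10_pCore_quot_eq_bot hq hqπ]
    intro B _ _
    have h1 : Nat.card B ≤ Nat.card (⊥ : Subgroup (H ⧸ piCore π H)) :=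
      Subgroup.card_le_card_group B
    rw [Subgroup.card_bot] at h1
    exact h1.trans (Nat.one_le_pow _ _ hq.pos)
  · exact pRankLE_subgroup (bg10_pRank_quot hπ hq hqπ) _

theorem bg10_commutator_quot_le_fitting [Group.IsSolvable H] (hodd : Odd (Nat.card H))
    {π : Set ℕ} (hπ : ∀ q : ℕ, q.Prime → q ∉ π → PRankLE q 2 H) :
    commutator (H ⧸ piCore π H) ≤ fittingSubgroup (H ⧸ piCore π H) := by
  have hodd' : Odd (Nat.card (H ⧸ piCore π H)) :=
    hodd.of_dvd_nat (Subgroup.card_quotient_dvd_card _)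
  exact commutator_le_fittingSubgroup_of_rank2 hodd' (fun q _ => bg10_pRank_pCore_quot hπ q)

omit [Finite H] in
theorem bg10_map_commutator_le (N : Subgroup H) [N.Normal] :
    (commutator H).map (QuotientGroup.mk' N) ≤ commutator (H ⧸ N) := by
  rw [commutator_def, commutator_def, Subgroup.map_commutator]
  exact Subgroup.commutator_mono le_top le_top

theorem bg10_map_le_pCore [Group.IsSolvable H] (hodd : Odd (Nat.card H)) {π : Set ℕ}
    (hπ : ∀ q : ℕ, q.Prime → q ∉ π → PRankLE q 2 H) {p : ℕ} [Fact p.Prime] {P : Subgroup H}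
    (hP : IsPGroup p P) (hPc : P ≤ commutator H) :
    P.map (QuotientGroup.mk' (piCore π H)) ≤ pCore p (H ⧸ piCore π H) := by
  apply le_pCore_of_le_fittingSubgroup p _ (hP.map _)
  refine le_trans ?_ (bg10_commutator_quot_le_fitting hodd hπ)
  exact (Subgroup.map_mono hPc).trans (bg10_map_commutator_le _)

/-- A `p`-subgroup of `H'` lies in `O_{π'}(H)` when `p ∈ π' ⊇ π` and `H` has `q`-rank at most
two for all `q ∉ π`. -/
theorem bg10_le_piCore_of_le_commutator [Group.IsSolvable H] (hodd : Odd (Nat.card H))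
    {π π' : Set ℕ} (hsub : π ⊆ π') (hπ : ∀ q : ℕ, q.Prime → q ∉ π → PRankLE q 2 H) {p : ℕ}
    [Fact p.Prime] (hp : p ∈ π') {P : Subgroup H} (hP : IsPGroup p P)
    (hPc : P ≤ commutator H) : P ≤ piCore π' H := by
  have hD : ∀ r : ℕ, r.Prime → r ∣ Nat.card (pCore p (H ⧸ piCore π H)) → r ∈ π' := by
    intro r hr hrd
    rw [bg10_primes_pCore p _ r hr hrd]; exact hp
  have h1 := bg10_comap_le_piCore hsub (pCore p (H ⧸ piCore π H)) hD
  intro x hx
  apply h1
  rw [Subgroup.mem_comap]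
  exact bg10_map_le_pCore hodd hπ hP hPc ⟨x, hx, rfl⟩

theorem bg10_not_dvd_index_of_sylow_le {p : ℕ} [Fact p.Prime] (P : Sylow p H) {A : Subgroup H}
    (h : (P : Subgroup H) ≤ A) : ¬ p ∣ A.index := by
  intro hd
  exact P.not_dvd_index (hd.trans (Subgroup.index_dvd_of_le h))

theorem bg10_map_commutator_nilpotent [Group.IsSolvable H] (hodd : Odd (Nat.card H))
    {π : Set ℕ} (hπ : ∀ q : ℕ, q.Prime → q ∉ π → PRankLE q 2 H) :
    Group.IsNilpotent ↥((commutator H).map (QuotientGroup.mk' (piCore π H))) := by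
  have h1 : (commutator H).map (QuotientGroup.mk' (piCore π H)) ≤
      fittingSubgroup (H ⧸ piCore π H) :=
    (bg10_map_commutator_le _).trans (bg10_commutator_quot_le_fitting hodd hπ)
  have hnil := fittingSubgroup_isNilpotent (H ⧸ piCore π H)
  exact Group.nilpotent_of_mulEquiv
    (MonoidHom.ofInjective (Subgroup.inclusion_injective h1)).symm

theorem bg10_rankLE_quot {π : Set ℕ} (hπ : ∀ q : ℕ, q.Prime → q ∉ π → PRankLE q 2 H)
    (hidx : ∀ q : ℕ, q.Prime → q ∈ π → ¬ q ∣ (piCore π H).index) :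
    RankLE 2 (H ⧸ piCore π H) := by
  intro q hq
  by_cases hqπ : q ∈ π
  · intro B _ hBq
    have := Fact.mk hq
    have hBp : IsPGroup q B := fun b => ⟨1, by
      rw [pow_one]
      exact Subtype.ext (by simpa using hBq b b.2)⟩
    obtain ⟨n, hn⟩ := IsPGroup.iff_card.mp hBp
    have h1 : Nat.card B ∣ (piCore π H).index := by
      rw [Subgroup.index_eq_card]; exact Subgroup.card_subgroup_dvd_card B
    rw [hn] at h1 ⊢
    cases n with
    | zero => exact Nat.one_le_pow _ _ hq.pos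
    | succ n => exact absurd ((dvd_pow_self q (Nat.succ_ne_zero n)).trans h1) (hidx q hq hqπ)
  · exact bg10_pRank_quot hπ hq hqπ

end Quot

/-! ### Theorem 10.2 -/

omit [Finite G] in
theorem bg10_relIndex_map_subtype (M : Subgroup G) (A : Subgroup ↥M) :
    (A.map M.subtype).relIndex M = A.index := by
  have h : (A.map M.subtype).subgroupOf M = A :=
    Subgroup.comap_map_eq_self_of_injective M.subtype_injective A
  rw [Subgroup.relIndex, h]

/-- `α(M) ⊆ σ(M)`, from the Uniqueness Theorem. -/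
theorem bg10_alpha_sub_sigma (hG : IsMinSimpleOddOrder G) (hU : BGUniq G) {M : Subgroup G}
    (hM : IsCoatom M) : alpha M ⊆ sigma M := by
  rintro p ⟨hp, hr⟩
  have := Fact.mk hp
  have hsimple := hG.2.1
  obtain ⟨P₀⟩ : Nonempty (Sylow p ↥M) := inferInstance
  have hP := isSylowOf_map P₀
  have hrP : ¬ PRankLE p 2 ↥((P₀ : Subgroup ↥M).map M.subtype) :=
    fun h => hr (pRankLE_of_isSylowOf hP h)
  have hP1 : (P₀ : Subgroup ↥M).map M.subtype ≠ ⊥ := by
    intro h
    apply hrP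
    intro B _ _
    have h1 : Nat.card B ≤ Nat.card ↥((P₀ : Subgroup ↥M).map M.subtype) :=
      Subgroup.card_le_card_group B
    have hc : Nat.card ↥((P₀ : Subgroup ↥M).map M.subtype) = 1 := by
      rw [h]; exact Subgroup.card_bot
    rw [hc] at h1
    exact h1.trans (Nat.one_le_pow _ _ hp.pos)
  have hP2 : (P₀ : Subgroup ↥M).map M.subtype ≠ ⊤ := by
    intro h
    have h1 := hP.1
    rw [h] at h1
    exact hM.1 (top_le_iff.mp h1)
  have huniq := bg10_uniq_of_rank3 hU hp hM hP.1 hrP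
  obtain ⟨L, hL, hNL⟩ := uq_exists_coatom_ge (normalizer_ne_top_of_simple hP1 hP2)
  have hLM : L = M := huniq L hL (le_normalizer.trans hNL)
  refine ⟨hp, ?_, P₀, hLM ▸ hNL⟩
  exact (dvd_card_of_isPGroup_ne_bot hP.2.1 hP1).trans (Subgroup.card_dvd_of_le hP.1)

theorem bg10_sigma_not_dvd_index {M : Subgroup G} {p : ℕ} (hp : p ∈ sigma M) :
    ¬ p ∣ M.index := by
  obtain ⟨hpp, -, P₀, hN⟩ := hp
  have := Fact.mk hpp
  have hP := isSylowOf_map P₀
  have hPtop : IsSylowOf p ((P₀ : Subgroup ↥M).map M.subtype) ⊤ :=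
    hP.of_normalizer_inf_le le_top (inf_le_left.trans hN)
  intro hd
  exact bg10_not_dvd_index hPtop (hd.trans (Subgroup.index_dvd_of_le hP.1))

/-- Hall criterion for `O_π(M)`, `π ⊆ σ(M)`. -/
theorem bg10_piCoreOf_hall {M : Subgroup G} {π : Set ℕ} (hπσ : π ⊆ sigma M)
    (hsyl : ∀ p ∈ π, ∃ P₀ : Sylow p ↥M, (P₀ : Subgroup ↥M) ≤ piCore π ↥M) :
    IsPiHallOf π (piCoreOf π M) M ∧ IsPiHall π (piCoreOf π M) := by
  have hrel : ∀ p : ℕ, p.Prime → p ∈ π → ¬ p ∣ (piCoreOf π M).relIndex M := by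
    intro p hp hpπ
    have := Fact.mk hp
    obtain ⟨P₀, hP₀⟩ := hsyl p hpπ
    have h1 : (piCoreOf π M).relIndex M = (piCore π ↥M).index :=
      bg10_relIndex_map_subtype M (piCore π ↥M)
    rw [h1]
    exact bg10_not_dvd_index_of_sylow_le P₀ hP₀
  refine ⟨⟨piCoreOf_le π M, fun p hp h => mem_of_dvd_card_piCoreOf π M hp h, hrel⟩,
    fun p hp h => mem_of_dvd_card_piCoreOf π M hp h, ?_⟩
  intro p hp hpπ hd
  rw [← Subgroup.relIndex_mul_index (piCoreOf_le π M)] at hd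
  rcases (Nat.Prime.dvd_mul hp).mp hd with h | h
  · exact hrel p hp hpπ h
  · exact bg10_sigma_not_dvd_index (hπσ hpπ) h

omit [Finite G] in
theorem bg10_pRank_of_not_alpha (M : Subgroup G) :
    ∀ q : ℕ, q.Prime → q ∉ alpha M → PRankLE q 2 ↥M := by
  intro q hq hqα
  by_contra h
  exact hqα ⟨hq, h⟩

/-- Every Sylow `p`-subgroup witnessing `p ∈ σ(M)` lies in `O_{π'}(M)` when `p ∈ π' ⊇ α(M)`. -/
theorem bg10_sylow_le_piCore (hG : IsMinSimpleOddOrder G) (hU : BGUniq G) {M : Subgroup G}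
    (hM : IsCoatom M) {π' : Set ℕ} (hsub : alpha M ⊆ π') {p : ℕ} (hpπ : p ∈ π')
    (hpσ : p ∈ sigma M) : ∃ P₀ : Sylow p ↥M, (P₀ : Subgroup ↥M) ≤ piCore π' ↥M := by
  obtain ⟨hpp, -, P₀, hN⟩ := hpσ
  have := Fact.mk hpp
  have hsolv := uq_isSolvable hG hM.1
  refine ⟨P₀, ?_⟩
  exact bg10_le_piCore_of_le_commutator (uq_odd hG M) hsub (bg10_pRank_of_not_alpha M) hpπ P₀.2
    (bg10_sylow_le_commutator' hG hU hM P₀ hN)

/-- **Bender–Glauberman 10.2(a),(c),(d)**, from the Uniqueness Theorem. -/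
theorem bg10_alpha_hall (hG : IsMinSimpleOddOrder G) (hU : BGUniq G) {M : Subgroup G}
    (hM : IsCoatom M) :
    IsPiHallOf (alpha M) (alphaCore M) M ∧ IsPiHall (alpha M) (alphaCore M) ∧
      alphaCore M ≤ sigmaCore M ∧ RankLE 2 (↥M ⧸ piCore (alpha M) ↥M) ∧
      Group.IsNilpotent ↥((commutator ↥M).map (QuotientGroup.mk' (piCore (alpha M) ↥M))) := by
  have hsolv := uq_isSolvable hG hM.1
  have hασ := bg10_alpha_sub_sigma hG hU hM
  have hsyl : ∀ p ∈ alpha M, ∃ P₀ : Sylow p ↥M, (P₀ : Subgroup ↥M) ≤ piCore (alpha M) ↥M :=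
    fun p hp => bg10_sylow_le_piCore hG hU hM (le_refl _) hp (hασ hp)
  obtain ⟨h1, h2⟩ := bg10_piCoreOf_hall hασ hsyl
  refine ⟨h1, h2, ?_, ?_, bg10_map_commutator_nilpotent (uq_odd hG M) (bg10_pRank_of_not_alpha M)⟩
  · apply Subgroup.map_mono
    apply sSup_le_sSup
    rintro N ⟨hN, hNp⟩
    exact ⟨hN, fun p hp h => hασ (hNp p hp h)⟩
  · refine bg10_rankLE_quot (bg10_pRank_of_not_alpha M) ?_
    intro q hq hqα
    have h3 := h1.2.2 q hq hqα
    have h4 : (piCoreOf (alpha M) M).relIndex M = (piCore (alpha M) ↥M).index :=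
      bg10_relIndex_map_subtype M (piCore (alpha M) ↥M)
    rw [← h4]
    exact h3

/-- **Bender–Glauberman 10.2(b)**, from the Uniqueness Theorem. -/
theorem bg10_sigma_hall (hG : IsMinSimpleOddOrder G) (hU : BGUniq G) {M : Subgroup G}
    (hM : IsCoatom M) :
    IsPiHallOf (sigma M) (sigmaCore M) M ∧ IsPiHall (sigma M) (sigmaCore M) ∧
      ∀ N : Subgroup G, M ≤ normalizer (N : Set G) → IsPiHallOf (sigma M) N M →
        N = sigmaCore M := by
  have hασ := bg10_alpha_sub_sigma hG hU hM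
  have hsyl : ∀ p ∈ sigma M, ∃ P₀ : Sylow p ↥M, (P₀ : Subgroup ↥M) ≤ piCore (sigma M) ↥M :=
    fun p hp => bg10_sylow_le_piCore hG hU hM hασ hp hp
  obtain ⟨h1, h2⟩ := bg10_piCoreOf_hall (le_refl _) hsyl
  refine ⟨h1, h2, ?_⟩
  intro N hMN hN
  have hle : N ≤ sigmaCore M := le_piCoreOf hN.1 hMN hN.2.1
  refine le_antisymm hle ?_
  rw [← Subgroup.relIndex_eq_one]
  by_contra hne
  obtain ⟨q, hq, hqd⟩ := Nat.exists_prime_and_dvd hne
  have hqσ : q ∈ sigma M := h1.2.1 q hq (hqd.trans (Subgroup.relIndex_dvd_card N (sigmaCore M)))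
  apply hN.2.2 q hq hqσ
  rw [← Subgroup.relIndex_mul_relIndex N (sigmaCore M) M hle h1.1]
  exact Dvd.dvd.mul_right hqd _

end Cfsg.Agent.Helper22
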