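/-
helper22: Bender–Glauberman, Section 10, Lemma 10.3 (if `X ≤ M` is an `α(M)'`-group and
`C_{M_α}(X)` has rank at least two then `C_M(X)` is a uniqueness subgroup), proved from the
conclusion of the Uniqueness Theorem (B&G 9.6) taken as a hypothesis `BGUniq G`.
Everything lives in `Cfsg.Agent.Helper22`.
-/
import Cfsg.Agent.Helper22.BG10b

set_option autoImplicit false

namespace Cfsg.Agent.Helper22

open Cfsg Subgroup Cfsg.Agent.Helper23 Cfsg.Agent.Helper35
open scoped Pointwise commutatorElement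

universe u

variable {G : Type u} [Group G] [Finite G]

/-- An elementary abelian subgroup of order exactly `p ^ 2`, from a failure of `PRankLE p 1`. -/
theorem bg10_exists_elemAb_sq {p : ℕ} (hp : p.Prime) {Z : Subgroup G}
    (h : ¬ PRankLE p 1 ↥Z) :
    ∃ E : Subgroup G, E ≤ Z ∧ (∀ x ∈ E, ∀ y ∈ E, x * y = y * x) ∧ (∀ x ∈ E, x ^ p = 1) ∧
      Nat.card E = p ^ 2 := by
  have := Fact.mk hp
  obtain ⟨E₀, hE₀Z, hc, he, hcard⟩ := exists_elemAb_of_not_pRankLE h
  have hE₀p : IsPGroup p E₀ := fun b => ⟨1, by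
    rw [pow_one]
    exact Subtype.ext (by simpa using he b b.2)⟩
  obtain ⟨n, hn⟩ := IsPGroup.iff_card.mp hE₀p
  have hn2 : 2 ≤ n := by
    by_contra hcon
    have h1 : n ≤ 1 := by omega
    have h2 : p ^ n ≤ p ^ 1 := Nat.pow_le_pow_right hp.pos h1
    rw [hn] at hcard
    omega
  have hdvd : p ^ 2 ∣ Nat.card ↥E₀ := by
    rw [hn]; exact pow_dvd_pow p hn2
  obtain ⟨K, hK⟩ := Sylow.exists_subgroup_card_pow_prime p hdvd
  refine ⟨K.map E₀.subtype, (Subgroup.map_subtype_le K).trans hE₀Z, ?_, ?_, ?_⟩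
  · rintro _ ⟨x, -, rfl⟩ _ ⟨y, -, rfl⟩
    exact congrArg (fun z : ↥E₀ => (z : G)) (hc.is_comm.comm x y)
  · rintro _ ⟨x, -, rfl⟩
    exact he _ x.2
  · rw [Subgroup.card_map_of_injective E₀.subtype_injective, hK]

theorem bg10_le_normalizer_inf_centralizer {X P E : Subgroup G}
    (hXP : X ≤ normalizer (P : Set G)) (hXE : X ≤ centralizer (E : Set G)) :
    X ≤ normalizer ((P ⊓ centralizer (E : Set G) : Subgroup G) : Set G) := by
  intro x hx
  apply bg10_mem_normalizer
  intro r hr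
  obtain ⟨hrP, hrE⟩ := Subgroup.mem_inf.mp hr
  refine Subgroup.mem_inf.mpr ⟨(Subgroup.mem_normalizer_iff.mp (hXP hx) r).mp hrP, ?_⟩
  rw [Subgroup.mem_centralizer_iff] at hrE ⊢
  intro e he
  have h1 : e * x = x * e := (Subgroup.mem_centralizer_iff.mp (hXE hx)) e he
  have h2 := hrE e he
  calc e * (x * r * x⁻¹) = (e * x) * r * x⁻¹ := by group
    _ = x * (e * r) * x⁻¹ := by rw [h1]; group
    _ = x * (r * e) * x⁻¹ := by rw [h2]
    _ = x * r * (x⁻¹ * (x * e)) * x⁻¹ := by group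
    _ = x * r * (x⁻¹ * (e * x)) * x⁻¹ := by rw [h1]
    _ = x * r * x⁻¹ * e := by group

/-- A Sylow `p`-subgroup of a subgroup `A ≤ M` with `p ∤ |M : A|` is a Sylow `p`-subgroup
of `M`. -/
theorem bg10_isSylowOf_of_sylowSet {p : ℕ} [Fact p.Prime] {A M P : Subgroup G} (hAM : A ≤ M)
    (hidx : ¬ p ∣ A.relIndex M) (hP : P ∈ sylowSet p A) : IsSylowOf p P M := by
  have hpp : p.Prime := Fact.out
  have hcard : Nat.card A * A.relIndex M = Nat.card M := by
    have h1 := Subgroup.relIndex_mul_relIndex ⊥ A M bot_le hAM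
    rwa [Subgroup.relIndex_bot_left, Subgroup.relIndex_bot_left] at h1
  have hr0 : A.relIndex M ≠ 0 := by
    intro h0
    rw [h0, mul_zero] at hcard
    exact (Nat.card_pos (α := ↥M)).ne hcard
  have hfac : (Nat.card M).factorization p = (Nat.card A).factorization p := by
    rw [← hcard, Nat.factorization_mul (Nat.card_pos (α := ↥A)).ne' hr0, Finsupp.add_apply,
      Nat.factorization_eq_zero_of_not_dvd hidx, add_zero]
  have hPM : P ∈ sylowSet p M := ⟨hP.1.trans hAM, by rw [hP.2, hfac]⟩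
  obtain ⟨Q, hQ⟩ := exists_sylow_of_mem_sylowSet hPM
  rw [← hQ]
  exact isSylowOf_map Q

/-- **Bender–Glauberman 10.3**, from the Uniqueness Theorem. -/
theorem bg10_centralizer_uniq (hG : IsMinSimpleOddOrder G) (hU : BGUniq G) {M : Subgroup G}
    (hM : IsCoatom M) {X : Subgroup G} (hXM : X ≤ M)
    (hXα : ∀ p : ℕ, p.Prime → p ∣ Nat.card X → p ∉ alpha M)
    (hr : ¬ RankLE 1 ↥(alphaCore M ⊓ centralizer (X : Set G))) :
    InUniqueMaximal (M ⊓ centralizer (X : Set G)) := by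
  have hex : ∃ p : ℕ, p.Prime ∧ ¬ PRankLE p 1 ↥(alphaCore M ⊓ centralizer (X : Set G)) := by
    by_contra hcon
    apply hr
    intro p hp
    by_contra h
    exact hcon ⟨p, hp, h⟩
  obtain ⟨p, hp, hrp⟩ := hex
  have := Fact.mk hp
  obtain ⟨E, hEZ, hEc, hEp, hEcard⟩ := bg10_exists_elemAb_sq hp hrp
  have hEA : E ≤ alphaCore M := hEZ.trans inf_le_left
  have hEX : E ≤ centralizer (X : Set G) := hEZ.trans inf_le_right
  have hXE : X ≤ centralizer (E : Set G) := Subgroup.le_centralizer_iff.mp hEX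
  have hAM : alphaCore M ≤ M := piCoreOf_le (alpha M) M
  have hEpg : IsPGroup p E := IsPGroup.of_card hEcard
  have hpE : p ∣ Nat.card E := by
    rw [hEcard]; exact dvd_pow_self p (by norm_num)
  have hpα : p ∈ alpha M :=
    mem_of_dvd_card_piCoreOf (alpha M) M hp (hpE.trans (Subgroup.card_dvd_of_le hEA))
  have hp2 : p ≠ 2 := by
    rintro rfl
    have h1 : 2 ∣ Nat.card G := hpE.trans (Subgroup.card_subgroup_dvd_card E)
    exact (Nat.not_even_iff_odd.mpr hG.1) (even_iff_two_dvd.mpr h1)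
  have hXcop : (Nat.card X).Coprime p :=
    Nat.Coprime.symm ((Nat.Prime.coprime_iff_not_dvd hp).mpr (fun h => hXα p hp h hpα))
  have hXA : X ≤ normalizer (alphaCore M : Set G) :=
    hXM.trans (le_normalizer_piCoreOf (alpha M) M)
  have hcopXA : (Nat.card X).Coprime (Nat.card (alphaCore M)) := by
    apply Nat.coprime_of_dvd
    intro q hq hqX hqA
    exact hXα q hq hqX (mem_of_dvd_card_piCoreOf (alpha M) M hq hqA)
  have hAtop : alphaCore M ≠ ⊤ := by
    intro h
    rw [h] at hAM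
    exact hM.1 (top_le_iff.mp hAM)
  have hsolv : Group.IsSolvable ↥X ∨ Group.IsSolvable ↥(alphaCore M) :=
    Or.inr (uq_isSolvable hG hAtop)
  have hEXn : X ≤ normalizer (E : Set G) := hXE.trans (centralizer_le_normalizer _)
  obtain ⟨P, hPsyl, hEP, hXP⟩ := exists_invariant_sylow_ge hXA hcopXA hsolv hEA hEpg hEXn
  have hPp : IsPGroup p P := isPGroup_of_mem_sylowSet hPsyl
  have halpha := (bg10_alpha_hall hG hU hM).1
  have hPM : IsSylowOf p P M := bg10_isSylowOf_of_sylowSet hAM (halpha.2.2 p hp hpα) hPsyl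
  have hrP : ¬ PRankLE p 2 ↥P := fun h => hpα.2 (pRankLE_of_isSylowOf hPM h)
  have hEM : E ≤ M := hEA.trans hAM
  by_cases hR : PRankLE p 2 ↥(P ⊓ centralizer (E : Set G))
  · have hEcent : E ≤ centralizer (E : Set G) := by
      intro e he
      rw [Subgroup.mem_centralizer_iff]
      intro e' he'
      exact hEc e' he' e he
    have h1 : X ≤ centralizer ((P ⊓ centralizer (E : Set G) : Subgroup G) : Set G) :=
      le_centralizer_of_le_centralizer_rank2 p hp2 (P ⊓ centralizer (E : Set G)) E X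
        (hPp.to_le inf_le_left) (fun B hB hc he => pRank_internal hR B hB hc he)
        (le_inf hEP hEcent) hEc hEp hEcard (bg10_le_normalizer_inf_centralizer hXP hXE) hXcop hXE
    have hXEcomm : ⁅X, E⁆ = ⊥ := Subgroup.commutator_eq_bot_iff_le_centralizer.mpr hXE
    have h2 : P ≤ centralizer (X : Set G) :=
      Helper24.thompson_AxB X E hEpg hXEcomm hXcop (Nat.card P) P le_rfl hPp hXP
        (hEP.trans le_normalizer) (Subgroup.le_centralizer_iff.mp h1)
    exact ⟨M, ⟨hM, inf_le_left⟩, fun L hL =>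
      bg10_uniq_of_rank3 hU hp hM hPM.1 hrP L hL.1 ((le_inf hPM.1 h2).trans hL.2)⟩
  · have hEtop : E ≠ ⊤ := by
      intro h
      rw [h] at hEM
      exact hM.1 (top_le_iff.mp hEM)
    have hEcomm : IsMulCommutative ↥E := ⟨⟨fun a b => Subtype.ext (hEc _ a.2 _ b.2)⟩⟩
    have hplt : p < Nat.card E := by
      rw [hEcard]
      have := hp.two_le
      nlinarith
    have hE1 : ¬ RankLE 1 ↥E := not_rankLE_one_of_elemAb hp le_rfl hEcomm hEp hplt
    have hE2 : ¬ RankLE 2 ↥(centralizer (E : Set G)) :=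
      fun h => hR (pRankLE_of_le inf_le_right (h p hp))
    obtain ⟨M', -, huniq⟩ := hU E hEtop hE1 (Or.inr hE2)
    refine ⟨M, ⟨hM, inf_le_left⟩, fun L hL => ?_⟩
    rw [huniq L ⟨hL.1, (le_inf hEM hEX).trans hL.2⟩, huniq M ⟨hM, hEM⟩]

end Cfsg.Agent.Helper22
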