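/-
helper22: Bender–Glauberman, Section 10, Lemma 10.4 (for `p ∉ σ(M)` dividing `|M|` some central
element `x` of order `p` of a Sylow `p`-subgroup of `M` has `C_{M_α}(x)` a Z-group and `M` is
not the unique maximal subgroup over `C_G(x)`), proved from the conclusion of the Uniqueness
Theorem (B&G 9.6) taken as a hypothesis `BGUniq G`.  Everything lives in `Cfsg.Agent.Helper22`.
-/
import Cfsg.Agent.Helper22.BG10c
import Cfsg.Agent.Helper49.OddCyclic

set_option autoImplicit false

namespace Cfsg.Agent.Helper22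

open Cfsg Subgroup Cfsg.Agent.Helper23 Cfsg.Agent.Helper35
open scoped Pointwise commutatorElement

universe u

variable {G : Type u} [Group G] [Finite G]

/-- A subgroup of rank at most one of a group of odd order is a Z-group. -/
theorem bg10_isZGroup_of_rankLE_one (hodd : Odd (Nat.card G)) {K : Subgroup G}
    (h : RankLE 1 ↥K) : IsZGroup ↥K := by
  refine ⟨fun q hq Q => ?_⟩
  have := Fact.mk hq
  by_cases hq2 : q = 2
  · subst hq2
    have hQ : Nat.card (Q : Subgroup ↥K) = 1 := by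
      obtain ⟨n, hn⟩ := IsPGroup.iff_card.mp Q.2
      have hoddQ : Odd (Nat.card (Q : Subgroup ↥K)) :=
        (hodd.of_dvd_nat (Subgroup.card_subgroup_dvd_card K)).of_dvd_nat
          (Subgroup.card_subgroup_dvd_card _)
      rw [hn] at hoddQ ⊢
      cases n with
      | zero => rfl
      | succ n =>
        exact absurd hoddQ (by
          rw [Nat.not_odd_iff_even]
          exact Nat.even_pow.mpr ⟨even_two, Nat.succ_ne_zero n⟩)
    have hsub : Subsingleton ↥(Q : Subgroup ↥K) := (Nat.card_eq_one_iff_unique.mp hQ).1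
    exact isCyclic_of_subsingleton
  · exact Helper49.isCyclic_sylow_of_pRankLE_one hq2 (h q hq) Q

omit [Finite G] in
theorem bg10_centralizer_zpowers (x : G) :
    centralizer ((zpowers x : Subgroup G) : Set G) = centralizer ({x} : Set G) := by
  ext c
  rw [Subgroup.mem_centralizer_iff, Subgroup.mem_centralizer_iff]
  constructor
  · intro h y hy
    rw [Set.mem_singleton_iff] at hy
    rw [hy]; exact h x (mem_zpowers x)
  · intro h y hy
    obtain ⟨k, rfl⟩ := mem_zpowers_iff.mp hy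
    have h1 : Commute x c := h x (Set.mem_singleton x)
    exact (h1.zpow_left k).eq

omit [Finite G] in
theorem bg10_mem_center_map {M : Subgroup G} (P : Subgroup ↥M) (x : G) :
    x ∈ ((center ↥P).map P.subtype).map M.subtype ↔
      x ∈ P.map M.subtype ∧ ∀ w ∈ P.map M.subtype, w * x = x * w := by
  constructor
  · rintro ⟨_, ⟨z, hz, rfl⟩, rfl⟩
    refine ⟨⟨(z : ↥M), z.2, rfl⟩, ?_⟩
    rintro _ ⟨w, hw, rfl⟩
    have h1 := Subgroup.mem_center_iff.mp hz ⟨w, hw⟩
    exact congrArg (fun t : ↥P => ((t : ↥M) : G)) h1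
  · rintro ⟨⟨y, hy, rfl⟩, hc⟩
    refine ⟨y, ⟨⟨y, hy⟩, Subgroup.mem_center_iff.mpr ?_, rfl⟩, rfl⟩
    intro w
    apply Subtype.ext
    apply Subtype.ext
    exact hc _ ⟨(w : ↥M), w.2, rfl⟩

theorem bg10_exists_central_order {p : ℕ} [Fact p.Prime] {M : Subgroup G}
    (hpM : p ∣ Nat.card M) (P : Sylow p ↥M) :
    ∃ x : G, x ∈ ((center ↥(P : Subgroup ↥M)).map (P : Subgroup ↥M).subtype).map M.subtype ∧
      orderOf x = p := by
  have hP1 : (P : Subgroup ↥M) ≠ ⊥ := P.ne_bot_of_dvd_card hpM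
  have hnt : Nontrivial ↥(P : Subgroup ↥M) := (Subgroup.nontrivial_iff_ne_bot _).mpr hP1
  have hPp : IsPGroup p ↥(P : Subgroup ↥M) := P.2
  have hcn : Nontrivial ↥(center ↥(P : Subgroup ↥M)) := hPp.center_nontrivial
  have hcp : IsPGroup p ↥(center ↥(P : Subgroup ↥M)) := hPp.to_subgroup _
  have hdvd : p ∣ Nat.card ↥(center ↥(P : Subgroup ↥M)) := by
    rcases hcp.card_eq_or_dvd with h | h
    · exact absurd h (Finite.one_lt_card (α := ↥(center ↥(P : Subgroup ↥M)))).ne'
    · exact h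
  obtain ⟨z, hz⟩ := exists_prime_orderOf_dvd_card' p hdvd
  refine ⟨(((z : ↥(P : Subgroup ↥M)) : ↥M) : G), ⟨((z : ↥(P : Subgroup ↥M)) : ↥M), ⟨(z : ↥(P : Subgroup ↥M)), z.2, rfl⟩, rfl⟩, ?_⟩
  rw [Subgroup.orderOf_coe, Subgroup.orderOf_coe, Subgroup.orderOf_coe, hz]

/-- **Bender–Glauberman 10.4**, from the Uniqueness Theorem. -/
theorem bg10_nonsigma_central (hG : IsMinSimpleOddOrder G) (hU : BGUniq G) {M : Subgroup G}
    (hM : IsCoatom M) {p : ℕ} [Fact p.Prime] (hpM : p ∣ Nat.card M) (hp : p ∉ sigma M)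
    (P : Sylow p ↥M) :
    ∃ x : G, x ∈ ((center ↥(P : Subgroup ↥M)).map (P : Subgroup ↥M).subtype).map M.subtype ∧
      orderOf x = p ∧ IsZGroup ↥(alphaCore M ⊓ centralizer ({x} : Set G)) ∧
      ¬ (centralizer ({x} : Set G) ≤ M ∧
        ∀ L : Subgroup G, IsCoatom L → centralizer ({x} : Set G) ≤ L → L = M) := by
  have hpp : p.Prime := Fact.out
  have hsimple := hG.2.1
  by_contra hcon
  have key : ∀ x : G,
      x ∈ ((center ↥(P : Subgroup ↥M)).map (P : Subgroup ↥M).subtype).map M.subtype →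
      orderOf x = p → (centralizer ({x} : Set G) ≤ M ∧
        ∀ L : Subgroup G, IsCoatom L → centralizer ({x} : Set G) ≤ L → L = M) := by
    intro x hxZ hxo
    by_cases hZ : IsZGroup ↥(alphaCore M ⊓ centralizer ({x} : Set G))
    · by_contra h
      exact hcon ⟨x, hxZ, hxo, hZ, h⟩
    · have hr : ¬ RankLE 1 ↥(alphaCore M ⊓ centralizer ({x} : Set G)) :=
        fun h => hZ (bg10_isZGroup_of_rankLE_one hG.1 h)
      have hxM : x ∈ M := by
        obtain ⟨y, -, rfl⟩ := hxZ
        exact y.2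
      have hcent := bg10_centralizer_zpowers x
      have hXα : ∀ q : ℕ, q.Prime → q ∣ Nat.card (zpowers x) → q ∉ alpha M := by
        intro q hq hqd hqα
        rw [Nat.card_zpowers, hxo] at hqd
        have hqp : q = p := (Nat.prime_dvd_prime_iff_eq hq hpp).mp hqd
        rw [hqp] at hqα
        exact hp (bg10_alpha_sub_sigma hG hU hM hqα)
      have hX := bg10_centralizer_uniq hG hU hM ((zpowers_le).mpr hxM) hXα
        (by rw [hcent]; exact hr)
      rw [hcent] at hX
      obtain ⟨M', -, huniq⟩ := hX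
      have hx1 : x ≠ 1 := by
        rintro rfl
        rw [orderOf_one] at hxo
        exact hpp.one_lt.ne hxo
      have hz1 : zpowers x ≠ ⊥ := by
        rw [Ne, zpowers_eq_bot]; exact hx1
      have hz2 : zpowers x ≠ ⊤ := by
        intro h
        have h1 : zpowers x ≤ M := (zpowers_le).mpr hxM
        rw [h] at h1
        exact hM.1 (top_le_iff.mp h1)
      have hCtop : centralizer ({x} : Set G) ≠ ⊤ := by
        intro h
        apply normalizer_ne_top_of_simple hz1 hz2
        rw [eq_top_iff, ← h, ← hcent]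
        exact centralizer_le_normalizer _
      obtain ⟨L, hL, hCL⟩ := uq_exists_coatom_ge hCtop
      have hLM : L = M := by
        rw [huniq L ⟨hL, inf_le_right.trans hCL⟩, huniq M ⟨hM, inf_le_left⟩]
      refine ⟨hLM ▸ hCL, fun L' hL' hCL' => ?_⟩
      rw [huniq L' ⟨hL', inf_le_right.trans hCL'⟩, huniq M ⟨hM, inf_le_left⟩]
  apply hp
  refine ⟨hpp, hpM, P, ?_⟩
  obtain ⟨x, hxZ, hxo⟩ := bg10_exists_central_order hpM P
  obtain ⟨hxC, hxU⟩ := key x hxZ hxo
  have hM1 : M ≠ ⊥ := by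
    rintro rfl
    rw [Subgroup.card_bot] at hpM
    exact hpp.one_lt.ne' (Nat.dvd_one.mp hpM)
  have hNM : normalizer (M : Set G) = M := uq_normalizer_eq hG hM hM1 le_rfl le_normalizer
  intro g hg
  have hgx : g * x * g⁻¹ ∈
      ((center ↥(P : Subgroup ↥M)).map (P : Subgroup ↥M).subtype).map M.subtype := by
    rw [bg10_mem_center_map] at hxZ ⊢
    refine ⟨(Subgroup.mem_normalizer_iff.mp hg x).mp hxZ.1, ?_⟩
    intro w hw
    have hg' : g⁻¹ ∈ normalizer (((P : Subgroup ↥M).map M.subtype : Subgroup G) : Set G) :=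
      inv_mem hg
    have h1 : g⁻¹ * w * g⁻¹⁻¹ ∈ (P : Subgroup ↥M).map M.subtype :=
      (Subgroup.mem_normalizer_iff.mp hg' w).mp hw
    rw [inv_inv] at h1
    have h2 := hxZ.2 _ h1
    calc w * (g * x * g⁻¹) = g * ((g⁻¹ * w * g) * x) * g⁻¹ := by group
      _ = g * (x * (g⁻¹ * w * g)) * g⁻¹ := by rw [h2]
      _ = g * x * g⁻¹ * w := by group
  have hgo : orderOf (g * x * g⁻¹) = p := by
    rw [← hxo]; exact MulEquiv.orderOf_eq (MulAut.conj g) x
  obtain ⟨hgC, -⟩ := key _ hgx hgo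
  have hle : centralizer ({x} : Set G) ≤ MulAut.conj g⁻¹ • M := by
    intro c hc
    rw [mem_conj_smul, inv_inv]
    apply hgC
    rw [Subgroup.mem_centralizer_iff] at hc ⊢
    intro y hy
    rw [Set.mem_singleton_iff] at hy
    rw [hy]
    have h1 := hc x (Set.mem_singleton x)
    calc g * x * g⁻¹ * (g * c * g⁻¹) = g * (x * c) * g⁻¹ := by group
      _ = g * (c * x) * g⁻¹ := by rw [h1]
      _ = g * c * g⁻¹ * (g * x * g⁻¹) := by group
  have hLM := hxU _ (isCoatom_conj_smul g⁻¹ hM) hle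
  have hgN : g ∈ normalizer (M : Set G) := by
    apply bg10_mem_normalizer
    intro m hm
    have h1 : m ∈ MulAut.conj g⁻¹ • M := by rw [hLM]; exact hm
    rw [mem_conj_smul, inv_inv] at h1
    exact h1
  rw [hNM] at hgN
  exact hgN

end Cfsg.Agent.Helper22
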