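/-
helper22: Bender–Glauberman, Section 10, Lemmas 10.5 and 10.6 (primes `p ∉ σ(M)` with `M` of
`p`-rank two), proved from the conclusion of the Uniqueness Theorem (B&G 9.6) taken as a
hypothesis `BGUniq G`.  Everything lives in `Cfsg.Agent.Helper22`.
-/
import Cfsg.Agent.Helper22.BG10d

set_option autoImplicit false

namespace Cfsg.Agent.Helper22

open Cfsg Subgroup Cfsg.Agent.Helper23 Cfsg.Agent.Helper35
open scoped Pointwise commutatorElement

universe u

variable {G : Type u} [Group G] [Finite G]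

/-- Two distinct subgroups of order `p` commuting elementwise generate an elementary abelian
subgroup of order `p ^ 2`. -/
theorem bg10_sup_elemAb {p : ℕ} (hp : p.Prime) {Y Z : Subgroup G} (hY : Nat.card Y = p)
    (hZ : Nat.card Z = p) (hne : Y ≠ Z) (hcomm : ∀ y ∈ Y, ∀ z ∈ Z, y * z = z * y) :
    IsElementaryAbelian p (Y ⊔ Z) ∧ Nat.card ↥(Y ⊔ Z) = p ^ 2 := by
  have := Fact.mk hp
  have hYcyc : IsCyclic ↥Y := isCyclic_of_prime_card hY
  have hZcyc : IsCyclic ↥Z := isCyclic_of_prime_card hZ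
  have hYc : ∀ a ∈ Y, ∀ b ∈ Y, a * b = b * a := fun a ha b hb =>
    congrArg Subtype.val ((IsCyclic.isMulCommutative (α := ↥Y)).is_comm.comm ⟨a, ha⟩ ⟨b, hb⟩)
  have hZc : ∀ a ∈ Z, ∀ b ∈ Z, a * b = b * a := fun a ha b hb =>
    congrArg Subtype.val ((IsCyclic.isMulCommutative (α := ↥Z)).is_comm.comm ⟨a, ha⟩ ⟨b, hb⟩)
  have hYe : ∀ a ∈ Y, a ^ p = 1 := by
    intro a ha
    have h1 : (⟨a, ha⟩ : ↥Y) ^ Nat.card ↥Y = 1 := pow_card_eq_one'
    rw [hY] at h1
    exact congrArg Subtype.val h1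
  have hZe : ∀ a ∈ Z, a ^ p = 1 := by
    intro a ha
    have h1 : (⟨a, ha⟩ : ↥Z) ^ Nat.card ↥Z = 1 := pow_card_eq_one'
    rw [hZ] at h1
    exact congrArg Subtype.val h1
  have hZY : Z ≤ centralizer (Y : Set G) := by
    intro z hz
    rw [Subgroup.mem_centralizer_iff]
    intro y hy
    exact hcomm y hy z hz
  have hYZ : Y ≤ centralizer (Z : Set G) := Subgroup.le_centralizer_iff.mp hZY
  have hYY : Y ≤ centralizer (Y : Set G) := by
    intro y hy
    rw [Subgroup.mem_centralizer_iff]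
    intro y' hy'
    exact hYc y' hy' y hy
  have hZZ : Z ≤ centralizer (Z : Set G) := by
    intro z hz
    rw [Subgroup.mem_centralizer_iff]
    intro z' hz'
    exact hZc z' hz' z hz
  have hW : Y ⊔ Z ≤ centralizer ((Y ⊔ Z : Subgroup G) : Set G) :=
    sup_le (Subgroup.le_centralizer_iff.mp (sup_le hYY hZY))
      (Subgroup.le_centralizer_iff.mp (sup_le hYZ hZZ))
  have hZn : Z ≤ normalizer (Y : Set G) := hZY.trans (centralizer_le_normalizer _)
  refine ⟨⟨⟨⟨fun a b => Subtype.ext ?_⟩⟩, ?_⟩, ?_⟩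
  · exact (Subgroup.mem_centralizer_iff.mp (hW b.2) a a.2)
  · intro w hw
    obtain ⟨y, hy, z, hz, rfl⟩ := exists_mul_of_mem_sup_of_le_normalizer hZn hw
    have hc : Commute y z := hcomm y hy z hz
    rw [hc.mul_pow, hYe y hy, hZe z hz, one_mul]
  · have hdvd : Nat.card ↥(Y ⊔ Z) ∣ p ^ 2 := by
      have h1 := card_sup_dvd_of_le_normalizer (H := Z) (D := Y) hZn
      rw [hY, hZ, sup_comm] at h1
      rw [pow_two]; exact h1
    obtain ⟨k, hk, hk'⟩ := (Nat.dvd_prime_pow hp).mp hdvd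
    have hlt : p < Nat.card ↥(Y ⊔ Z) := by
      have h1 : Y < Y ⊔ Z := by
        refine lt_of_le_of_ne le_sup_left ?_
        intro e
        apply hne
        have h2 : Z ≤ Y := by rw [e]; exact le_sup_right
        exact (Subgroup.eq_of_le_of_card_ge h2 (by rw [hY, hZ])).symm
      have h3 := card_lt_card_of_lt h1
      rwa [hY] at h3
    rw [hk'] at hlt ⊢
    have hk2 : k = 2 := by
      by_contra hcon
      have h1 : k ≤ 1 := by omega
      have h2 : p ^ k ≤ p ^ 1 := Nat.pow_le_pow_right hp.pos h1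
      rw [pow_one] at h2
      omega
    rw [hk2]

/-- **Bender–Glauberman 10.5 (second part)**: an elementary abelian subgroup of order `p ^ 2`
of a maximal subgroup `M` of `p`-rank two is a maximal elementary abelian `p`-subgroup of `G`. -/
theorem bg10_elemAb_sq_maximal (hG : IsMinSimpleOddOrder G) (hU : BGUniq G) {M : Subgroup G}
    (hM : IsCoatom M) {p : ℕ} [Fact p.Prime] (hr2 : PRankLE p 2 ↥M) {A : Subgroup G}
    (hAM : A ≤ M) (hA : IsElementaryAbelian p A) (hAc : Nat.card A = p ^ 2) :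
    ∀ B : Subgroup G, IsElementaryAbelian p B → A ≤ B → B = A := by
  have hp : p.Prime := Fact.out
  have hsimple := hG.2.1
  intro B hB hAB
  by_contra hne
  have hlt : A < B := lt_of_le_of_ne hAB (Ne.symm hne)
  have hcard : ¬ Nat.card B ≤ p ^ 2 := by
    have h1 := card_lt_card_of_lt hlt
    rw [hAc] at h1
    omega
  have hBcent : B ≤ centralizer (A : Set G) := by
    intro b hb
    rw [Subgroup.mem_centralizer_iff]
    intro a ha
    exact congrArg Subtype.val (hB.1.is_comm.comm ⟨a, hAB ha⟩ ⟨b, hb⟩)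
  have hAtop : A ≠ ⊤ := by
    intro h
    rw [h] at hAM
    exact hM.1 (top_le_iff.mp hAM)
  have hA1 : A ≠ ⊥ := by
    intro h
    rw [h, Subgroup.card_bot] at hAc
    have := hp.two_le
    nlinarith
  have hplt : p < Nat.card A := by
    rw [hAc]
    have := hp.two_le
    nlinarith
  have hr1 : ¬ RankLE 1 ↥A := not_rankLE_one_of_elemAb hp le_rfl hA.1 hA.2 hplt
  have hr3 : ¬ RankLE 2 ↥(centralizer (A : Set G)) :=
    fun h => Helper21.not_pRankLE_of_elemAb hBcent hB.1 hB.2 hcard (h p hp)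
  obtain ⟨M', -, huniq⟩ := hU A hAtop hr1 (Or.inr hr3)
  have hCtop : centralizer (A : Set G) ≠ ⊤ := by
    intro h
    apply normalizer_ne_top_of_simple hA1 hAtop
    rw [eq_top_iff, ← h]
    exact centralizer_le_normalizer _
  obtain ⟨L, hL, hCL⟩ := uq_exists_coatom_ge hCtop
  have hLM : L = M := by
    rw [huniq L ⟨hL, (hAB.trans hBcent).trans hCL⟩, huniq M ⟨hM, hAM⟩]
  have hBM : B ≤ M := hLM ▸ hBcent.trans hCL
  exact Helper21.not_pRankLE_of_elemAb hBM hB.1 hB.2 hcard hr2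

/-- **Bender–Glauberman 10.5 (first part)**: `p` is not ideal when some maximal subgroup has
`p`-rank exactly two. -/
theorem bg10_not_ideal (hG : IsMinSimpleOddOrder G) (hU : BGUniq G) {M : Subgroup G}
    (hM : IsCoatom M) {p : ℕ} [Fact p.Prime] (hr2 : PRankLE p 2 ↥M) (hr1 : ¬ PRankLE p 1 ↥M) :
    ¬ IsIdealPrime p G := by
  rintro ⟨hp, -, hall⟩
  obtain ⟨E, hEM, hEc, hEp, hEcard⟩ := bg10_exists_elemAb_sq hp hr1
  have hEe : IsElementaryAbelian p E := ⟨⟨⟨fun a b => Subtype.ext (hEc _ a.2 _ b.2)⟩⟩, hEp⟩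
  obtain ⟨P, hEP⟩ := (IsPGroup.of_card hEcard : IsPGroup p E).exists_le_sylow
  obtain ⟨B, -, hBe, hlt⟩ := hall P E hEP hEe hEcard
  exact hlt.ne' (bg10_elemAb_sq_maximal hG hU hM hr2 hEM hEe hEcard B hBe hlt.le)

/-- **Bender–Glauberman 10.5**, from the Uniqueness Theorem. -/
theorem bg10_rank2_nonsigma (hG : IsMinSimpleOddOrder G) (hU : BGUniq G) {M : Subgroup G}
    (hM : IsCoatom M) {p : ℕ} [Fact p.Prime] (hr2 : PRankLE p 2 ↥M) (hr1 : ¬ PRankLE p 1 ↥M) :
    ¬ IsIdealPrime p G ∧ ∀ A : Subgroup G, A ≤ M → IsElementaryAbelian p A →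
      Nat.card A = p ^ 2 → ∀ B : Subgroup G, IsElementaryAbelian p B → A ≤ B → B = A :=
  ⟨bg10_not_ideal hG hU hM hr2 hr1, fun _ hAM hA hAc =>
    bg10_elemAb_sq_maximal hG hU hM hr2 hAM hA hAc⟩

/-- In a maximal subgroup of `p`-rank one, a subgroup of order `p` of a Sylow `p`-subgroup `P`
equals any central subgroup of order `p` of `P`. -/
theorem bg10_rank1_unique {p : ℕ} (hp : p.Prime) {M Y Z P : Subgroup G}
    (hr1 : PRankLE p 1 ↥M) (hPM : P ≤ M) (hYP : Y ≤ P) (hZP : Z ≤ P) (hY : Nat.card Y = p)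
    (hZ : Nat.card Z = p) (hZc : ∀ w ∈ P, ∀ z ∈ Z, w * z = z * w) : Y = Z := by
  by_contra hne
  obtain ⟨hE, hcard⟩ := bg10_sup_elemAb hp hY hZ hne (fun y hy z hz => hZc y (hYP hy) z hz)
  refine Helper21.not_pRankLE_of_elemAb (sup_le (hYP.trans hPM) (hZP.trans hPM)) hE.1 hE.2 ?_ hr1
  rw [hcard]
  have := hp.two_le
  nlinarith

/-- **Bender–Glauberman 10.6**, from the Uniqueness Theorem. -/
theorem bg10_nonsigma_normalizer (hG : IsMinSimpleOddOrder G) (hU : BGUniq G) {M : Subgroup G}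
    (hM : IsCoatom M) {p : ℕ} [Fact p.Prime] (hp : p ∉ sigma M) {X : Subgroup G}
    (hX : Nat.card X = p) (hNX : normalizer (X : Set G) ≤ M) :
    (PRankLE p 2 ↥M ∧ ¬ PRankLE p 1 ↥M) ∧ ¬ IsIdealPrime p G ∧
      ∃ A : Subgroup G, IsElementaryAbelian p A ∧ Nat.card A = p ^ 2 ∧ X ≤ A := by
  have hpp : p.Prime := Fact.out
  have hXM : X ≤ M := le_normalizer.trans hNX
  have hXp : IsPGroup p X := IsPGroup.of_card (n := 1) (by rw [hX, pow_one])
  have hpM : p ∣ Nat.card M := by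
    have h1 := Subgroup.card_dvd_of_le hXM
    rwa [hX] at h1
  have hr2 : PRankLE p 2 ↥M :=
    bg10_pRank_of_not_alpha M p hpp (fun h => hp (bg10_alpha_sub_sigma hG hU hM h))
  -- a Sylow `p`-subgroup of `M` containing `X`, and a central subgroup `Z` of order `p`
  obtain ⟨P₀, hP₀⟩ := (hXp.comap_subtype (K := M)).exists_le_sylow
  have hXP : X ≤ (P₀ : Subgroup ↥M).map M.subtype := by
    intro x hx
    exact ⟨⟨x, hXM hx⟩, hP₀ (Subgroup.mem_subgroupOf.mpr hx), rfl⟩
  have hPM : (P₀ : Subgroup ↥M).map M.subtype ≤ M := Subgroup.map_subtype_le _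
  obtain ⟨z, hzZ, hzo⟩ := bg10_exists_central_order hpM P₀
  rw [bg10_mem_center_map] at hzZ
  have hZcard : Nat.card (zpowers z) = p := by rw [Nat.card_zpowers, hzo]
  have hZP : zpowers z ≤ (P₀ : Subgroup ↥M).map M.subtype := (zpowers_le).mpr hzZ.1
  have hZc : ∀ w ∈ (P₀ : Subgroup ↥M).map M.subtype, ∀ y ∈ zpowers z, w * y = y * w := by
    intro w hw y hy
    obtain ⟨k, rfl⟩ := mem_zpowers_iff.mp hy
    have h1 : Commute w z := hzZ.2 w hw
    exact (h1.zpow_right k).eq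
  have hr1 : ¬ PRankLE p 1 ↥M := by
    intro hr1
    apply hp
    refine ⟨hpp, hpM, P₀, ?_⟩
    intro g hg
    apply hNX
    apply bg10_mem_normalizer
    intro x hx
    have hXZ : X = zpowers z := bg10_rank1_unique hpp hr1 hPM hXP hZP hX hZcard hZc
    have hX'P : MulAut.conj g • X ≤ (P₀ : Subgroup ↥M).map M.subtype := by
      intro y hy
      rw [mem_conj_smul] at hy
      have h1 := (Subgroup.mem_normalizer_iff.mp hg _).mp (hXP hy)
      have e : g * (g⁻¹ * y * g) * g⁻¹ = y := by group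
      rwa [e] at h1
    have hX'Z : MulAut.conj g • X = zpowers z :=
      bg10_rank1_unique hpp hr1 hPM hX'P hZP (by rw [card_conj_smul, hX]) hZcard hZc
    have h2 : g * x * g⁻¹ ∈ MulAut.conj g • X := conj_mem_conj_smul hx
    rw [hX'Z, ← hXZ] at h2
    exact h2
  refine ⟨⟨hr2, hr1⟩, bg10_not_ideal hG hU hM hr2 hr1, ?_⟩
  by_cases hXZ : X = zpowers z
  · -- `X` is central in `P`; take an element of order `p` of `P` outside `X`
    obtain ⟨E, hEM, hEc, hEp, hEcard⟩ := bg10_exists_elemAb_sq hpp hr1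
    have hEpg : IsPGroup p E := IsPGroup.of_card hEcard
    obtain ⟨Q, hQ, hEQ⟩ := exists_isSylowOf_ge hEpg hEM
    obtain ⟨m, -, hm⟩ := bg10_sylow_conj hQ (isSylowOf_map P₀)
    have hex : ∃ e ∈ E, m * e * m⁻¹ ∉ X := by
      by_contra hcon
      have h1 : MulAut.conj m • E ≤ X := by
        intro y hy
        rw [mem_conj_smul] at hy
        by_contra hy'
        apply hcon
        refine ⟨_, hy, ?_⟩
        have e : m * (m⁻¹ * y * m) * m⁻¹ = y := by group
        rw [e]; exact hy'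
      have h2 := Subgroup.card_le_of_le h1
      rw [card_conj_smul, hEcard, hX] at h2
      have := hpp.two_le
      nlinarith
    obtain ⟨e, he, heX⟩ := hex
    have heP : m * e * m⁻¹ ∈ (P₀ : Subgroup ↥M).map M.subtype := by
      rw [hm]; exact conj_mem_conj_smul (hEQ he)
    have hepow : (m * e * m⁻¹) ^ p = 1 := by
      rw [conj_pow, hEp e he]; group
    have he1 : m * e * m⁻¹ ≠ 1 := fun h => heX (by rw [h]; exact X.one_mem)
    have heo : orderOf (m * e * m⁻¹) = p := orderOf_eq_prime hepow he1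
    have hYcard : Nat.card (zpowers (m * e * m⁻¹)) = p := by rw [Nat.card_zpowers, heo]
    have hYX : zpowers (m * e * m⁻¹) ≠ X := fun h => heX (by rw [← h]; exact mem_zpowers _)
    have hcomm : ∀ y ∈ zpowers (m * e * m⁻¹), ∀ x ∈ X, y * x = x * y := by
      intro y hy x hx
      rw [hXZ] at hx
      exact hZc y ((zpowers_le).mpr heP hy) x hx
    obtain ⟨hA, hAcard⟩ := bg10_sup_elemAb hpp hYcard hX hYX hcomm
    exact ⟨_, hA, hAcard, le_sup_right⟩
  · obtain ⟨hA, hAcard⟩ := bg10_sup_elemAb hpp hX hZcard hXZ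
      (fun x hx y hy => hZc x (hXP hx) y hy)
    exact ⟨_, hA, hAcard, le_sup_left⟩

end Cfsg.Agent.Helper22
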