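/-
helper22: Bender–Glauberman, Section 12, Lemma 12.1 (the complement `E` of `M_σ` in a maximal
subgroup `M`): `E'` is nilpotent, Hall `τ₁(M)`-subgroups of `E` are cyclic, Hall
`τ₃(M)`-subgroups of `E` are cyclic, normal in `E` and contained in `E'`.  Proved from the
conclusion of the Uniqueness Theorem (B&G 9.6) taken as a hypothesis `BGUniq G`.
Everything lives in `Cfsg.Agent.Helper22`.
-/
import Cfsg.Agent.Helper22.BG10e
import Cfsg.Agent.S1451

set_option autoImplicit false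

namespace Cfsg.Agent.Helper22

open Cfsg Subgroup Cfsg.Agent.Helper23 Cfsg.Agent.Helper35
open scoped Pointwise commutatorElement

universe u

variable {G : Type u} [Group G] [Finite G]

/-- A subgroup `J ≤ K` normalizing `H ≤ K`, of order coprime to `|K : H|`, lies in `H`. -/
theorem bg12_le_of_coprime_relIndex {H K J : Subgroup G} (hHK : H ≤ K)
    (hJK : J ≤ K) (hJN : J ≤ normalizer (H : Set G))
    (hcop : (Nat.card J).Coprime (H.relIndex K)) : J ≤ H := by
  have h1 := Helper51.card_sup_mul_card_inf_of_le_normalizer J H hJN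
  have hle : H ≤ J ⊔ H := le_sup_right
  have hle2 : J ⊔ H ≤ K := sup_le hJK hHK
  have h2 : Nat.card H * H.relIndex (J ⊔ H) = Nat.card ↥(J ⊔ H) := by
    have h := Subgroup.card_mul_index (H.subgroupOf (J ⊔ H))
    rwa [Helper35.card_subgroupOf_of_le hle] at h
  have h3 : H.relIndex (J ⊔ H) ∣ H.relIndex K :=
    Dvd.intro _ (Subgroup.relIndex_mul_relIndex H (J ⊔ H) K hle hle2)
  have h4 : H.relIndex (J ⊔ H) ∣ Nat.card J := by
    have h5 : Nat.card H * (H.relIndex (J ⊔ H) * Nat.card ↥(J ⊓ H)) =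
        Nat.card H * Nat.card J := by
      rw [← mul_assoc, h2, h1, mul_comm]
    exact Dvd.intro _ (Nat.eq_of_mul_eq_mul_left Nat.card_pos h5)
  have h7 : H.relIndex (J ⊔ H) = 1 := Nat.eq_one_of_dvd_coprimes hcop h4 h3
  exact le_sup_left.trans (Subgroup.relIndex_eq_one.mp h7)

/-- A Hall subgroup of a nilpotent group is normal. -/
theorem bg12_hall_normal {X : Type u} [Group X] [Finite X] [Group.IsNilpotent X] (H : Subgroup X)
    (hcop : (Nat.card H).Coprime H.index) : H.Normal := by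
  have hnc := (normalizerCondition_iff_only_full_group_self_normalizing (G := X)).mp
    Group.normalizerCondition_of_isNilpotent
  have hK : normalizer ((normalizer (H : Set X) : Subgroup X) : Set X) = normalizer (H : Set X) := by
    refine le_antisymm ?_ le_normalizer
    intro x hx
    apply bg10_mem_normalizer
    have hJK : H.map (MulAut.conj x).toMonoidHom ≤ normalizer (H : Set X) := by
      rintro _ ⟨y, hy, rfl⟩
      exact (hx y).mp (le_normalizer hy)
    have hJ : H.map (MulAut.conj x).toMonoidHom ≤ H := by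
      apply bg12_le_of_coprime_relIndex (K := normalizer (H : Set X)) le_normalizer hJK hJK
      rw [Subgroup.card_map_of_injective (MulAut.conj x).injective]
      exact hcop.coprime_dvd_right (Subgroup.relIndex_dvd_index_of_le le_normalizer)
    intro y hy
    exact hJ ⟨y, hy, rfl⟩
  exact normalizer_eq_top_iff.mp (hnc _ hK)

/-- A Hall subgroup of a nilpotent subgroup `N` is normalized by `N`. -/
theorem bg12_hall_le_normalizer {N H : Subgroup G} (hN : Group.IsNilpotent ↥N) (hHN : H ≤ N)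
    (hcop : (Nat.card H).Coprime (H.relIndex N)) : N ≤ normalizer (H : Set G) := by
  rw [← Subgroup.normal_subgroupOf_iff_le_normalizer hHN]
  apply bg12_hall_normal
  rw [Helper35.card_subgroupOf_of_le hHN]
  exact hcop

omit [Finite G] in
/-- `M' ≤ S E'` when `E` is a complement in `M` of the normal subgroup `S`. -/
theorem bg12_commutator_le_sup {M S E : Subgroup G} (hSn : M ≤ normalizer (S : Set G))
    (hE : IsComplIn E S M) : ⁅M, M⁆ ≤ S ⊔ ⁅E, E⁆ := by
  have hconj : ∀ m ∈ M, ∀ s ∈ S, m * s * m⁻¹ ∈ S := fun m hm s hs => (hSn hm s).mp hs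
  have hconj' : ∀ m ∈ M, ∀ s ∈ S, m⁻¹ * s * m ∈ S := by
    intro m hm s hs
    have h := hconj m⁻¹ (M.inv_mem hm) s hs
    rwa [inv_inv] at h
  rw [Subgroup.commutator_le]
  intro m₁ h₁ m₂ h₂
  obtain ⟨a₁, ha₁, b₁, hb₁, rfl⟩ := hE.2.2.2 m₁ h₁
  obtain ⟨a₂, ha₂, b₂, hb₂, rfl⟩ := hE.2.2.2 m₂ h₂
  have haM₁ : a₁ ∈ M := hE.1 ha₁
  have haM₂ : a₂ ∈ M := hE.1 ha₂
  have hc : ⁅a₁, a₂⁆ ∈ ⁅E, E⁆ := Subgroup.commutator_mem_commutator ha₁ ha₂
  have hcM : ⁅a₁, a₂⁆ ∈ M := hE.1 (Subgroup.commutator_le_self E hc)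
  have hs₁ : (a₁ * a₂) * (a₂⁻¹ * b₁ * a₂ * b₂ * b₁⁻¹) * (a₁ * a₂)⁻¹ ∈ S :=
    hconj _ (M.mul_mem haM₁ haM₂) _
      (S.mul_mem (S.mul_mem (hconj' a₂ haM₂ b₁ hb₁) hb₂) (S.inv_mem hb₁))
  have hs₂ : ⁅a₁, a₂⁆ * (a₂ * b₂⁻¹ * a₂⁻¹) * ⁅a₁, a₂⁆⁻¹ ∈ S :=
    hconj _ hcM _ (hconj a₂ haM₂ _ (S.inv_mem hb₂))
  have heq : ⁅a₁ * b₁, a₂ * b₂⁆ =
      ((a₁ * a₂) * (a₂⁻¹ * b₁ * a₂ * b₂ * b₁⁻¹) * (a₁ * a₂)⁻¹) *
        (⁅a₁, a₂⁆ * (a₂ * b₂⁻¹ * a₂⁻¹) * ⁅a₁, a₂⁆⁻¹) * ⁅a₁, a₂⁆ := by
    simp only [commutatorElement_def]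
    group
  rw [heq]
  exact Subgroup.mul_mem _ (Subgroup.mem_sup_left (S.mul_mem hs₁ hs₂)) (Subgroup.mem_sup_right hc)

omit [Finite G] in
/-- Order of a complement. -/
theorem bg12_card_compl {M S E : Subgroup G} (hSn : M ≤ normalizer (S : Set G))
    (hE : IsComplIn E S M) : Nat.card E * Nat.card S = Nat.card M := by
  have hsup : E ⊔ S = M := by
    refine le_antisymm (sup_le hE.1 hE.2.1) ?_
    intro m hm
    obtain ⟨a, ha, b, hb, rfl⟩ := hE.2.2.2 m hm
    exact Subgroup.mul_mem _ (Subgroup.mem_sup_left ha) (Subgroup.mem_sup_right hb)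
  have h1 := Helper51.card_sup_mul_card_inf_of_le_normalizer E S (hE.1.trans hSn)
  rw [hsup, hE.2.2.1, Subgroup.card_bot, mul_one] at h1
  exact h1.symm

/-- A subgroup of order prime to `q` has `q`-rank `≤ k` for every `k`. -/
theorem bg12_pRankLE_of_not_dvd {q k : ℕ} (hq : q.Prime) {K : Subgroup G}
    (h : ¬ q ∣ Nat.card K) : PRankLE q k ↥K := by
  intro A _ hAq
  have := Fact.mk hq
  have hA : IsPGroup q ↥A := by
    intro a
    refine ⟨1, ?_⟩
    rw [pow_one]
    exact Subtype.ext (by simpa using hAq a.1 a.2)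
  obtain ⟨n, hn⟩ := IsPGroup.iff_card.mp hA
  cases n with
  | zero => rw [hn, pow_zero]; exact Nat.one_le_pow _ _ hq.pos
  | succ n =>
    exfalso
    apply h
    have h1 : q ∣ Nat.card ↥A := by rw [hn]; exact dvd_pow_self q (Nat.succ_ne_zero n)
    exact h1.trans (Subgroup.card_subgroup_dvd_card A)

/-- A subgroup `K ≤ M` all of whose prime divisors have `p`-rank one in `M` has rank one. -/
theorem bg12_rankLE_one_of_primes {M K : Subgroup G} (hKM : K ≤ M)
    (h : ∀ q : ℕ, q.Prime → q ∣ Nat.card K → PRankLE q 1 ↥M) : RankLE 1 ↥K := by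
  intro q hq
  by_cases hd : q ∣ Nat.card K
  · exact pRankLE_of_le hKM (h q hq hd)
  · exact bg12_pRankLE_of_not_dvd hq hd

/-- The primes of a complement of `M_σ` are outside `σ(M)`. -/
theorem bg12_not_sigma_of_dvd (hG : IsMinSimpleOddOrder G) (hU : BGUniq G) {M : Subgroup G}
    (hM : IsCoatom M) {E : Subgroup G} (hE : IsComplIn E (sigmaCore M) M) {q : ℕ} (hq : q.Prime)
    (hd : q ∣ Nat.card E) : q ∉ sigma M := by
  intro hσ
  have hall := (bg10_sigma_hall hG hU hM).1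
  have hSn : M ≤ normalizer ((sigmaCore M : Subgroup G) : Set G) := le_normalizer_piCoreOf (sigma M) M
  have h1 := bg12_card_compl hSn hE
  have h2 : Nat.card (sigmaCore M) * (sigmaCore M).relIndex M = Nat.card M := by
    have h := Subgroup.card_mul_index ((sigmaCore M).subgroupOf M)
    rwa [Helper35.card_subgroupOf_of_le hE.2.1] at h
  have h3 : (sigmaCore M).relIndex M = Nat.card E := by
    have h4 : Nat.card (sigmaCore M) * (sigmaCore M).relIndex M =
        Nat.card (sigmaCore M) * Nat.card E := by rw [h2, ← h1, mul_comm]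
    exact Nat.eq_of_mul_eq_mul_left Nat.card_pos h4
  exact hall.2.2 q hq hσ (h3 ▸ hd)

/-- A complement of `M_σ` has rank at most two. -/
theorem bg12_rankLE_two (hG : IsMinSimpleOddOrder G) (hU : BGUniq G) {M : Subgroup G}
    (hM : IsCoatom M) {E : Subgroup G} (hE : IsComplIn E (sigmaCore M) M) : RankLE 2 ↥E := by
  intro q hq
  by_cases hα : q ∈ alpha M
  · apply bg12_pRankLE_of_not_dvd hq
    intro hd
    exact bg12_not_sigma_of_dvd hG hU hM hE hq hd (bg10_alpha_sub_sigma hG hU hM hα)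
  · exact pRankLE_of_le hE.1 (bg10_pRank_of_not_alpha M q hq hα)

/-- Commutative groups of rank one (in odd order) are cyclic. -/
theorem bg12_isCyclic_of_comm (hodd : Odd (Nat.card G)) {K : Subgroup G}
    (hr : RankLE 1 ↥K) (hN : Group.IsNilpotent ↥K) : IsCyclic ↥K := by
  have := bg10_isZGroup_of_rankLE_one hodd hr
  infer_instance

/-- For `q ∈ τ₃(M)`, `q` does not divide `|E : E'|`. -/
theorem bg12_tau3_not_dvd_index (hG : IsMinSimpleOddOrder G) {M : Subgroup G}
    {E : Subgroup G} (hE : IsComplIn E (sigmaCore M) M) {q : ℕ}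
    (hq3 : q ∈ tau3 M) : ¬ q ∣ (commutator ↥E).index := by
  obtain ⟨hq, hqσ, hqd, hr1⟩ := hq3
  have := Fact.mk hq
  have hSn : M ≤ normalizer ((sigmaCore M : Subgroup G) : Set G) := le_normalizer_piCoreOf (sigma M) M
  have hq2 : q ≠ 2 := by
    rintro rfl
    have h1 : Odd (Nat.card ↥⁅M, M⁆) := uq_odd hG _
    exact (Nat.not_even_iff_odd.mpr h1) (even_iff_two_dvd.mpr hqd)
  obtain ⟨Q⟩ : Nonempty (Sylow q ↥E) := inferInstance
  have : IsCyclic ↥(Q : Subgroup ↥E) :=
    Helper49.isCyclic_sylow_of_pRankLE_one hq2 (pRankLE_of_le hE.1 hr1) Q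
  rcases Sylow.not_dvd_card_commutator_or_not_dvd_index_commutator Q with h | h
  · exfalso
    apply h
    have h1 : ⁅M, M⁆ ≤ sigmaCore M ⊔ ⁅E, E⁆ := bg12_commutator_le_sup hSn hE
    have h2 : q ∣ Nat.card ↥(⁅E, E⁆ ⊔ sigmaCore M) := by
      rw [sup_comm]
      exact hqd.trans (Subgroup.card_dvd_of_le h1)
    have h3 : Nat.card ↥(⁅E, E⁆ ⊔ sigmaCore M) ∣ Nat.card ↥⁅E, E⁆ * Nat.card (sigmaCore M) :=
      card_sup_dvd_of_le_normalizer (((Subgroup.commutator_le_self E).trans hE.1).trans hSn)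
    rcases (Nat.Prime.dvd_mul hq).mp (h2.trans h3) with h4 | h4
    · rw [← Subgroup.map_subtype_commutator,
        Subgroup.card_map_of_injective E.subtype_injective] at h4
      exact h4
    · exact absurd (mem_of_dvd_card_piCoreOf (sigma M) M hq h4) hqσ
  · exact h

/-- **Bender–Glauberman 12.1**, from the Uniqueness Theorem. -/
theorem bg12_E_structure (hG : IsMinSimpleOddOrder G) (hU : BGUniq G) {M : Subgroup G}
    (hM : IsCoatom M) {E : Subgroup G} (hE : IsComplIn E (sigmaCore M) M) :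
    Group.IsNilpotent ↥⁅E, E⁆ ∧
      (∀ E₁ : Subgroup G, IsPiHallOf (tau1 M) E₁ E → IsCyclic E₁) ∧
      ∀ E₃ : Subgroup G, IsPiHallOf (tau3 M) E₃ E →
        IsCyclic E₃ ∧ E₃ ≤ ⁅E, E⁆ ∧ E ≤ normalizer (E₃ : Set G) := by
  have hEtop : E ≠ ⊤ := fun h => hM.1 (top_le_iff.mp (h ▸ hE.1))
  have := uq_isSolvable hG hEtop
  have hnil : Group.IsNilpotent ↥⁅E, E⁆ := by
    have : Group.IsNilpotent ↥(commutator ↥E) :=
      (Cfsg.Agent.S1451.result (uq_odd hG E) (Or.inl (bg12_rankLE_two hG hU hM hE))).1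
    have h1 := Group.nilpotent_of_mulEquiv
      (Subgroup.equivMapOfInjective (commutator ↥E) E.subtype E.subtype_injective)
    rwa [Subgroup.map_subtype_commutator] at h1
  refine ⟨hnil, ?_, ?_⟩
  · intro E₁ hE₁
    have hr : RankLE 1 ↥E₁ :=
      bg12_rankLE_one_of_primes (hE₁.1.trans hE.1) (fun q hq hd => (hE₁.2.1 q hq hd).2.2.2.2)
    apply bg12_isCyclic_of_comm hG.1 hr
    have hcomm : ⁅E₁, E₁⁆ = ⊥ := by
      rw [← Subgroup.card_eq_one]
      by_contra hne
      obtain ⟨q, hq, hqd⟩ := Nat.exists_prime_and_dvd hne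
      have h1 : q ∈ tau1 M :=
        hE₁.2.1 q hq (hqd.trans (Subgroup.card_dvd_of_le (Subgroup.commutator_le_self E₁)))
      apply h1.2.2.2.1
      exact hqd.trans (Subgroup.card_dvd_of_le
        (Subgroup.commutator_mono (hE₁.1.trans hE.1) (hE₁.1.trans hE.1)))
    have hmc : IsMulCommutative ↥E₁ := by
      refine ⟨⟨fun a b => ?_⟩⟩
      have h1 : ⁅(a : G), (b : G)⁆ ∈ ⁅E₁, E₁⁆ := Subgroup.commutator_mem_commutator a.2 b.2
      rw [hcomm, Subgroup.mem_bot, commutatorElement_eq_one_iff_mul_comm] at h1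
      exact Subtype.ext h1
    exact ⟨⟨1, Subgroup.upperCentralSeries_one_eq_top_iff.mpr hmc⟩⟩
  · intro E₃ hE₃
    have hr : RankLE 1 ↥E₃ :=
      bg12_rankLE_one_of_primes (hE₃.1.trans hE.1) (fun q hq hd => (hE₃.2.1 q hq hd).2.2.2)
    have hle : E₃ ≤ ⁅E, E⁆ := by
      have hd1 : (commutator ↥E).relIndex (E₃.subgroupOf E) ∣ (commutator ↥E).index :=
        Subgroup.relIndex_dvd_index_of_normal _ _
      have hd2 : (commutator ↥E).relIndex (E₃.subgroupOf E) ∣ Nat.card E₃ := by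
        have h := Subgroup.relIndex_dvd_card (commutator ↥E) (E₃.subgroupOf E)
        rwa [Helper35.card_subgroupOf_of_le hE₃.1] at h
      have h1 : (commutator ↥E).relIndex (E₃.subgroupOf E) = 1 := by
        by_contra hne
        obtain ⟨q, hq, hqd⟩ := Nat.exists_prime_and_dvd hne
        exact bg12_tau3_not_dvd_index hG hE (hE₃.2.1 q hq (hqd.trans hd2)) (hqd.trans hd1)
      have h2 := Subgroup.relIndex_eq_one.mp h1
      intro x hx
      have h3 : (⟨x, hE₃.1 hx⟩ : ↥E) ∈ commutator ↥E := h2 (Subgroup.mem_subgroupOf.mpr hx)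
      rw [← Subgroup.map_subtype_commutator]
      exact ⟨_, h3, rfl⟩
    have hnil3 : Group.IsNilpotent ↥E₃ := by
      have := hnil
      exact Group.nilpotent_of_mulEquiv (Subgroup.subgroupOfEquivOfLe hle)
    have hcop : (Nat.card E₃).Coprime (E₃.relIndex ⁅E, E⁆) := by
      apply Nat.coprime_of_dvd
      intro q hq hd hd'
      apply hE₃.2.2 q hq (hE₃.2.1 q hq hd)
      exact hd'.trans (Dvd.intro _
        (Subgroup.relIndex_mul_relIndex E₃ ⁅E, E⁆ E hle (Subgroup.commutator_le_self E)))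
    have hnorm := bg12_hall_le_normalizer hnil hle hcop
    refine ⟨bg12_isCyclic_of_comm hG.1 hr hnil3, hle, ?_⟩
    intro e he
    apply bg10_mem_normalizer
    have hJK : E₃.map (MulAut.conj e).toMonoidHom ≤ ⁅E, E⁆ := by
      rintro _ ⟨y, hy, rfl⟩
      have h1 : ⁅e, y⁆ ∈ ⁅E, E⁆ := Subgroup.commutator_mem_commutator he (hE₃.1 hy)
      have h2 : e * y * e⁻¹ = ⁅e, y⁆ * y := by
        simp only [commutatorElement_def]; group
      show e * y * e⁻¹ ∈ ⁅E, E⁆
      rw [h2]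
      exact Subgroup.mul_mem _ h1 (hle hy)
    have hJ : E₃.map (MulAut.conj e).toMonoidHom ≤ E₃ := by
      apply bg12_le_of_coprime_relIndex hle hJK (hJK.trans hnorm)
      rw [Subgroup.card_map_of_injective (MulAut.conj e).injective]
      exact hcop
    intro y hy
    exact hJ ⟨y, hy, rfl⟩

end Cfsg.Agent.Helper22
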