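/-
helper22: Bender–Glauberman, Section 11 (exceptional maximal subgroups), part 1:
Lemma 11.1 (`bg11_TI_sylow`), Lemma 11.2 (`bg11_TI`, `bg11_fpf`), Theorem 11.3
(`bg11_sigma_nilpotent`: `M_σ` is nilpotent) and Lemma 11.4 (`bg11_sigma_uniq`).
Setting `BG11Hyp M A₀ A p`: `M` maximal, `p ∉ σ(M)`, `A₀` of order `p` with `N_G(A₀) ≤ M`,
`A₀ ≤ A`, `A` elementary abelian of order `p ^ 2`.  The conclusions of the Uniqueness Theorem
(`BGUniq G`, = S1403) and of B&G 10.7(a) (`BGPLen G`, = S1410) are taken as hypotheses.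
Everything lives in `Cfsg.Agent.Helper22`.
-/
import Cfsg.Agent.Helper22.BG12a
import Cfsg.Agent.Helper23.BG76
import Cfsg.Agent.Helper19.ThompsonThesis
import Cfsg.Agent.Helper35.CoprimeGen2

set_option autoImplicit false

namespace Cfsg.Agent.Helper22

open Cfsg Subgroup Cfsg.Agent.Helper23 Cfsg.Agent.Helper35
open scoped Pointwise commutatorElement

universe u

variable {G : Type u} [Group G] [Finite G]

/-- Every proper subgroup has `p`-length one for every prime `p` (conclusion of B&G 10.7(a)). -/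
def BGPLen (G : Type u) [Group G] : Prop :=
  ∀ (p : ℕ) [Fact p.Prime] (H : Subgroup G), H ≠ ⊤ → PLengthLE p 1 H

/-- Hypothesis 11.1 of Bender–Glauberman. -/
structure BG11Hyp (M A₀ A : Subgroup G) (p : ℕ) : Prop where
  coatom : IsCoatom M
  notσ : p ∉ sigma M
  cardA₀ : Nat.card A₀ = p
  norm : normalizer (A₀ : Set G) ≤ M
  le : A₀ ≤ A
  elem : IsElementaryAbelian p A
  cardA : Nat.card A = p ^ 2

omit [Finite G] in
theorem bg11_elemAb_comm {p : ℕ} {A : Subgroup G} (hA : IsElementaryAbelian p A) :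
    ∀ a ∈ A, ∀ b ∈ A, a * b = b * a := fun a ha b hb =>
  congrArg Subtype.val (hA.1.is_comm.comm ⟨a, ha⟩ ⟨b, hb⟩)

omit [Finite G] in
theorem bg11_sup_elemAb {p : ℕ} {A B : Subgroup G} (hA : IsElementaryAbelian p A)
    (hB : IsElementaryAbelian p B) (hAB : ∀ a ∈ A, ∀ b ∈ B, a * b = b * a) :
    IsElementaryAbelian p (A ⊔ B) := by
  have hAc := bg11_elemAb_comm hA
  have hBc := bg11_elemAb_comm hB
  have h1 : A ⊔ B ≤ centralizer ((A : Set G) ∪ (B : Set G)) := by
    refine sup_le (fun a ha => ?_) (fun b hb => ?_)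
    · rw [mem_centralizer_iff]
      rintro w (hw | hw)
      · exact hAc w hw a ha
      · exact (hAB a ha w hw).symm
    · rw [mem_centralizer_iff]
      rintro w (hw | hw)
      · exact hAB w hw b hb
      · exact hBc w hw b hb
  have h2 : A ⊔ B ≤ centralizer ((A ⊔ B : Subgroup G) : Set G) := by
    refine sup_le (fun a ha => ?_) (fun b hb => ?_)
    · rw [mem_centralizer_iff]
      intro z hz
      exact (mem_centralizer_iff.mp (h1 hz) a (Or.inl ha)).symm
    · rw [mem_centralizer_iff]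
      intro z hz
      exact (mem_centralizer_iff.mp (h1 hz) b (Or.inr hb)).symm
  have hcomm : ∀ y ∈ A ⊔ B, ∀ z ∈ A ⊔ B, y * z = z * y := fun y hy z hz =>
    mem_centralizer_iff.mp (h2 hz) y hy
  refine ⟨⟨⟨fun y z => Subtype.ext (hcomm y y.2 z z.2)⟩⟩, ?_⟩
  let T : Subgroup G :=
    { carrier := {y | y ∈ A ⊔ B ∧ y ^ p = 1}
      mul_mem' := by
        rintro y z ⟨hy, hy'⟩ ⟨hz, hz'⟩
        refine ⟨mul_mem hy hz, ?_⟩
        rw [(show Commute y z from hcomm y hy z hz).mul_pow, hy', hz', one_mul]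
      one_mem' := ⟨one_mem _, one_pow _⟩
      inv_mem' := by
        rintro y ⟨hy, hy'⟩
        exact ⟨inv_mem hy, by rw [inv_pow, hy', inv_one]⟩ }
  have hT : A ⊔ B ≤ T :=
    sup_le (fun a ha => ⟨mem_sup_left ha, hA.2 a ha⟩) (fun b hb => ⟨mem_sup_right hb, hB.2 b hb⟩)
  exact fun y hy => (hT hy).2

omit [Finite G] in
theorem bg11_zpowers_elemAb {p : ℕ} {x : G} (hx : x ^ p = 1) :
    IsElementaryAbelian p (zpowers x) := by
  refine ⟨⟨⟨fun y z => ?_⟩⟩, ?_⟩
  · obtain ⟨i, hi⟩ := mem_zpowers_iff.mp y.2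
    obtain ⟨j, hj⟩ := mem_zpowers_iff.mp z.2
    apply Subtype.ext
    show (y : G) * z = z * y
    rw [← hi, ← hj, ← zpow_add, ← zpow_add, add_comm]
  · intro y hy
    obtain ⟨i, rfl⟩ := mem_zpowers_iff.mp hy
    rw [← zpow_natCast, ← zpow_mul, mul_comm, zpow_mul, zpow_natCast, hx, one_zpow]

omit [Finite G] in
theorem bg11_isPGroup_of_elemAb {p : ℕ} {A : Subgroup G} (hA : IsElementaryAbelian p A) :
    IsPGroup p A := fun a =>
  ⟨1, by rw [pow_one]; exact Subtype.ext (by rw [Subgroup.coe_pow]; exact hA.2 a a.2)⟩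

/-- A maximal elementary abelian `p`-subgroup satisfies the transitivity hypothesis. -/
theorem bg11_transHyp (hG : IsMinSimpleOddOrder G) (hpl : BGPLen G) {p : ℕ} [Fact p.Prime]
    {A : Subgroup G} (hA : IsElementaryAbelian p A) (hA1 : A ≠ ⊥)
    (hmax : ∀ B : Subgroup G, IsElementaryAbelian p B → A ≤ B → B = A) :
    TransitivityHypothesis A := by
  have hAp : IsPGroup p A := bg11_isPGroup_of_elemAb hA
  have hpG : p ∣ Nat.card G := by
    obtain ⟨n, hn⟩ := IsPGroup.iff_card.mp hAp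
    have hn0 : n ≠ 0 := by
      rintro rfl
      rw [pow_zero] at hn
      exact hA1 (Subgroup.card_eq_one.mp hn)
    have h1 : p ∣ Nat.card A := by rw [hn]; exact dvd_pow_self p hn0
    exact h1.trans (Subgroup.card_subgroup_dvd_card A)
  refine transitivityHypothesis_criteria hG p hpG A hAp hA.1
    (Or.inl ⟨fun x hx => ⟨fun hxp => ?_, fun hxA => hA.2 x hxA⟩, fun H hH => hpl p H hH⟩)
  have hB : IsElementaryAbelian p (A ⊔ zpowers x) := by
    refine bg11_sup_elemAb hA (bg11_zpowers_elemAb hxp) ?_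
    intro a ha b hb
    obtain ⟨i, rfl⟩ := mem_zpowers_iff.mp hb
    have h1 : a * x = x * a := mem_centralizer_iff.mp hx a ha
    exact (show Commute a x from h1).zpow_right i
  have h2 := hmax _ hB le_sup_left
  rw [← h2]
  exact mem_sup_right (mem_zpowers x)

/-- A Sylow subgroup of `G` normalized by `A` is a maximal `A`-invariant `q`-subgroup. -/
theorem bg11_sylow_maxInv {q : ℕ} (hq : q.Prime) {A Q : Subgroup G} (hQ : IsSylowOf q Q ⊤)
    (hAQ : A ≤ normalizer (Q : Set G)) : Q ∈ maxInvSubgroups ⊤ A {q} := by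
  refine ⟨⟨le_top, primes_of_isPGroup hq hQ.2.1, hAQ⟩, fun R hR hle => ?_⟩
  exact hQ.2.2 R le_top (isPGroup_of_primes hR.2.1) hle

omit [Finite G] in
theorem bg11_exists_ne_one {X : Subgroup G} (hX : X ≠ ⊥) : ∃ b ∈ X, b ≠ 1 := by
  by_contra h
  push Not at h
  exact hX ((Subgroup.eq_bot_iff_forall X).mpr h)

theorem bg11_dvd_card_of_isPGroup {q : ℕ} [Fact q.Prime] {Q : Subgroup G} (hQ : IsPGroup q Q)
    (h1 : Q ≠ ⊥) : q ∣ Nat.card Q := by
  obtain ⟨n, hn⟩ := IsPGroup.iff_card.mp hQ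
  have hn0 : n ≠ 0 := by
    rintro rfl
    rw [pow_zero] at hn
    exact h1 (Subgroup.card_eq_one.mp hn)
  rw [hn]; exact dvd_pow_self q hn0

theorem bg11_conj_mem_normalizer {Q : Subgroup G} {m n : G}
    (hn : n ∈ normalizer ((MulAut.conj m • Q : Subgroup G) : Set G)) :
    m⁻¹ * n * m ∈ normalizer (Q : Set G) := by
  apply bg10_mem_normalizer
  intro x hx
  have h1 : m * x * m⁻¹ ∈ MulAut.conj m • Q := conj_mem_conj_smul hx
  have h2 : n * (m * x * m⁻¹) * n⁻¹ ∈ MulAut.conj m • Q := (mem_normalizer_iff.mp hn _).mp h1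
  rw [mem_conj_smul] at h2
  have e : m⁻¹ * n * m * x * (m⁻¹ * n * m)⁻¹ = m⁻¹ * (n * (m * x * m⁻¹) * n⁻¹) * m := by group
  rw [e]; exact h2

theorem bg11_normalizer_conj_le {Q M : Subgroup G} {m : G} (hm : m ∈ M)
    (hN : normalizer (Q : Set G) ≤ M) :
    normalizer ((MulAut.conj m • Q : Subgroup G) : Set G) ≤ M := by
  intro n hn
  have h1 := hN (bg11_conj_mem_normalizer hn)
  have e : n = m * (m⁻¹ * n * m) * m⁻¹ := by group
  rw [e]; exact mul_mem (mul_mem hm h1) (inv_mem hm)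

omit [Finite G] in
theorem bg11_le_normalizer_inf {A H K : Subgroup G} (hH : A ≤ normalizer (H : Set G))
    (hK : A ≤ normalizer (K : Set G)) : A ≤ normalizer ((H ⊓ K : Subgroup G) : Set G) := by
  apply le_normalizer_of_forall_conj_mem
  intro a ha x hx
  exact ⟨(mem_normalizer_iff.mp (hH ha) x).mp hx.1, (mem_normalizer_iff.mp (hK ha) x).mp hx.2⟩

omit [Finite G] in
theorem bg11_conj_le_normalizer {H K : Subgroup G} (g : G) (h : H ≤ normalizer (K : Set G)) :
    MulAut.conj g • H ≤ normalizer ((MulAut.conj g • K : Subgroup G) : Set G) := by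
  apply le_normalizer_of_forall_conj_mem
  intro a ha x hx
  rw [mem_conj_smul] at ha hx ⊢
  have h1 := (mem_normalizer_iff.mp (h ha) _).mp hx
  have e : g⁻¹ * (a * x * a⁻¹) * g = g⁻¹ * a * g * (g⁻¹ * x * g) * (g⁻¹ * a * g)⁻¹ := by group
  rw [e]; exact h1

/-- Sylow subgroups of `M_σ` for `q ∈ σ(M)` are Sylow in `G` and in `M`, with normalizer in `M`. -/
theorem bg11_sigma_sylow (hG : IsMinSimpleOddOrder G) (hU : BGUniq G) {M : Subgroup G}
    (hM : IsCoatom M) {q : ℕ} [Fact q.Prime] (hqσ : q ∈ sigma M) {Q : Subgroup G}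
    (hQ : Q ∈ sylowSet q (sigmaCore M)) :
    IsSylowOf q Q ⊤ ∧ IsSylowOf q Q M ∧ normalizer (Q : Set G) ≤ M := by
  have hq : q.Prime := Fact.out
  obtain ⟨h1, h2, -⟩ := bg10_sigma_hall hG hU hM
  have hQM : IsSylowOf q Q M := bg10_isSylowOf_of_sylowSet h1.1 (h1.2.2 q hq hqσ) hQ
  have hQtop : IsSylowOf q Q ⊤ := by
    refine bg10_isSylowOf_of_sylowSet le_top ?_ hQ
    rw [Subgroup.relIndex_top_right]
    exact h2.2 q hq hqσ
  refine ⟨hQtop, hQM, ?_⟩
  obtain ⟨-, -, P₀, hN⟩ := hqσ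
  obtain ⟨m, hm, rfl⟩ := bg10_sylow_conj (isSylowOf_map P₀) hQM
  exact bg11_normalizer_conj_le hm hN

/-- Coprime generation for an elementary abelian group of order `p ^ 2`. -/
theorem bg11_exists_fix {p : ℕ} [Fact p.Prime] {A K : Subgroup G} (hA : IsElementaryAbelian p A)
    (hAc : Nat.card A = p ^ 2) (hAK : A ≤ normalizer (K : Set G))
    (hcop : (Nat.card A).Coprime (Nat.card K)) (hK : K ≠ ⊥) :
    ∃ X : Subgroup G, X ≤ A ∧ Nat.card X = p ∧ K ⊓ centralizer (X : Set G) ≠ ⊥ := by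
  have hp : p.Prime := Fact.out
  by_contra hcon
  push Not at hcon
  have hnc : ¬ ∃ a ∈ A, zpowers a = A := by
    rintro ⟨a, ha, hza⟩
    have h1 : Nat.card (zpowers a) ≤ p := by
      rw [Nat.card_zpowers]
      exact Nat.le_of_dvd hp.pos (orderOf_dvd_of_pow_eq_one (hA.2 a ha))
    rw [hza, hAc] at h1
    have := hp.one_lt
    nlinarith
  have hgen := coprime_gen_nonidentity (bg11_elemAb_comm hA) hnc hAK hcop
  apply hK
  rw [eq_bot_iff]
  refine hgen.le.trans (iSup₂_le (fun B hB => ?_))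
  obtain ⟨hBA, hB1⟩ := hB
  obtain ⟨b, hb, hb1⟩ := bg11_exists_ne_one hB1
  have hbp : b ^ p = 1 := hA.2 b (hBA hb)
  have hX : Nat.card (zpowers b) = p := by
    rw [Nat.card_zpowers]; exact orderOf_eq_prime hbp hb1
  have h2 := hcon (zpowers b) ((zpowers_le.mpr hb).trans hBA) hX
  rw [← h2]
  exact inf_le_inf_left K (centralizer_le (by exact_mod_cast (zpowers_le.mpr hb)))

section Hyp

variable {M A₀ A : Subgroup G} {p : ℕ}

omit [Finite G] in
theorem bg11_centralizer_le (h : BG11Hyp M A₀ A p) : centralizer (A : Set G) ≤ M := by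
  intro c hc
  apply h.norm
  have hc' : c ∈ centralizer (A₀ : Set G) := centralizer_le (by exact_mod_cast h.le) hc
  exact centralizer_le_normalizer _ hc'

omit [Finite G] in
theorem bg11_le_M (h : BG11Hyp M A₀ A p) : A ≤ M := fun a ha =>
  bg11_centralizer_le h (by
    rw [mem_centralizer_iff]; intro b hb; exact bg11_elemAb_comm h.elem b hb a ha)

omit [Finite G] in
theorem bg11_A_ne_bot [Fact p.Prime] (h : BG11Hyp M A₀ A p) : A ≠ ⊥ := by
  have hp : p.Prime := Fact.out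
  intro e
  have h1 := h.cardA
  rw [e, Subgroup.card_bot] at h1
  have := hp.one_lt
  nlinarith

theorem bg11_rank (hG : IsMinSimpleOddOrder G) (hU : BGUniq G) [Fact p.Prime]
    (h : BG11Hyp M A₀ A p) : PRankLE p 2 ↥M ∧ ¬ PRankLE p 1 ↥M :=
  (bg10_nonsigma_normalizer hG hU h.coatom h.notσ h.cardA₀ h.norm).1

theorem bg11_max (hG : IsMinSimpleOddOrder G) (hU : BGUniq G) [Fact p.Prime]
    (h : BG11Hyp M A₀ A p) :
    ∀ B : Subgroup G, IsElementaryAbelian p B → A ≤ B → B = A :=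
  bg10_elemAb_sq_maximal hG hU h.coatom (bg11_rank hG hU h).1 (bg11_le_M h) h.elem h.cardA

omit [Finite G] in
theorem bg11_coprime [Fact p.Prime] (h : BG11Hyp M A₀ A p) {K : Subgroup G}
    (hK : ∀ r : ℕ, r.Prime → r ∣ Nat.card K → r ∈ sigma M) :
    (Nat.card A).Coprime (Nat.card K) := by
  have hp : p.Prime := Fact.out
  rw [h.cardA]
  apply Nat.Coprime.pow_left
  rw [Nat.Prime.coprime_iff_not_dvd hp]
  exact fun hd => h.notσ (hK p hp hd)

/-- **B&G Lemma 11.1(b)**. -/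
theorem bg11_TI_sylow (hG : IsMinSimpleOddOrder G) (hU : BGUniq G) (hpl : BGPLen G)
    [Fact p.Prime] (h : BG11Hyp M A₀ A p) {g : G} (hg : g ∉ M)
    {q : ℕ} [Fact q.Prime] {Q₁ Q₂ : Subgroup G}
    (hQ₁ : Q₁ ∈ sylowSet q (sigmaCore M)) (hQ₁A : A ≤ normalizer (Q₁ : Set G))
    (hQ₂ : Q₂ ∈ sylowSet q (MulAut.conj g • sigmaCore M)) (hQ₂A : A ≤ normalizer (Q₂ : Set G))
    {X : Subgroup G} (hXA : X ≤ A) (hX1 : X ≠ ⊥)
    (h1 : Q₁ ⊓ centralizer (X : Set G) ≠ ⊥) (h2 : Q₂ ⊓ centralizer (X : Set G) ≠ ⊥) : False := by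
  have hp : p.Prime := Fact.out
  have hq : q.Prime := Fact.out
  have hQ1ne : Q₁ ≠ ⊥ := by
    rintro rfl
    exact h1 (bot_inf_eq _)
  have hqσ : q ∈ sigma M :=
    mem_of_dvd_card_piCoreOf (sigma M) M hq
      ((bg11_dvd_card_of_isPGroup (isPGroup_of_mem_sylowSet hQ₁) hQ1ne).trans
        (Subgroup.card_dvd_of_le hQ₁.1))
  have hqp : q ≠ p := by rintro rfl; exact h.notσ hqσ
  obtain ⟨hS1, -, hN1⟩ := bg11_sigma_sylow hG hU h.coatom hqσ hQ₁
  have hQ2' : MulAut.conj g⁻¹ • Q₂ ∈ sylowSet q (sigmaCore M) := by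
    refine ⟨?_, ?_⟩
    · have := conj_smul_le_conj_smul (g := g⁻¹) hQ₂.1
      rwa [conj_smul_conj_smul, inv_mul_cancel, map_one, one_smul] at this
    · rw [card_conj_smul, hQ₂.2, card_conj_smul]
  obtain ⟨m, hm, hmQ⟩ := sylowSet_trans hQ₁ hQ2'
  have hQ2eq : Q₂ = MulAut.conj (g * m) • Q₁ := by
    rw [← conj_smul_conj_smul, hmQ, conj_smul_conj_smul, mul_inv_cancel, map_one, one_smul]
  have hS2 : IsSylowOf q Q₂ ⊤ := by
    rw [hQ2eq]; exact bg10_isSylowOf_conj hS1 (mem_top _)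
  have hT := bg11_transHyp hG hpl h.elem (bg11_A_ne_bot h) (bg11_max hG hU h)
  have hqA : ¬ q ∣ Nat.card A := by
    rw [h.cardA]; intro hd
    exact hqp ((Nat.prime_dvd_prime_iff_eq hq hp).mp (hq.dvd_of_dvd_pow hd))
  have hH : centralizer (X : Set G) ≠ ⊤ := by
    obtain ⟨b, hb, hb1⟩ := bg11_exists_ne_one hX1
    intro htop
    apply centralizer_singleton_ne_top hG.2 hb1
    rw [eq_top_iff, ← htop]
    exact centralizer_le (Set.singleton_subset_iff.mpr hb)
  have hAH : A ≤ centralizer (X : Set G) := by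
    intro a ha
    rw [mem_centralizer_iff]
    intro x hx
    exact bg11_elemAb_comm h.elem x (hXA hx) a ha
  obtain ⟨k, hk, hkQ⟩ := conj_of_common_overgroup hG hT hq hqA (bg11_sylow_maxInv hq hS1 hQ₁A)
    (bg11_sylow_maxInv hq hS2 hQ₂A) hH hAH (by rwa [inf_comm]) (by rwa [inf_comm])
  have hkM : k ∈ M := bg11_centralizer_le h (piCoreOf_le _ _ hk)
  have hnorm : k⁻¹ * (g * m) ∈ normalizer (Q₁ : Set G) := by
    apply bg10_mem_normalizer
    intro x hx
    have hx2 : (g * m) * x * (g * m)⁻¹ ∈ MulAut.conj k • Q₁ := by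
      rw [← hkQ, hQ2eq]; exact conj_mem_conj_smul hx
    rw [mem_conj_smul] at hx2
    have e : k⁻¹ * (g * m) * x * (k⁻¹ * (g * m))⁻¹ = k⁻¹ * (g * m * x * (g * m)⁻¹) * k := by
      group
    rw [e]; exact hx2
  have h3 := hN1 hnorm
  have hmM : m ∈ M := piCoreOf_le (sigma M) M hm
  apply hg
  have e : g = k * (k⁻¹ * (g * m)) * m⁻¹ := by group
  rw [e]; exact mul_mem (mul_mem hkM h3) (inv_mem hmM)

/-- **B&G Lemma 11.2(a)**: `M_σ ∩ gMg⁻¹ = 1` for `g ∉ M` with `A ≤ gMg⁻¹`. -/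
theorem bg11_TI (hG : IsMinSimpleOddOrder G) (hU : BGUniq G) (hpl : BGPLen G)
    [Fact p.Prime] (h : BG11Hyp M A₀ A p) {g : G} (hg : g ∉ M)
    (hAg : A ≤ MulAut.conj g • M) : sigmaCore M ⊓ MulAut.conj g • M = ⊥ := by
  have hp : p.Prime := Fact.out
  by_contra hD
  obtain ⟨D, hDdef⟩ : ∃ D, D = sigmaCore M ⊓ MulAut.conj g • M := ⟨_, rfl⟩
  rw [← hDdef] at hD
  have hAM := bg11_le_M h
  have hsσ : ∀ r : ℕ, r.Prime → r ∣ Nat.card (sigmaCore M) → r ∈ sigma M :=
    fun r hr hd => mem_of_dvd_card_piCoreOf (sigma M) M hr hd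
  have hMn : M ≤ normalizer (sigmaCore M : Set G) := le_normalizer_piCoreOf (sigma M) M
  have hAσ : A ≤ normalizer (sigmaCore M : Set G) := hAM.trans hMn
  have hAgσ : A ≤ normalizer ((MulAut.conj g • sigmaCore M : Subgroup G) : Set G) :=
    hAg.trans (bg11_conj_le_normalizer g hMn)
  have hDle1 : D ≤ sigmaCore M := hDdef ▸ inf_le_left
  have hDle2 : D ≤ MulAut.conj g • M := hDdef ▸ inf_le_right
  have hDσ : ∀ r : ℕ, r.Prime → r ∣ Nat.card D → r ∈ sigma M :=
    fun r hr hd => hsσ r hr (hd.trans (Subgroup.card_dvd_of_le hDle1))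
  have hAD : A ≤ normalizer (D : Set G) := by
    rw [hDdef]
    exact bg11_le_normalizer_inf hAσ (hAg.trans le_normalizer)
  have hDle3 : D ≤ MulAut.conj g • sigmaCore M := by
    obtain ⟨hσ1, -, -⟩ := bg10_sigma_hall hG hU h.coatom
    have hJM : MulAut.conj g⁻¹ • D ≤ M := by
      have := conj_smul_le_conj_smul (g := g⁻¹) hDle2
      rwa [conj_smul_conj_smul, inv_mul_cancel, map_one, one_smul] at this
    have hJ : MulAut.conj g⁻¹ • D ≤ sigmaCore M := by
      apply bg12_le_of_coprime_relIndex hσ1.1 hJM (hJM.trans hMn)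
      rw [card_conj_smul]
      apply Nat.coprime_of_dvd
      intro r hr h1 h2
      exact hσ1.2.2 r hr (hDσ r hr h1) h2
    have := conj_smul_le_conj_smul (g := g) hJ
    rwa [conj_smul_conj_smul, mul_inv_cancel, map_one, one_smul] at this
  have hD1 : Nat.card D ≠ 1 := fun e => hD (Subgroup.card_eq_one.mp e)
  obtain ⟨q, hq, hqD⟩ := Nat.exists_prime_and_dvd hD1
  have := Fact.mk hq
  have hsolv : Group.IsSolvable A := isSolvable_of_forall_comm (bg11_elemAb_comm h.elem)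
  obtain ⟨R, hR, hRA⟩ := exists_invariant_sylow hAD (bg11_coprime h hDσ) (Or.inl hsolv) q
  have hRq : IsPGroup q R := isPGroup_of_mem_sylowSet hR
  have hR1 : R ≠ ⊥ := by
    intro e
    have h1 : Nat.card R = 1 := by rw [e]; exact Subgroup.card_bot
    rw [hR.2] at h1
    have hk : (Nat.card D).factorization q = 0 := by
      by_contra hk
      have := Nat.one_lt_pow hk hq.one_lt
      omega
    have := hq.factorization_pos_of_dvd Nat.card_pos.ne' hqD
    omega
  obtain ⟨Q₁, hQ₁, hRQ₁, hQ₁A⟩ := exists_invariant_sylow_ge hAσ (bg11_coprime h hsσ)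
    (Or.inl hsolv) (hR.1.trans hDle1) hRq hRA
  have hsσ' : ∀ r : ℕ, r.Prime → r ∣ Nat.card (MulAut.conj g • sigmaCore M : Subgroup G) →
      r ∈ sigma M := by
    intro r hr hd; rw [card_conj_smul] at hd; exact hsσ r hr hd
  obtain ⟨Q₂, hQ₂, hRQ₂, hQ₂A⟩ := exists_invariant_sylow_ge hAgσ (bg11_coprime h hsσ')
    (Or.inl hsolv) (hR.1.trans hDle3) hRq hRA
  have hcopR : (Nat.card A).Coprime (Nat.card R) :=
    bg11_coprime h (fun r hr hd => hDσ r hr (hd.trans (Subgroup.card_dvd_of_le hR.1)))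
  obtain ⟨X, hXA, hXc, hXfix⟩ := bg11_exists_fix h.elem h.cardA hRA hcopR hR1
  have hX1 : X ≠ ⊥ := by
    intro e
    rw [e, Subgroup.card_bot] at hXc
    exact hp.one_lt.ne hXc
  exact bg11_TI_sylow hG hU hpl h hg hQ₁ hQ₁A hQ₂ hQ₂A hXA hX1
    (fun e => hXfix (le_bot_iff.mp (e ▸ inf_le_inf_right _ hRQ₁)))
    (fun e => hXfix (le_bot_iff.mp (e ▸ inf_le_inf_right _ hRQ₂)))

/-- **B&G Lemma 11.2(b)**: `gA₀g⁻¹` has no fixed points on `M_σ`. -/
theorem bg11_fpf (hG : IsMinSimpleOddOrder G) (hU : BGUniq G) (hpl : BGPLen G)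
    [Fact p.Prime] (h : BG11Hyp M A₀ A p) {g : G} (hg : g ∉ M)
    (hAg : A ≤ MulAut.conj g • M) :
    sigmaCore M ⊓ centralizer ((MulAut.conj g • A₀ : Subgroup G) : Set G) = ⊥ := by
  rw [eq_bot_iff, ← bg11_TI hG hU hpl h hg hAg]
  refine inf_le_inf_left _ ?_
  intro c hc
  rw [mem_conj_smul]
  apply h.norm
  apply bg10_mem_normalizer
  intro x hx
  have h1 : (g * x * g⁻¹) * c = c * (g * x * g⁻¹) :=
    mem_centralizer_iff.mp hc _ (conj_mem_conj_smul hx)
  have h2 : c * (g * x * g⁻¹) * c⁻¹ = g * x * g⁻¹ := by rw [← h1]; group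
  have e : g⁻¹ * c * g * x * (g⁻¹ * c * g)⁻¹ = x := by
    calc g⁻¹ * c * g * x * (g⁻¹ * c * g)⁻¹ = g⁻¹ * (c * (g * x * g⁻¹) * c⁻¹) * g := by group
      _ = g⁻¹ * (g * x * g⁻¹) * g := by rw [h2]
      _ = x := by group
  rw [e]; exact hx

/-- A Sylow `p`-subgroup `P ≥ A` of `M` and an element of `N_G(P)` outside `M`. -/
theorem bg11_exists_sylow [Fact p.Prime] (h : BG11Hyp M A₀ A p) :
    ∃ P : Subgroup G, IsSylowOf p P M ∧ A ≤ P ∧ ∃ g ∈ normalizer (P : Set G), g ∉ M := by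
  have hp : p.Prime := Fact.out
  have hAM := bg11_le_M h
  obtain ⟨P, hP, hAP⟩ := exists_isSylowOf_ge (bg11_isPGroup_of_elemAb h.elem) hAM
  refine ⟨P, hP, hAP, ?_⟩
  have hN : ¬ normalizer (P : Set G) ≤ M := by
    intro hN
    apply h.notσ
    have hpM : p ∣ Nat.card M := by
      have h1 : p ∣ Nat.card A := by rw [h.cardA]; exact dvd_pow_self p (by norm_num)
      exact h1.trans (Subgroup.card_dvd_of_le hAM)
    obtain ⟨P₀, hP₀⟩ := hP.exists_sylow
    refine ⟨hp, hpM, P₀, ?_⟩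
    rw [hP₀, Subgroup.map_subgroupOf_eq_of_le hP.1]
    exact hN
  exact SetLike.not_le_iff_exists.mp hN

theorem bg11_fpf_sylow (hG : IsMinSimpleOddOrder G) (hU : BGUniq G) (hpl : BGPLen G)
    [Fact p.Prime] (h : BG11Hyp M A₀ A p) {P : Subgroup G} (hP : IsSylowOf p P M)
    (hAP : A ≤ P) {g : G} (hgP : g ∈ normalizer (P : Set G)) (hg : g ∉ M) :
    MulAut.conj g • A₀ ≤ P ∧
      sigmaCore M ⊓ centralizer ((MulAut.conj g • A₀ : Subgroup G) : Set G) = ⊥ := by
  have hPg : MulAut.conj g • P = P := conj_smul_eq_self_of_mem_normalizer hgP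
  refine ⟨?_, bg11_fpf hG hU hpl h hg ?_⟩
  · have := conj_smul_le_conj_smul (g := g) (h.le.trans hAP)
    rwa [hPg] at this
  · have h1 : P ≤ MulAut.conj g • M := by
      have := conj_smul_le_conj_smul (g := g) hP.1
      rwa [hPg] at this
    exact hAP.trans h1

/-- **B&G Theorem 11.3**: `M_σ` is nilpotent. -/
theorem bg11_sigma_nilpotent (hG : IsMinSimpleOddOrder G) (hU : BGUniq G) (hpl : BGPLen G)
    [Fact p.Prime] (h : BG11Hyp M A₀ A p) : Group.IsNilpotent ↥(sigmaCore M) := by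
  have hp : p.Prime := Fact.out
  obtain ⟨P, hP, hAP, g, hgP, hg⟩ := bg11_exists_sylow h
  obtain ⟨hB, hfpf⟩ := bg11_fpf_sylow hG hU hpl h hP hAP hgP hg
  have hBc : Nat.card (MulAut.conj g • A₀ : Subgroup G) = p := by rw [card_conj_smul, h.cardA₀]
  have hB1 : (MulAut.conj g • A₀ : Subgroup G) ≠ ⊥ := by
    intro e
    rw [e, Subgroup.card_bot] at hBc
    exact hp.one_lt.ne hBc
  obtain ⟨b, hb, hb1⟩ := bg11_exists_ne_one hB1
  have hbp : b ^ p = 1 := by
    have h1 := pow_card_eq_one' (G := ↥(MulAut.conj g • A₀ : Subgroup G)) (x := ⟨b, hb⟩)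
    rw [hBc] at h1
    have h2 := congrArg Subtype.val h1
    rwa [Subgroup.coe_pow] at h2
  have hbM : b ∈ M := hP.1 (hB hb)
  have hbN : b ∈ normalizer (sigmaCore M : Set G) := le_normalizer_piCoreOf (sigma M) M hbM
  have hz : (MulAut.conj g • A₀ : Subgroup G) = zpowers b := by
    symm
    apply Subgroup.eq_of_le_of_card_ge (zpowers_le.mpr hb)
    rw [hBc, Nat.card_zpowers, orderOf_eq_prime hbp hb1]
  have hfix : ∀ x ∈ sigmaCore M, b * x = x * b → x = 1 := by
    intro x hx hbx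
    have hx2 : x ∈ centralizer ((MulAut.conj g • A₀ : Subgroup G) : Set G) := by
      rw [hz, bg10_centralizer_zpowers, mem_centralizer_iff]
      intro y hy
      rw [Set.mem_singleton_iff] at hy
      rw [hy]; exact hbx
    have h3 : x ∈ sigmaCore M ⊓ centralizer ((MulAut.conj g • A₀ : Subgroup G) : Set G) :=
      ⟨hx, hx2⟩
    rw [hfpf] at h3
    exact Subgroup.mem_bot.mp h3
  have key : ∀ n : ℕ, ∀ y : ↥(sigmaCore M),
      (((⇑(conjHom (sigmaCore M) ⟨b, hbN⟩))^[n] y : ↥(sigmaCore M)) : G) =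
        b ^ n * y * (b ^ n)⁻¹ := by
    intro n
    induction n with
    | zero => intro y; simp
    | succ n ih =>
      intro y
      rw [Function.iterate_succ_apply']
      show b * ((⇑(conjHom (sigmaCore M) ⟨b, hbN⟩))^[n] y : G) * b⁻¹ = _
      rw [ih y, pow_succ']
      group
  have hFP : Helper19.FP p (conjHom (sigmaCore M) ⟨b, hbN⟩) := by
    refine ⟨fun x hx => ?_, fun x => ?_⟩
    · have h1 : b * (x : G) * b⁻¹ = x := congrArg Subtype.val hx
      have h2 : b * (x : G) = x * b := by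
        calc b * (x : G) = b * x * b⁻¹ * b := by group
          _ = x * b := by rw [h1]
      exact Subtype.ext (hfix x x.2 h2)
    · apply Subtype.ext
      rw [key, hbp]; simp
  exact Helper19.thompson_thesis hp _ hFP

/-- If `M_σ` is nilpotent, its Sylow subgroups are normal in `M`. -/
theorem bg11_sylow_normal (hnil : Group.IsNilpotent ↥(sigmaCore M)) {q : ℕ} [Fact q.Prime]
    {Q : Subgroup G} (hQ : Q ∈ sylowSet q (sigmaCore M)) : M ≤ normalizer (Q : Set G) := by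
  obtain ⟨Q', hQ'⟩ := exists_sylow_of_mem_sylowSet hQ
  have hn : (Q' : Subgroup ↥(sigmaCore M)).Normal := inferInstance
  have hKQ : ∀ k ∈ sigmaCore M, ∀ x ∈ Q, k * x * k⁻¹ ∈ Q := by
    intro k hk x hx
    rw [← hQ'] at hx ⊢
    obtain ⟨x', hx', rfl⟩ := hx
    exact ⟨⟨k, hk⟩ * x' * ⟨k, hk⟩⁻¹, hn.conj_mem x' hx' ⟨k, hk⟩, rfl⟩
  intro m hm
  have hmK : m ∈ normalizer (sigmaCore M : Set G) := le_normalizer_piCoreOf (sigma M) M hm
  obtain ⟨k, hk, hkQ⟩ := sylowSet_trans hQ (conj_mem_sylowSet hmK hQ)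
  have hkN : k ∈ normalizer (Q : Set G) := bg10_mem_normalizer (hKQ k hk)
  rw [conj_smul_eq_self_of_mem_normalizer hkN] at hkQ
  apply bg10_mem_normalizer
  intro x hx
  have := conj_mem_conj_smul (g := m) hx
  rwa [← hkQ] at this

/-- **B&G Lemma 11.4**: a maximal subgroup `H ≥ A` with `H_σ ∩ M_σ ≠ 1` is `M`. -/
theorem bg11_sigma_uniq (hG : IsMinSimpleOddOrder G) (hU : BGUniq G) (hpl : BGPLen G)
    [Fact p.Prime] (h : BG11Hyp M A₀ A p) {H : Subgroup G} (hH : IsCoatom H) (hAH : A ≤ H)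
    (hne : sigmaCore H ⊓ sigmaCore M ≠ ⊥) : H = M := by
  have hnil := bg11_sigma_nilpotent hG hU hpl h
  have hD1 : Nat.card ↥(sigmaCore H ⊓ sigmaCore M) ≠ 1 :=
    fun e => hne (Subgroup.card_eq_one.mp e)
  obtain ⟨q, hq, hqD⟩ := Nat.exists_prime_and_dvd hD1
  have := Fact.mk hq
  have hqM : q ∈ sigma M := mem_of_dvd_card_piCoreOf (sigma M) M hq
    (hqD.trans (Subgroup.card_dvd_of_le inf_le_right))
  have hqH : q ∈ sigma H := mem_of_dvd_card_piCoreOf (sigma H) H hq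
    (hqD.trans (Subgroup.card_dvd_of_le inf_le_left))
  obtain ⟨Q, hQ⟩ := sylowSet_nonempty (p := q) (sigmaCore M)
  obtain ⟨hQtop, -, -⟩ := bg11_sigma_sylow hG hU h.coatom hqM hQ
  have hMQ := bg11_sylow_normal hnil hQ
  obtain ⟨-, -, R₀, hNR⟩ := hqH
  have hR := isSylowOf_map R₀
  have hRtop : IsSylowOf q ((R₀ : Subgroup ↥H).map H.subtype) ⊤ :=
    hR.of_normalizer_inf_le le_top (inf_le_left.trans hNR)
  obtain ⟨x, -, hx⟩ := bg10_sylow_conj hQtop hRtop
  have hxM : MulAut.conj x • M ≤ H := by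
    intro y hy
    rw [mem_conj_smul] at hy
    apply hNR
    rw [hx]
    have h1 := hMQ hy
    apply bg10_mem_normalizer
    intro z hz
    rw [mem_conj_smul] at hz ⊢
    have h2 := (mem_normalizer_iff.mp h1 _).mp hz
    have e : x⁻¹ * (y * z * y⁻¹) * x = x⁻¹ * y * x * (x⁻¹ * z * x) * (x⁻¹ * y * x)⁻¹ := by
      group
    rw [e]; exact h2
  have hHx : MulAut.conj x • M = H := by
    have hle : M ≤ MulAut.conj x⁻¹ • H := by
      have := conj_smul_le_conj_smul (g := x⁻¹) hxM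
      rwa [conj_smul_conj_smul, inv_mul_cancel, map_one, one_smul] at this
    rcases h.coatom.le_iff.mp hle with e | e
    · exfalso
      apply hH.1
      apply Subgroup.eq_top_of_card_eq
      rw [← card_conj_smul x⁻¹ H, e, Subgroup.card_top]
    · rw [← e, conj_smul_conj_smul, mul_inv_cancel, map_one, one_smul]
  by_cases hxM' : x ∈ M
  · rw [← hHx]; exact conj_smul_eq_self_of_mem_normalizer (le_normalizer hxM')
  · exfalso
    have hTI := bg11_TI hG hU hpl h hxM' (hHx ▸ hAH)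
    apply hne
    rw [eq_bot_iff, ← hTI, hHx]
    exact le_inf inf_le_right (inf_le_left.trans (piCoreOf_le (sigma H) H))

end Hyp

end Cfsg.Agent.Helper22
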