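/-
helper22: the fixed-point-free lemma for Bender–Glauberman Section 11, without quotients:
if `b` of prime order `p` has no fixed points on a normal nilpotent subgroup `N` of a group of odd
order and normalizes a `q`-subgroup `K` (`q ≠ p`, `|N|` prime to `p q`), then every commutator
`b g b⁻¹ g⁻¹` (`g ∈ K`) centralizes `N`.  From `Helper62.FitAct.shult_odd` (Shult's theorem in odd
order) and Burnside's lemma `Helper35.centralizes_of_coprime_of_frattini`.
Everything lives in `Cfsg.Agent.Helper22`.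
-/
import Cfsg.Agent.Helper22.BG11a
import Cfsg.Agent.Helper62.FitAct

set_option autoImplicit false

namespace Cfsg.Agent.Helper22

open Cfsg Subgroup Cfsg.Agent.Helper23 Cfsg.Agent.Helper35
open scoped Pointwise commutatorElement

universe u

/-- Shult + Burnside: `[x, g]` centralizes the normal `ℓ`-subgroup `P` on which `x` has no fixed
points. -/
theorem bg11_shult_centralize {X : Type u} [Group X] [Finite X] (hodd : Odd (Nat.card X))
    {ℓ q r : ℕ} (hℓ : ℓ.Prime) (hq : q.Prime) (hr : r.Prime) (hℓq : ℓ ≠ q) (hℓr : ℓ ≠ r)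
    (hqr : q ≠ r) (P : Subgroup X) [P.Normal] (hP : IsPGroup ℓ P) (Q : Subgroup X)
    (hQ : IsPGroup q Q) (x : X) (hxr : x ^ r = 1) (hxQ : ∀ g ∈ Q, x * g * x⁻¹ ∈ Q)
    (hfix : ∀ a ∈ P, x * a = a * x → a = 1) (g : X) (hg : g ∈ Q) :
    ∀ y ∈ P, (x * g * x⁻¹ * g⁻¹) * y = y * (x * g * x⁻¹ * g⁻¹) := by
  have := Fact.mk hℓ
  have hh : x * g * x⁻¹ * g⁻¹ ∈ Q := mul_mem (hxQ g hg) (inv_mem hg)
  have hcop : (orderOf (x * g * x⁻¹ * g⁻¹)).Coprime ℓ := by
    obtain ⟨k, hk⟩ := hQ ⟨_, hh⟩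
    have hk' : (x * g * x⁻¹ * g⁻¹) ^ (q ^ k) = 1 := by
      have h2 := congrArg Subtype.val hk
      rwa [Subgroup.coe_pow] at h2
    have h1 : orderOf (x * g * x⁻¹ * g⁻¹) ∣ q ^ k := orderOf_dvd_of_pow_eq_one hk'
    exact Nat.Coprime.coprime_dvd_left h1
      (Nat.Coprime.pow_left k ((Nat.coprime_primes hq hℓ).mpr (Ne.symm hℓq)))
  refine centralizes_of_coprime_of_frattini hP ?_ hcop ?_
  · rw [normalizer_eq_top_iff.mpr (inferInstance : P.Normal)]; exact mem_top _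
  · intro y hy
    exact Helper62.FitAct.shult_odd hℓ hq hr hℓq hℓr hqr hodd P hP Q hQ x hxr hxQ hfix g hg y hy

/-- The fixed-point-free lemma in a group of odd order: `N` normal nilpotent, `b` of prime order
`p` without fixed points on `N`, normalizing the `q`-group `K`. -/
theorem bg11_fpf_comm_aux {X : Type u} [Group X] [Finite X] (hodd : Odd (Nat.card X))
    (N : Subgroup X) [N.Normal] (hN : Group.IsNilpotent N) {p q : ℕ} (hp : p.Prime)
    (hq : q.Prime) (hqp : q ≠ p) (hqN : ¬ q ∣ Nat.card N) (hpN : ¬ p ∣ Nat.card N)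
    (K : Subgroup X) (hK : IsPGroup q K) (b : X) (hbp : b ^ p = 1)
    (hbK : ∀ g ∈ K, b * g * b⁻¹ ∈ K) (hfix : ∀ a ∈ N, b * a = a * b → a = 1)
    (g : X) (hg : g ∈ K) :
    ∀ y ∈ N, (b * g * b⁻¹ * g⁻¹) * y = y * (b * g * b⁻¹ * g⁻¹) := by
  have hF : N ≤ Cfsg.fittingOf N := Helper62.FitAct.le_fittingOf le_rfl hN
  rw [Helper62.FitAct.fittingOf_eq_iSup] at hF
  have hle : (⨆ ℓ : Nat.Primes, Helper62.FitAct.oq (ℓ : ℕ) N) ≤
      centralizer ({b * g * b⁻¹ * g⁻¹} : Set X) := by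
    refine iSup_le (fun ℓ => ?_)
    intro y hy
    rw [mem_centralizer_iff]
    intro z hz
    rw [Set.mem_singleton_iff.mp hz]
    have := Helper62.FitAct.oq_normal (ℓ : ℕ) N
    by_cases hy1 : y = 1
    · rw [hy1, mul_one, one_mul]
    · have hℓN : (ℓ : ℕ) ∣ Nat.card N := by
        have hP1 : Helper62.FitAct.oq (ℓ : ℕ) N ≠ ⊥ := by
          intro e
          rw [e, Subgroup.mem_bot] at hy
          exact hy1 hy
        have := Fact.mk ℓ.2
        exact (bg11_dvd_card_of_isPGroup (Helper62.FitAct.oq_isPGroup (ℓ : ℕ) N) hP1).trans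
          (Subgroup.card_dvd_of_le (Helper62.FitAct.oq_le (ℓ : ℕ) N))
      have hℓq : (ℓ : ℕ) ≠ q := by rintro e; exact hqN (e ▸ hℓN)
      have hℓp : (ℓ : ℕ) ≠ p := by rintro e; exact hpN (e ▸ hℓN)
      exact bg11_shult_centralize hodd ℓ.2 hq hp hℓq hℓp hqp (Helper62.FitAct.oq (ℓ : ℕ) N)
        (Helper62.FitAct.oq_isPGroup (ℓ : ℕ) N) K hK b hbp hbK
        (fun a ha => hfix a (Helper62.FitAct.oq_le (ℓ : ℕ) N ha)) g hg y hy
  intro y hy
  have h1 := hle (hF hy)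
  rw [mem_centralizer_iff] at h1
  exact h1 _ rfl

variable {G : Type u} [Group G] [Finite G]

/-- The fixed-point-free lemma inside a subgroup `M` of odd order of `G`: `N ⊴ M` nilpotent,
`b ∈ M` of prime order `p` without fixed points on `N`, normalizing the `q`-subgroup `K ≤ M`. -/
theorem bg11_fpf_comm {M N K : Subgroup G} (hoddM : Odd (Nat.card M)) (hNM : N ≤ M)
    (hMN : M ≤ normalizer (N : Set G)) (hN : Group.IsNilpotent N) {p q : ℕ} (hp : p.Prime)
    (hq : q.Prime) (hqp : q ≠ p) (hqN : ¬ q ∣ Nat.card N) (hpN : ¬ p ∣ Nat.card N)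
    (hKM : K ≤ M) (hK : IsPGroup q K) {b : G} (hbM : b ∈ M) (hbp : b ^ p = 1)
    (hbK : ∀ g ∈ K, b * g * b⁻¹ ∈ K) (hfix : ∀ a ∈ N, b * a = a * b → a = 1) :
    ∀ g ∈ K, ∀ y ∈ N, (b * g * b⁻¹ * g⁻¹) * y = y * (b * g * b⁻¹ * g⁻¹) := by
  intro g hg y hy
  have hn : (N.subgroupOf M).Normal := Subgroup.normal_subgroupOf_of_le_normalizer hMN
  have hnil : Group.IsNilpotent ↥(N.subgroupOf M) :=
    (Group.isNilpotent_congr (Subgroup.subgroupOfEquivOfLe hNM)).mpr hN
  have hcard : Nat.card ↥(N.subgroupOf M) = Nat.card N := Helper35.card_subgroupOf_of_le hNM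
  have h1 := bg11_fpf_comm_aux (X := ↥M) hoddM (N.subgroupOf M) hnil hp hq hqp
    (by rw [hcard]; exact hqN) (by rw [hcard]; exact hpN) (K.subgroupOf M) hK.comap_subtype
    ⟨b, hbM⟩ (Subtype.ext (by rw [Subgroup.coe_pow]; exact hbp))
    (fun k hk => by
      rw [Subgroup.mem_subgroupOf] at hk ⊢
      exact hbK _ hk)
    (fun a ha hab => by
      rw [Subgroup.mem_subgroupOf] at ha
      exact Subtype.ext (hfix _ ha (congrArg Subtype.val hab)))
    ⟨g, hKM hg⟩ (Subgroup.mem_subgroupOf.mpr hg) ⟨y, hNM hy⟩ (Subgroup.mem_subgroupOf.mpr hy)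
  exact congrArg Subtype.val h1

end Cfsg.Agent.Helper22
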