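/-
helper22: the common reduction of Bender–Glauberman Theorem 11.7.  Under Hypothesis 11.1 for
`(M, A₀, A, p)`, with `A = Ω₁(P)` for a Sylow `p`-subgroup `P` of `M` and two different subgroups of
order `p` of `A` without fixed points on `M_σ`:  if `A` centralizes every normal `r`-subgroup of `M`
for the primes `r ∉ σ(M)`, `r ≠ p`, then `M_σ A` is normal in `M`.
Everything lives in `Cfsg.Agent.Helper22`.
-/
import Cfsg.Agent.Helper22.BG11c
import Cfsg.Agent.Helper22.BG12a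
import Cfsg.Agent.Helper24.PLen

set_option autoImplicit false

namespace Cfsg.Agent.Helper22

open Cfsg Subgroup Cfsg.Agent.Helper23 Cfsg.Agent.Helper35
open scoped Pointwise commutatorElement

universe u

variable {G : Type u} [Group G] [Finite G] {M A₀ A : Subgroup G} {p : ℕ}

omit [Finite G] in
/-- The elements `k` of `M` with `[k, a] ∈ N` for all `a ∈ A`, for an `M`-invariant subgroup `N`. -/
def bg11CommSub (A N M : Subgroup G) (hN : M ≤ normalizer (N : Set G)) : Subgroup G where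
  carrier := {k | k ∈ M ∧ ∀ a ∈ A, k * a * k⁻¹ * a⁻¹ ∈ N}
  one_mem' := ⟨M.one_mem, fun a _ => by simp⟩
  mul_mem' := by
    rintro k k' ⟨hk, h1⟩ ⟨hk', h2⟩
    refine ⟨M.mul_mem hk hk', fun a ha => ?_⟩
    have e : k * k' * a * (k * k')⁻¹ * a⁻¹ =
        k * (k' * a * k'⁻¹ * a⁻¹) * k⁻¹ * (k * a * k⁻¹ * a⁻¹) := by group
    rw [e]
    exact N.mul_mem ((mem_normalizer_iff.mp (hN hk) _).mp (h2 a ha)) (h1 a ha)
  inv_mem' := by
    rintro k ⟨hk, h1⟩
    refine ⟨M.inv_mem hk, fun a ha => ?_⟩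
    have e : k⁻¹ * a * k⁻¹⁻¹ * a⁻¹ = k⁻¹ * (k * a * k⁻¹ * a⁻¹)⁻¹ * k⁻¹⁻¹ := by group
    rw [e]
    exact (mem_normalizer_iff.mp (hN (M.inv_mem hk)) _).mp (N.inv_mem (h1 a ha))

omit [Finite G] in
theorem bg11_mem_commSub {A N M : Subgroup G} {hN : M ≤ normalizer (N : Set G)} {k : G} :
    k ∈ bg11CommSub A N M hN ↔ k ∈ M ∧ ∀ a ∈ A, k * a * k⁻¹ * a⁻¹ ∈ N := Iff.rfl

/-- A subgroup containing a Sylow `r`-subgroup of `K` for every prime `r` contains `K`. -/
theorem bg11_le_of_sylows {K T : Subgroup G}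
    (h : ∀ r : ℕ, r.Prime → ∃ Q : Subgroup G, Q ∈ sylowSet r K ∧ Q ≤ T) : K ≤ T := by
  have hD : Nat.card K ∣ Nat.card ↥(K ⊓ T) := by
    rw [← Nat.factorization_le_iff_dvd Nat.card_pos.ne' Nat.card_pos.ne']
    intro r
    by_cases hr : r.Prime
    · obtain ⟨Q, hQ, hQT⟩ := h r hr
      have h1 : r ^ (Nat.card K).factorization r ∣ Nat.card ↥(K ⊓ T) := by
        rw [← hQ.2]; exact Subgroup.card_dvd_of_le (le_inf hQ.1 hQT)
      exact (Nat.Prime.pow_dvd_iff_le_factorization hr Nat.card_pos.ne').mp h1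
    · rw [Nat.factorization_eq_zero_of_not_prime _ hr]; exact Nat.zero_le _
  have heq : K ⊓ T = K :=
    Subgroup.eq_of_le_of_card_ge inf_le_left (Nat.le_of_dvd Nat.card_pos hD)
  rw [← heq]; exact inf_le_right

omit [Finite G] in
/-- `n` normalizes `H ⊔ K` as soon as it conjugates `H` and `K` into `H ⊔ K`. -/
theorem bg11_conj_mem_sup {H K : Subgroup G} {n : G} (hH : ∀ x ∈ H, n * x * n⁻¹ ∈ H ⊔ K)
    (hK : ∀ x ∈ K, n * x * n⁻¹ ∈ H ⊔ K) : ∀ x ∈ H ⊔ K, n * x * n⁻¹ ∈ H ⊔ K := by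
  have hle : H ⊔ K ≤ (H ⊔ K).comap (MulAut.conj n).toMonoidHom :=
    sup_le (fun x hx => by rw [Subgroup.mem_comap]; exact hH x hx)
      (fun x hx => by rw [Subgroup.mem_comap]; exact hK x hx)
  intro x hx
  exact hle hx

/-- A subgroup of prime order is generated by an element of order `p`. -/
theorem bg11_gen_of_card_prime [Fact p.Prime] {B : Subgroup G} (hB : Nat.card B = p) :
    ∃ b ∈ B, b ^ p = 1 ∧ ∀ x ∈ B, x ∈ zpowers b := by
  have hp : p.Prime := Fact.out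
  have hB1 : B ≠ ⊥ := by
    intro e
    rw [e, Subgroup.card_bot] at hB
    exact hp.one_lt.ne hB
  obtain ⟨b, hb, hb1⟩ := bg11_exists_ne_one hB1
  have hbp : b ^ p = 1 := by
    have h1 : (⟨b, hb⟩ : B) ^ Nat.card B = 1 := pow_card_eq_one'
    rw [hB] at h1
    have h2 := congrArg Subtype.val h1
    rwa [Subgroup.coe_pow] at h2
  refine ⟨b, hb, hbp, ?_⟩
  have hle : zpowers b ≤ B := (zpowers_le).mpr hb
  have hc : Nat.card (zpowers b) = p := by
    rw [Nat.card_zpowers]; exact orderOf_eq_prime hbp hb1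
  have heq : zpowers b = B := Subgroup.eq_of_le_of_card_ge hle (by rw [hc, hB])
  intro x hx
  rw [heq]; exact hx

/-- Two different subgroups of order `p` generate a group of order `p ^ 2` containing them. -/
theorem bg11_sup_eq_of_card [Fact p.Prime] {A B₁ B₂ : Subgroup G} (hc : Nat.card A = p ^ 2)
    (h1 : B₁ ≤ A) (h2 : B₂ ≤ A) (hc1 : Nat.card B₁ = p) (hc2 : Nat.card B₂ = p) (hne : B₁ ≠ B₂) :
    B₁ ⊔ B₂ = A := by
  have hp : p.Prime := Fact.out
  have hle : B₁ ⊔ B₂ ≤ A := sup_le h1 h2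
  have hd : Nat.card ↥(B₁ ⊔ B₂) ∣ p ^ 2 := by rw [← hc]; exact Subgroup.card_dvd_of_le hle
  obtain ⟨m, hm, hcm⟩ := (Nat.dvd_prime_pow hp).mp hd
  have hm2 : m = 2 := by
    by_contra hm2
    have hm1 : m ≤ 1 := by omega
    have h3 : Nat.card ↥(B₁ ⊔ B₂) ≤ Nat.card B₁ := by
      rw [hcm, hc1]
      calc p ^ m ≤ p ^ 1 := Nat.pow_le_pow_right hp.pos hm1
        _ = p := pow_one p
    have h4 : B₁ = B₁ ⊔ B₂ := Subgroup.eq_of_le_of_card_ge le_sup_left h3
    have h5 : B₂ ≤ B₁ := by rw [h4]; exact le_sup_right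
    exact hne (Subgroup.eq_of_le_of_card_ge h5 (by rw [hc1, hc2])).symm
  exact Subgroup.eq_of_le_of_card_ge hle (by rw [hcm, hm2, hc])

omit [Finite G] in
/-- If `a` of order dividing `p` commutes with the `r`-element `[a, g]`, `r ≠ p`, then `a` commutes
with `g`. -/
theorem bg11_comm_eq_one {a g : G} {p n : ℕ} (hcop : p.Coprime n) (hap : a ^ p = 1)
    (hc : a * (a * g * a⁻¹ * g⁻¹) = (a * g * a⁻¹ * g⁻¹) * a)
    (hck : (a * g * a⁻¹ * g⁻¹) ^ n = 1) : a * g = g * a := by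
  obtain ⟨c, hcdef⟩ : ∃ c, c = a * g * a⁻¹ * g⁻¹ := ⟨_, rfl⟩
  rw [← hcdef] at hc hck
  have hcg : a * g * a⁻¹ = c * g := by rw [hcdef]; group
  have key : ∀ k : ℕ, a ^ k * g * (a ^ k)⁻¹ = c ^ k * g := by
    intro k
    induction k with
    | zero => simp
    | succ k ih =>
      have hck' : a * c ^ k * a⁻¹ = c ^ k := by
        have h1 : Commute a (c ^ k) := (show Commute a c from hc).pow_right k
        rw [h1.eq]; group
      calc a ^ (k + 1) * g * (a ^ (k + 1))⁻¹ = a * (a ^ k * g * (a ^ k)⁻¹) * a⁻¹ := by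
            rw [pow_succ']; group
        _ = a * (c ^ k * g) * a⁻¹ := by rw [ih]
        _ = (a * c ^ k * a⁻¹) * (a * g * a⁻¹) := by group
        _ = c ^ k * (c * g) := by rw [hck', hcg]
        _ = c ^ (k + 1) * g := by rw [pow_succ]; group
  have h1 := key p
  rw [hap] at h1
  have hcp : c ^ p = 1 := by
    have h2 : g = c ^ p * g := by simpa using h1
    exact mul_eq_right.mp h2.symm
  have ho : orderOf c = 1 := by
    have h3 : orderOf c ∣ Nat.gcd p n :=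
      Nat.dvd_gcd (orderOf_dvd_of_pow_eq_one hcp) (orderOf_dvd_of_pow_eq_one hck)
    rw [hcop] at h3
    exact Nat.dvd_one.mp h3
  have hc1 : c = 1 := orderOf_eq_one_iff.mp ho
  rw [hcdef] at hc1
  calc a * g = (a * g * a⁻¹ * g⁻¹) * (g * a) := by group
    _ = g * a := by rw [hc1, one_mul]

omit [Finite G] in
theorem bg11_commutator_le_self (M : Subgroup G) : ⁅M, M⁆ ≤ M :=
  commutator_le.mpr fun a ha b hb => by
    rw [commutatorElement_def]
    exact M.mul_mem (M.mul_mem (M.mul_mem ha hb) (M.inv_mem ha)) (M.inv_mem hb)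

omit [Finite G] in
theorem bg11_le_normalizer_commutator (M : Subgroup G) : M ≤ normalizer ((⁅M, M⁆ : Subgroup G) : Set G) := by
  apply le_normalizer_of_forall_conj_mem
  intro m hm x hx
  have h1 : ⁅m, x⁆ ∈ ⁅M, M⁆ := commutator_mem_commutator hm (bg11_commutator_le_self M hx)
  have e : m * x * m⁻¹ = ⁅m, x⁆ * x := by rw [commutatorElement_def]; group
  rw [e]
  exact mul_mem h1 hx

omit [Finite G] in
theorem bg11_le_normalizer_centralizer {M N : Subgroup G} (h : M ≤ normalizer (N : Set G)) :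
    M ≤ normalizer ((centralizer (N : Set G) : Subgroup G) : Set G) := by
  apply le_normalizer_of_forall_conj_mem
  intro m hm c hc
  rw [mem_centralizer_iff] at hc ⊢
  intro y hy
  have hy' : m⁻¹ * y * m⁻¹⁻¹ ∈ N := (mem_normalizer_iff.mp (h (M.inv_mem hm)) y).mp hy
  have h1 := hc _ hy'
  calc y * (m * c * m⁻¹) = m * ((m⁻¹ * y * m⁻¹⁻¹) * c) * m⁻¹ := by group
    _ = m * (c * (m⁻¹ * y * m⁻¹⁻¹)) * m⁻¹ := by rw [h1]
    _ = m * c * m⁻¹ * y := by group

/-- `M' ∩ C_M(M_σ)` is nilpotent (`M' M_α / M_α` is nilpotent and `M_α ≤ M_σ`). -/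
theorem bg11_comm_cent_nilpotent (hG : IsMinSimpleOddOrder G) (hU : BGUniq G) {M : Subgroup G}
    (hM : IsCoatom M) :
    Group.IsNilpotent ↥(⁅M, M⁆ ⊓ centralizer (sigmaCore M : Set G)) := by
  obtain ⟨-, -, hασ, -, hnil⟩ := bg10_alpha_hall hG hU hM
  obtain ⟨D, hDdef⟩ : ∃ D : Subgroup G, D = ⁅M, M⁆ ⊓ centralizer (sigmaCore M : Set G) := ⟨_, rfl⟩
  rw [← hDdef]
  have hDM : D ≤ M := by rw [hDdef]; exact inf_le_left.trans (bg11_commutator_le_self M)
  have hDle1 : D ≤ ⁅M, M⁆ := by rw [hDdef]; exact inf_le_left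
  have hDle2 : D ≤ centralizer (sigmaCore M : Set G) := by rw [hDdef]; exact inf_le_right
  obtain ⟨f, hfdef⟩ : ∃ f : ↥D →* ↥M ⧸ piCore (alpha M) ↥M,
      f = (QuotientGroup.mk' (piCore (alpha M) ↥M)).comp (Subgroup.inclusion hDM) := ⟨_, rfl⟩
  have hmem : ∀ d : ↥D, f d ∈ (commutator ↥M).map (QuotientGroup.mk' (piCore (alpha M) ↥M)) := by
    intro d
    have hd : (d : G) ∈ ⁅M, M⁆ := hDle1 d.2
    rw [← Subgroup.map_subtype_commutator] at hd
    obtain ⟨x, hx, hxd⟩ := hd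
    refine ⟨x, hx, ?_⟩
    rw [hfdef]
    have : x = Subgroup.inclusion hDM d := Subtype.ext hxd
    rw [this]; rfl
  have hker : (f.codRestrict _ hmem).ker ≤ center ↥D := by
    intro d hd
    rw [MonoidHom.mem_ker] at hd
    have hd1 : f d = 1 := by
      have := congrArg Subtype.val hd
      simpa using this
    rw [hfdef] at hd1
    have hd2 : Subgroup.inclusion hDM d ∈ piCore (alpha M) ↥M := by
      rw [← QuotientGroup.eq_one_iff]; exact hd1
    have hd3 : (d : G) ∈ sigmaCore M := hασ ⟨_, hd2, rfl⟩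
    rw [Subgroup.mem_center_iff]
    intro e
    have he : (e : G) ∈ centralizer (sigmaCore M : Set G) := hDle2 e.2
    rw [mem_centralizer_iff] at he
    exact Subtype.ext (he _ hd3).symm
  have := hnil
  exact Subgroup.isNilpotent_of_ker_le_center _ hker

/-- In a nilpotent subgroup `D` normalized by `M`, the Sylow subgroups are normalized by `M`. -/
theorem bg11_sylow_normal_of_nilpotent {D M : Subgroup G} (hMD : M ≤ normalizer (D : Set G))
    (hnil : Group.IsNilpotent ↥D) {q : ℕ} [Fact q.Prime]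
    {Q : Subgroup G} (hQ : Q ∈ sylowSet q D) : M ≤ normalizer (Q : Set G) := by
  obtain ⟨Q', hQ'⟩ := exists_sylow_of_mem_sylowSet hQ
  have hn : (Q' : Subgroup ↥D).Normal := inferInstance
  have hKQ : ∀ k ∈ D, ∀ x ∈ Q, k * x * k⁻¹ ∈ Q := by
    intro k hk x hx
    rw [← hQ'] at hx ⊢
    obtain ⟨x', hx', rfl⟩ := hx
    exact ⟨⟨k, hk⟩ * x' * ⟨k, hk⟩⁻¹, hn.conj_mem x' hx' ⟨k, hk⟩, rfl⟩
  intro m hm
  have hmK : m ∈ normalizer (D : Set G) := hMD hm
  obtain ⟨k, hk, hkQ⟩ := sylowSet_trans hQ (conj_mem_sylowSet hmK hQ)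
  have hkN : k ∈ normalizer (Q : Set G) := bg10_mem_normalizer (hKQ k hk)
  rw [conj_smul_eq_self_of_mem_normalizer hkN] at hkQ
  apply bg10_mem_normalizer
  intro x hx
  have := conj_mem_conj_smul (g := m) hx
  rwa [← hkQ] at this

/-- The two fixed-point-free lines of `A` and the centralizing hypothesis: `A` centralizes every
`A`-invariant `r`-subgroup of `M`, `r ∉ σ(M)`, `r ≠ p`. -/
theorem bg11_cent_of_centralizes (hG : IsMinSimpleOddOrder G) (hU : BGUniq G) (hpl : BGPLen G)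
    [Fact p.Prime] (h : BG11Hyp M A₀ A p)
    (hcount : ∃ B₁ B₂ : Subgroup G, B₁ ≤ A ∧ B₂ ≤ A ∧ Nat.card B₁ = p ∧ Nat.card B₂ = p ∧
      B₁ ≠ B₂ ∧ sigmaCore M ⊓ centralizer (B₁ : Set G) = ⊥ ∧
      sigmaCore M ⊓ centralizer (B₂ : Set G) = ⊥)
    (hcent : ∀ r : ℕ, r.Prime → r ∉ sigma M → r ≠ p → ∀ R : Subgroup G, R ≤ M →
      M ≤ normalizer (R : Set G) → IsPGroup r R → ∀ a ∈ A, ∀ x ∈ R, a * x = x * a)
    {r : ℕ} (hr : r.Prime) (hrσ : r ∉ sigma M) (hrp : r ≠ p) {Q : Subgroup G} (hQM : Q ≤ M)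
    (hQ : IsPGroup r Q) (hAQ : A ≤ normalizer (Q : Set G)) :
    ∀ a ∈ A, ∀ g ∈ Q, a * g = g * a := by
  have hp : p.Prime := Fact.out
  have := Fact.mk hr
  have hM := h.coatom
  have hAM := bg11_le_M h
  have hnil := bg11_sigma_nilpotent hG hU hpl h
  have hodd := uq_odd hG M
  have hσM : sigmaCore M ≤ M := piCoreOf_le _ _
  have hMσ : M ≤ normalizer (sigmaCore M : Set G) := le_normalizer_piCoreOf _ _
  have hrN : ¬ r ∣ Nat.card (sigmaCore M) :=
    fun hd => hrσ (mem_of_dvd_card_piCoreOf (sigma M) M hr hd)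
  have hpN : ¬ p ∣ Nat.card (sigmaCore M) :=
    fun hd => h.notσ (mem_of_dvd_card_piCoreOf (sigma M) M hp hd)
  obtain ⟨B₁, B₂, hB₁A, hB₂A, hc₁, hc₂, hne, hf₁, hf₂⟩ := hcount
  -- the centralizer of `M_σ` in `M`
  obtain ⟨C, hCdef⟩ : ∃ C : Subgroup G, C = centralizer (sigmaCore M : Set G) ⊓ M := ⟨_, rfl⟩
  have hMC : M ≤ normalizer (C : Set G) := by
    rw [hCdef]
    exact bg11_le_normalizer_inf (bg11_le_normalizer_centralizer hMσ) le_normalizer
  -- each fixed-point-free line lies in the commutator subgroup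
  have hline : ∀ B : Subgroup G, B ≤ A → Nat.card B = p →
      sigmaCore M ⊓ centralizer (B : Set G) = ⊥ → B ≤ bg11CommSub Q C M hMC := by
    intro B hBA hBc hBf
    obtain ⟨b, hb, hbp, hgen⟩ := bg11_gen_of_card_prime hBc
    have hfix : ∀ y ∈ sigmaCore M, b * y = y * b → y = 1 := by
      intro y hy hby
      have hyc : y ∈ centralizer (B : Set G) := by
        rw [mem_centralizer_iff]
        intro x hx
        obtain ⟨i, rfl⟩ := mem_zpowers_iff.mp (hgen x hx)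
        exact ((show Commute b y from hby).zpow_left i).eq
      have : y ∈ sigmaCore M ⊓ centralizer (B : Set G) := ⟨hy, hyc⟩
      rw [hBf] at this
      exact Subgroup.mem_bot.mp this
    have hbM : b ∈ M := hAM (hBA hb)
    have hfpf := bg11_fpf_comm hodd hσM hMσ hnil hp hr hrp hrN hpN hQM hQ hbM hbp
      (fun g hg => (mem_normalizer_iff.mp (hAQ (hBA hb)) g).mp hg) hfix
    have hbT : b ∈ bg11CommSub Q C M hMC := by
      refine ⟨hbM, fun g hg => ?_⟩
      rw [hCdef]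
      have hcc : b * g * b⁻¹ * g⁻¹ ∈ centralizer (sigmaCore M : Set G) := by
        rw [mem_centralizer_iff]
        intro y hy
        exact (hfpf g hg y hy).symm
      exact ⟨hcc, M.mul_mem (M.mul_mem (M.mul_mem hbM (hQM hg)) (M.inv_mem hbM))
        (M.inv_mem (hQM hg))⟩
    intro x hx
    obtain ⟨i, rfl⟩ := mem_zpowers_iff.mp (hgen x hx)
    exact Subgroup.zpow_mem _ hbT i
  have hAT : A ≤ bg11CommSub Q C M hMC := by
    rw [← bg11_sup_eq_of_card h.cardA hB₁A hB₂A hc₁ hc₂ hne]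
    exact sup_le (hline B₁ hB₁A hc₁ hf₁) (hline B₂ hB₂A hc₂ hf₂)
  -- the nilpotent normal subgroup `D = M' ∩ C(M_σ)`
  obtain ⟨D, hDdef⟩ : ∃ D : Subgroup G, D = ⁅M, M⁆ ⊓ centralizer (sigmaCore M : Set G) := ⟨_, rfl⟩
  have hDnil : Group.IsNilpotent ↥D := by rw [hDdef]; exact bg11_comm_cent_nilpotent hG hU hM
  have hMD : M ≤ normalizer (D : Set G) := by
    rw [hDdef]
    exact bg11_le_normalizer_inf (bg11_le_normalizer_commutator M)
      (bg11_le_normalizer_centralizer hMσ)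
  have hDM : D ≤ M := by rw [hDdef]; exact inf_le_left.trans (bg11_commutator_le_self M)
  have hsolvD : Group.IsSolvable ↥D := inferInstance
  obtain ⟨Q₁, hQ₁, hYQ₁, -⟩ := exists_invariant_sylow_ge (A := (⊥ : Subgroup G)) (K := D)
    (p := r) bot_le (by rw [Subgroup.card_bot]; exact Nat.coprime_one_left _) (Or.inr hsolvD)
    (U := Q ⊓ D) inf_le_right (hQ.to_le inf_le_left) bot_le
  have hMQ₁ : M ≤ normalizer (Q₁ : Set G) := bg11_sylow_normal_of_nilpotent hMD hDnil hQ₁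
  have hcQ₁ := hcent r hr hrσ hrp Q₁ (hQ₁.1.trans hDM) hMQ₁ (isPGroup_of_mem_sylowSet hQ₁)
  intro a ha g hg
  have hc1 := ((bg11_mem_commSub.mp (hAT ha)).2 g hg)
  rw [hCdef] at hc1
  have hcQ : a * g * a⁻¹ * g⁻¹ ∈ Q :=
    Q.mul_mem ((mem_normalizer_iff.mp (hAQ ha) g).mp hg) (Q.inv_mem hg)
  have hcD : a * g * a⁻¹ * g⁻¹ ∈ D := by
    rw [hDdef]
    refine ⟨?_, hc1.1⟩
    have := commutator_mem_commutator (hAM ha) (hQM hg)
    rwa [commutatorElement_def] at this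
  have hcomm := hcQ₁ a ha _ (hYQ₁ ⟨hcQ, hcD⟩)
  obtain ⟨k, hk⟩ := hQ ⟨_, hcQ⟩
  have hk' : (a * g * a⁻¹ * g⁻¹) ^ (r ^ k) = 1 := by
    have h2 := congrArg Subtype.val hk
    rwa [Subgroup.coe_pow] at h2
  exact bg11_comm_eq_one (Nat.Coprime.pow_right k ((Nat.coprime_primes hp hr).mpr (Ne.symm hrp)))
    (h.elem.2 a ha) hcomm hk'

/-- **Reduction of B&G Theorem 11.7**: if `A` centralizes every normal `r`-subgroup of `M` for the
primes `r ∉ σ(M)`, `r ≠ p`, then `M_σ A` is normal in `M`. -/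
theorem bg11_normal_of_centralizes (hG : IsMinSimpleOddOrder G) (hU : BGUniq G) (hpl : BGPLen G)
    [Fact p.Prime] (h : BG11Hyp M A₀ A p)
    (hΩ : ∃ P : Subgroup G, IsSylowOf p P M ∧ A ≤ P ∧ ∀ x ∈ P, x ^ p = 1 → x ∈ A)
    (hcount : ∃ B₁ B₂ : Subgroup G, B₁ ≤ A ∧ B₂ ≤ A ∧ Nat.card B₁ = p ∧ Nat.card B₂ = p ∧
      B₁ ≠ B₂ ∧ sigmaCore M ⊓ centralizer (B₁ : Set G) = ⊥ ∧
      sigmaCore M ⊓ centralizer (B₂ : Set G) = ⊥)
    (hcent : ∀ r : ℕ, r.Prime → r ∉ sigma M → r ≠ p → ∀ R : Subgroup G, R ≤ M →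
      M ≤ normalizer (R : Set G) → IsPGroup r R → ∀ a ∈ A, ∀ x ∈ R, a * x = x * a) :
    M ≤ normalizer ((sigmaCore M ⊔ A : Subgroup G) : Set G) := by
  have hp : p.Prime := Fact.out
  have hM := h.coatom
  have hAM := bg11_le_M h
  have hσM : sigmaCore M ≤ M := piCoreOf_le _ _
  have hMσ : M ≤ normalizer (sigmaCore M : Set G) := le_normalizer_piCoreOf _ _
  obtain ⟨hσhall, -, -⟩ := bg10_sigma_hall hG hU hM
  have hMpl : PLengthLE p 1 ↥M := hpl p M hM.1
  obtain ⟨P, hP, hAP, hPΩ⟩ := hΩ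
  obtain ⟨S, hS⟩ := hP.exists_sylow
  have hfr := Helper24.normalizer_sup_pPrimeCore_eq_top p hMpl S
  -- `K = O_{p'}(M)`
  obtain ⟨K, hKdef⟩ : ∃ K : Subgroup G, K = (pPrimeCore p ↥M).map M.subtype := ⟨_, rfl⟩
  have hKM : K ≤ M := by rw [hKdef]; exact Subgroup.map_subtype_le _
  have hKcard : Nat.card K = Nat.card (pPrimeCore p ↥M) := by
    rw [hKdef]; exact Subgroup.card_map_of_injective M.subtype_injective
  have hpK : (Nat.card K).Coprime p := by
    rw [hKcard]; exact Helper24.coprime_card_pPrimeCore p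
  have hMK : M ≤ normalizer (K : Set G) := by
    apply le_normalizer_of_forall_conj_mem
    intro m hm x hx
    rw [hKdef] at hx ⊢
    obtain ⟨y, hy, rfl⟩ := hx
    exact ⟨⟨m, hm⟩ * y * ⟨m, hm⟩⁻¹, (pPrimeCore_normal p ↥M).conj_mem y hy ⟨m, hm⟩, rfl⟩
  have hAK : A ≤ normalizer (K : Set G) := hAM.trans hMK
  have hcopAK : (Nat.card A).Coprime (Nat.card K) := by
    rw [h.cardA]; exact Nat.Coprime.pow_left 2 hpK.symm
  have hsolv : Group.IsSolvable A := isSolvable_of_forall_comm (bg11_elemAb_comm h.elem)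
  -- `[K, A] ≤ M_σ`
  have hKT : K ≤ bg11CommSub A (sigmaCore M) M hMσ := by
    apply bg11_le_of_sylows
    intro r hr
    have := Fact.mk hr
    obtain ⟨Q, hQ, hAQ⟩ := exists_invariant_sylow hAK hcopAK (Or.inl hsolv) r
    refine ⟨Q, hQ, ?_⟩
    have hQr : IsPGroup r Q := isPGroup_of_mem_sylowSet hQ
    have hQM : Q ≤ M := hQ.1.trans hKM
    intro k hk
    refine ⟨hQM hk, fun a ha => ?_⟩
    by_cases hrσ : r ∈ sigma M
    · -- `Q ≤ M_σ`
      have hQσ : Q ≤ sigmaCore M := by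
        refine bg12_le_of_coprime_relIndex hσM hQM (hQM.trans hMσ) ?_
        obtain ⟨n, hn⟩ := IsPGroup.iff_card.mp hQr
        rw [hn]
        exact Nat.Coprime.pow_left n
          ((Nat.Prime.coprime_iff_not_dvd hr).mpr (hσhall.2.2 r hr hrσ))
      have h1 : a * k⁻¹ * a⁻¹ ∈ sigmaCore M :=
        (mem_normalizer_iff.mp (hMσ (hAM ha)) _).mp ((sigmaCore M).inv_mem (hQσ hk))
      have e : k * a * k⁻¹ * a⁻¹ = k * (a * k⁻¹ * a⁻¹) := by group
      rw [e]
      exact (sigmaCore M).mul_mem (hQσ hk) h1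
    · by_cases hrp : r = p
      · -- `Q = 1`
        have hk1 : k = 1 := by
          obtain ⟨n, hn⟩ := hQr ⟨k, hk⟩
          have hn' : k ^ (r ^ n) = 1 := by
            have h2 := congrArg Subtype.val hn
            rwa [Subgroup.coe_pow] at h2
          have h3 : orderOf k ∣ r ^ n := orderOf_dvd_of_pow_eq_one hn'
          have h4 : orderOf k ∣ Nat.card K := by
            have h5 : orderOf (⟨k, hQ.1 hk⟩ : K) ∣ Nat.card K := orderOf_dvd_natCard _
            rwa [Subgroup.orderOf_mk] at h5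
          have h6 : (Nat.card K).Coprime (r ^ n) := by
            rw [hrp]; exact Nat.Coprime.pow_right n hpK
          have h7 : orderOf k ∣ Nat.gcd (Nat.card K) (r ^ n) := Nat.dvd_gcd h4 h3
          rw [h6] at h7
          exact orderOf_eq_one_iff.mp (Nat.dvd_one.mp h7)
        rw [hk1]; simp
      · have hc := bg11_cent_of_centralizes hG hU hpl h hcount hcent hr hrσ hrp hQM hQr hAQ
          a ha k hk
        have e : k * a * k⁻¹ * a⁻¹ = 1 := by rw [← hc]; group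
        rw [e]; exact one_mem _
  -- the two factors normalize `M_σ A`
  obtain ⟨N, hNdef⟩ : ∃ N : Subgroup G,
      N = normalizer ((sigmaCore M ⊔ A : Subgroup G) : Set G) := ⟨_, rfl⟩
  have hσconj : ∀ m ∈ M, ∀ x ∈ sigmaCore M, m * x * m⁻¹ ∈ sigmaCore M ⊔ A :=
    fun m hm x hx => (le_sup_left : sigmaCore M ≤ sigmaCore M ⊔ A) ((mem_normalizer_iff.mp (hMσ hm) x).mp hx)
  have h1 : normalizer ((S : Subgroup ↥M) : Set ↥M) ≤ N.subgroupOf M := by
    intro n hn
    rw [Subgroup.mem_subgroupOf, hNdef]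
    apply bg10_mem_normalizer
    apply bg11_conj_mem_sup (hσconj _ n.2)
    intro a ha
    apply (le_sup_right : A ≤ sigmaCore M ⊔ A)
    have haS : (⟨a, hAM ha⟩ : ↥M) ∈ (S : Subgroup ↥M) := by
      rw [hS, Subgroup.mem_subgroupOf]; exact hAP ha
    have h2 := (mem_normalizer_iff.mp hn _).mp haS
    rw [hS, Subgroup.mem_subgroupOf] at h2
    have h3 : (n : G) * a * (n : G)⁻¹ ∈ P := h2
    apply hPΩ _ h3
    have e : ((n : G) * a * (n : G)⁻¹) ^ p = (n : G) * a ^ p * (n : G)⁻¹ := conj_pow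
    rw [e, h.elem.2 a ha]; group
  have h2 : pPrimeCore p ↥M ≤ N.subgroupOf M := by
    intro k hk
    rw [Subgroup.mem_subgroupOf, hNdef]
    have hkK : (k : G) ∈ K := by rw [hKdef]; exact ⟨k, hk, rfl⟩
    have hkT := bg11_mem_commSub.mp (hKT hkK)
    apply bg10_mem_normalizer
    apply bg11_conj_mem_sup (hσconj _ k.2)
    intro a ha
    have e : (k : G) * a * (k : G)⁻¹ = ((k : G) * a * (k : G)⁻¹ * a⁻¹) * a := by group
    rw [e]
    exact mul_mem ((le_sup_left : sigmaCore M ≤ sigmaCore M ⊔ A) (hkT.2 a ha))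
      ((le_sup_right : A ≤ sigmaCore M ⊔ A) ha)
  have h3 : N.subgroupOf M = ⊤ := by
    rw [← top_le_iff, ← hfr]
    exact sup_le h1 h2
  intro m hm
  have h4 : (⟨m, hm⟩ : ↥M) ∈ N.subgroupOf M := by rw [h3]; exact mem_top _
  rw [Subgroup.mem_subgroupOf, hNdef] at h4
  exact h4

end Cfsg.Agent.Helper22
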