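/-
helper22: assembly of Bender–Glauberman Theorem 12.5 (the structure of a maximal subgroup `M` at a
prime `p ∈ τ₂(M)`) from Proposition 12.4, Lemma 12.3 and Section 11 (11.3, 11.5, 11.6, 11.7), which
enter as hypotheses.  Everything lives in `Cfsg.Agent.Helper22`.
-/
import Cfsg.Agent.Helper22.BG11d
import Cfsg.Agent.Helper23.BG12b

set_option autoImplicit false

namespace Cfsg.Agent.Helper22

open Cfsg Subgroup Cfsg.Agent.Helper23 Cfsg.Agent.Helper35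
open scoped Pointwise

universe u

variable {G : Type u} [Group G] [Finite G] {M A₀ A : Subgroup G} {p : ℕ}

/-- The statement of B&G Proposition 12.4 (row S1416) for the group `G`. -/
def BG124 (G : Type u) [Group G] : Prop :=
  ∀ (M : Subgroup G), IsCoatom M → ∀ (p : ℕ) [Fact p.Prime] (A : Subgroup G),
    (A ≤ M ∧ IsElementaryAbelian p A ∧ Nat.card A = p ^ 2) →
    centralizer (A : Set G) ≤ M ∧
      ((∀ A₀ : Subgroup G, A₀ ≤ A → Nat.card A₀ = p →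
          ¬ (normalizer (A₀ : Set G) ≤ M ∧
            ∀ L : Subgroup G, IsCoatom L → normalizer (A₀ : Set G) ≤ L → L = M)) →
        p ∈ sigma M ∧ alphaCore M = ⊥ ∧ Group.IsNilpotent (sigmaCore M))

/-- A Sylow subgroup of `D` for a prime dividing `|D|` is not trivial. -/
theorem bg12_sylowSet_ne_bot {q : ℕ} (hq : q.Prime) {D R : Subgroup G} (hR : R ∈ sylowSet q D)
    (hqD : q ∣ Nat.card D) : R ≠ ⊥ := by
  intro e
  have h1 : Nat.card R = 1 := by rw [e]; exact Subgroup.card_bot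
  rw [hR.2] at h1
  have hk : (Nat.card D).factorization q = 0 := by
    by_contra hk
    have := Nat.one_lt_pow hk hq.one_lt
    omega
  have := hq.factorization_pos_of_dvd Nat.card_pos.ne' hqD
  omega

/-- A `q`-subgroup of `M` lies in `M_σ` when `q ∈ σ(M)`. -/
theorem bg12_le_sigmaCore (hG : IsMinSimpleOddOrder G) (hU : BGUniq G) {M : Subgroup G}
    (hM : IsCoatom M) {q : ℕ} (hq : q.Prime) (hqσ : q ∈ sigma M) {Q : Subgroup G} (hQM : Q ≤ M)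
    (hQ : IsPGroup q Q) : Q ≤ sigmaCore M := by
  obtain ⟨hσhall, -, -⟩ := bg10_sigma_hall hG hU hM
  have := Fact.mk hq
  refine bg12_le_of_coprime_relIndex (piCoreOf_le _ _) hQM
    (hQM.trans (le_normalizer_piCoreOf _ _)) ?_
  obtain ⟨n, hn⟩ := IsPGroup.iff_card.mp hQ
  rw [hn]
  exact Nat.Coprime.pow_left n ((Nat.Prime.coprime_iff_not_dvd hq).mpr (hσhall.2.2 q hq hqσ))

/-- **B&G Theorem 12.5(e)**: `M_σ ∩ M* = 1` for every maximal `M* ≠ M` containing `A`. -/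
theorem bg12_thm125e (hG : IsMinSimpleOddOrder G) (hU : BGUniq G) (hpl : BGPLen G)
    (h124 : BG124 G) [Fact p.Prime] (h : BG11Hyp M A₀ A p)
    (h116 : sigmaCore M ⊓ centralizer (A : Set G) = ⊥)
    (h123 : ∀ Ms : Subgroup G, IsCoatom Ms → Ms ≠ M → A ≤ Ms → ∀ A₁ : Subgroup G, A₁ ≤ A →
      Nat.card A₁ = p → normalizer (A₁ : Set G) ≤ Ms →
      ∀ x ∈ sigmaCore M ⊓ Ms, ∀ a ∈ A, a * x = x * a)
    {Ms : Subgroup G} (hMs : IsCoatom Ms) (hne : Ms ≠ M) (hAMs : A ≤ Ms) :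
    sigmaCore M ⊓ Ms = ⊥ := by
  have hp : p.Prime := Fact.out
  have hM := h.coatom
  have hAM := bg11_le_M h
  by_contra hD
  obtain ⟨D, hDdef⟩ : ∃ D, D = sigmaCore M ⊓ Ms := ⟨_, rfl⟩
  rw [← hDdef] at hD
  have hDσ : D ≤ sigmaCore M := by rw [hDdef]; exact inf_le_left
  have hDMs : D ≤ Ms := by rw [hDdef]; exact inf_le_right
  obtain ⟨-, hbs⟩ := h124 Ms hMs p A ⟨hAMs, h.elem, h.cardA⟩
  by_cases hex : ∃ A₁ : Subgroup G, A₁ ≤ A ∧ Nat.card A₁ = p ∧ normalizer (A₁ : Set G) ≤ Ms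
  · obtain ⟨A₁, hA₁A, hA₁c, hA₁N⟩ := hex
    have hc := h123 Ms hMs hne hAMs A₁ hA₁A hA₁c hA₁N
    apply hD
    rw [eq_bot_iff, ← h116]
    intro x hx
    have hxc : x ∈ centralizer (A : Set G) := by
      rw [mem_centralizer_iff]
      intro a ha
      exact hc x (hDdef ▸ hx) a ha
    exact ⟨hDσ hx, hxc⟩
  · push Not at hex
    obtain ⟨hpσs, -, -⟩ := hbs (fun A₁ hA₁A hA₁c hcon => hex A₁ hA₁A hA₁c hcon.1)
    have hAσs : A ≤ sigmaCore Ms :=
      bg12_le_sigmaCore hG hU hMs hp hpσs hAMs (bg11_isPGroup_of_elemAb h.elem)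
    have hAD : A ≤ normalizer (D : Set G) := by
      rw [hDdef]
      exact bg11_le_normalizer_inf (hAM.trans (le_normalizer_piCoreOf _ _))
        (hAMs.trans le_normalizer)
    have hDσ' : ∀ r : ℕ, r.Prime → r ∣ Nat.card D → r ∈ sigma M := fun r hr hd =>
      mem_of_dvd_card_piCoreOf (sigma M) M hr (hd.trans (Subgroup.card_dvd_of_le hDσ))
    have hD1 : Nat.card D ≠ 1 := fun e => hD (Subgroup.card_eq_one.mp e)
    obtain ⟨q, hq, hqD⟩ := Nat.exists_prime_and_dvd hD1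
    have := Fact.mk hq
    have hsolv : Group.IsSolvable A := isSolvable_of_forall_comm (bg11_elemAb_comm h.elem)
    obtain ⟨R, hR, hRA⟩ := exists_invariant_sylow hAD (bg11_coprime h hDσ') (Or.inl hsolv) q
    have hRq : IsPGroup q R := isPGroup_of_mem_sylowSet hR
    have hR1 : R ≠ ⊥ := bg12_sylowSet_ne_bot hq hR hqD
    by_cases hqs : q ∈ sigma Ms
    · have hRσs : R ≤ sigmaCore Ms :=
        bg12_le_sigmaCore hG hU hMs hq hqs (hR.1.trans hDMs) hRq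
      have hne' : sigmaCore Ms ⊓ sigmaCore M ≠ ⊥ := by
        intro e
        apply hR1
        rw [eq_bot_iff, ← e]
        exact le_inf hRσs (hR.1.trans hDσ)
      exact hne (bg11_sigma_uniq hG hU hpl h hMs hAMs hne')
    · have hqN : ¬ q ∣ Nat.card (sigmaCore Ms) :=
        fun hd => hqs (mem_of_dvd_card_piCoreOf (sigma Ms) Ms hq hd)
      have hMsσ : Ms ≤ normalizer (sigmaCore Ms : Set G) := le_normalizer_piCoreOf _ _
      apply hR1
      rw [eq_bot_iff, ← h116]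
      intro g hg
      suffices hgc : g ∈ centralizer (A : Set G) from ⟨hDσ (hR.1 hg), hgc⟩
      rw [mem_centralizer_iff]
      intro a ha
      -- the commutator `a g a⁻¹ g⁻¹` is a `q`-element of `M*_σ`
      have hcR : a * g * a⁻¹ * g⁻¹ ∈ R :=
        R.mul_mem ((mem_normalizer_iff.mp (hRA ha) g).mp hg) (R.inv_mem hg)
      have hcσ : a * g * a⁻¹ * g⁻¹ ∈ sigmaCore Ms := by
        have h1 : g * a⁻¹ * g⁻¹ ∈ sigmaCore Ms :=
          (mem_normalizer_iff.mp (hMsσ (hDMs (hR.1 hg))) _).mp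
            ((sigmaCore Ms).inv_mem (hAσs ha))
        have e : a * g * a⁻¹ * g⁻¹ = a * (g * a⁻¹ * g⁻¹) := by group
        rw [e]
        exact (sigmaCore Ms).mul_mem (hAσs ha) h1
      have hc1 : a * g * a⁻¹ * g⁻¹ = 1 := by
        obtain ⟨k, hk⟩ := hRq ⟨_, hcR⟩
        have hk' : (a * g * a⁻¹ * g⁻¹) ^ (q ^ k) = 1 := by
          have h2 := congrArg Subtype.val hk
          rwa [Subgroup.coe_pow] at h2
        have h3 : orderOf (a * g * a⁻¹ * g⁻¹) ∣ q ^ k := orderOf_dvd_of_pow_eq_one hk'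
        have h4 : orderOf (a * g * a⁻¹ * g⁻¹) ∣ Nat.card (sigmaCore Ms) := by
          have h5 : orderOf (⟨_, hcσ⟩ : sigmaCore Ms) ∣ Nat.card (sigmaCore Ms) :=
            orderOf_dvd_natCard _
          rwa [Subgroup.orderOf_mk] at h5
        have h6 : (Nat.card (sigmaCore Ms)).Coprime (q ^ k) :=
          Nat.Coprime.pow_right k ((Nat.Prime.coprime_iff_not_dvd hq).mpr hqN).symm
        have h7 : orderOf (a * g * a⁻¹ * g⁻¹) ∣ Nat.gcd (Nat.card (sigmaCore Ms)) (q ^ k) :=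
          Nat.dvd_gcd h4 h3
        rw [h6] at h7
        exact orderOf_eq_one_iff.mp (Nat.dvd_one.mp h7)
      calc a * g = (a * g * a⁻¹ * g⁻¹) * (g * a) := by group
        _ = g * a := by rw [hc1, one_mul]

/-- **B&G Theorem 12.5**, from Proposition 12.4, Lemma 12.3 and Section 11 as hypotheses. -/
theorem bg12_thm125 (hG : IsMinSimpleOddOrder G) (hU : BGUniq G) (hpl : BGPLen G)
    (h124 : BG124 G) {M : Subgroup G} (hM : IsCoatom M) {p : ℕ} [Fact p.Prime]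
    (hp2 : p ∈ tau2 M) {A : Subgroup G} (hAM : A ≤ M) (hA : IsElementaryAbelian p A)
    (hAc : Nat.card A = p ^ 2)
    (h115 : ∀ A₀ : Subgroup G, BG11Hyp M A₀ A p → ∀ P : Subgroup G, IsSylowOf p P M →
      (∀ x ∈ P, ∀ y ∈ P, x * y = y * x) ∧ (A ≤ P → ∀ x ∈ P, x ^ p = 1 → x ∈ A))
    (h116 : ∀ A₀ : Subgroup G, BG11Hyp M A₀ A p → sigmaCore M ⊓ centralizer (A : Set G) = ⊥)
    (hcnt : ∀ A₀ : Subgroup G, BG11Hyp M A₀ A p →
      ∃ B₁ B₂ : Subgroup G, B₁ ≤ A ∧ B₂ ≤ A ∧ Nat.card B₁ = p ∧ Nat.card B₂ = p ∧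
        B₁ ≠ B₂ ∧ sigmaCore M ⊓ centralizer (B₁ : Set G) = ⊥ ∧
        sigmaCore M ⊓ centralizer (B₂ : Set G) = ⊥)
    (h117 : ∀ A₀ : Subgroup G, BG11Hyp M A₀ A p → ∀ r : ℕ, r.Prime → r ∉ sigma M → r ≠ p →
      ∀ R : Subgroup G, R ≤ M → M ≤ normalizer (R : Set G) → IsPGroup r R →
      ∀ a ∈ A, ∀ x ∈ R, a * x = x * a)
    (h123 : ∀ Ms : Subgroup G, IsCoatom Ms → Ms ≠ M → A ≤ Ms → ∀ A₁ : Subgroup G, A₁ ≤ A →
      Nat.card A₁ = p → normalizer (A₁ : Set G) ≤ Ms →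
      ∀ x ∈ sigmaCore M ⊓ Ms, ∀ a ∈ A, a * x = x * a) :
    Group.IsNilpotent (sigmaCore M) ∧
      (∀ P : Sylow p M, IsMulCommutative (P : Subgroup M) ∧
        (A ≤ (P : Subgroup M).map M.subtype →
          (∀ x ∈ (P : Subgroup M).map M.subtype, x ^ p = 1 ↔ x ∈ A) ∧
          ¬ normalizer ((((P : Subgroup M).map M.subtype : Subgroup G)) : Set G) ≤ M)) ∧
      M ≤ normalizer ((sigmaCore M ⊔ A : Subgroup G) : Set G) ∧
      sigmaCore M ⊓ centralizer (A : Set G) = ⊥ ∧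
      (∀ Mstar : Subgroup G, IsCoatom Mstar → Mstar ≠ M → A ≤ Mstar →
        sigmaCore M ⊓ Mstar = ⊥) ∧
      ∃ A₁ : Subgroup G, A₁ ≤ A ∧ Nat.card A₁ = p ∧
        sigmaCore M ⊓ centralizer (A₁ : Set G) = ⊥ := by
  have hp : p.Prime := Fact.out
  obtain ⟨-, hpσ, -, -⟩ := hp2
  -- Hypothesis 11.1 holds
  obtain ⟨A₀, h⟩ : ∃ A₀ : Subgroup G, BG11Hyp M A₀ A p := by
    obtain ⟨-, hb⟩ := h124 M hM p A ⟨hAM, hA, hAc⟩
    by_contra hcon
    have h1 : ∀ A₀ : Subgroup G, A₀ ≤ A → Nat.card A₀ = p →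
        ¬ (normalizer (A₀ : Set G) ≤ M ∧
          ∀ L : Subgroup G, IsCoatom L → normalizer (A₀ : Set G) ≤ L → L = M) := by
      intro A₀ hA₀A hA₀c hN
      exact hcon ⟨A₀, ⟨hM, hpσ, hA₀c, hN.1, hA₀A, hA, hAc⟩⟩
    exact hpσ (hb h1).1
  have hA1 : A ≠ ⊥ := bg11_A_ne_bot h
  obtain ⟨B₁, B₂, hB₁A, hB₂A, hc₁, hc₂, hne, hf₁, hf₂⟩ := hcnt A₀ h
  refine ⟨bg11_sigma_nilpotent hG hU hpl h, ?_, ?_, h116 A₀ h, ?_, ⟨B₁, hB₁A, hc₁, hf₁⟩⟩
  · intro P
    have hP := isSylowOf_map P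
    obtain ⟨hab, hΩ⟩ := h115 A₀ h _ hP
    refine ⟨⟨⟨fun x y => ?_⟩⟩, fun hAP => ⟨fun x hx => ⟨hΩ hAP x hx, fun hxA => hA.2 x hxA⟩, ?_⟩⟩
    · apply Subtype.ext
      apply Subtype.ext
      exact hab _ ⟨x, x.2, rfl⟩ _ ⟨y, y.2, rfl⟩
    · intro hN
      apply hpσ
      refine bg12_mem_sigma hP ?_ hN
      intro e
      apply hA1
      rw [eq_bot_iff, ← e]
      exact hAP
  · obtain ⟨P, hP, hAP⟩ := exists_isSylowOf_ge (bg11_isPGroup_of_elemAb hA) hAM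
    exact bg11_normal_of_centralizes hG hU hpl h ⟨P, hP, hAP, (h115 A₀ h P hP).2 hAP⟩
      ⟨B₁, B₂, hB₁A, hB₂A, hc₁, hc₂, hne, hf₁, hf₂⟩ (h117 A₀ h)
  · intro Ms hMs hneMs hAMs
    exact bg12_thm125e hG hU hpl h124 h (h116 A₀ h) h123 hMs hneMs hAMs

end Cfsg.Agent.Helper22
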