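/-
helper22: Bender–Glauberman Theorem 12.7 (a maximal subgroup `M` with `p ∈ τ₂(M)` when the Sylow
`p`-subgroups of `G` are not abelian), from Theorem 12.5 and Corollary 12.6 as hypotheses
(`BG125 G`, `BG126 G`).  Everything lives in `Cfsg.Agent.Helper22`.
-/
import Cfsg.Agent.Helper22.BG12c
import Cfsg.Agent.Helper24.BG11b
import Cfsg.Agent.Helper68.BG123
import Cfsg.Agent.Helper35.CoprimeGen2
import Cfsg.Agent.Helper23.Uniq3
import Cfsg.Agent.Helper23.Rank2Fit
import Cfsg.Agent.Helper49.OddCyclic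
import Cfsg.Agent.Helper62.FitAct

set_option autoImplicit false

namespace Cfsg.Agent.Helper22

open Cfsg Subgroup Cfsg.Agent.Helper23 Cfsg.Agent.Helper35
open scoped Pointwise

universe u

variable {G : Type u} [Group G] [Finite G]

/-- In a minimal simple group of odd order, a maximal subgroup is its own normalizer: an element
conjugating `M` to itself lies in `M`. -/
theorem bg127_mem_of_conj_smul_eq (hG : IsMinSimpleOddOrder G) {M : Subgroup G} (hM : IsCoatom M)
    {g : G} (h : MulAut.conj g • M = M) : g ∈ M := by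
  have hsimple := hG.2.1
  have hgN : g ∈ normalizer (M : Set G) := by
    apply bg10_mem_normalizer
    intro v hv
    have := conj_mem_conj_smul (g := g) hv
    rwa [h] at this
  have hN : normalizer (M : Set G) ≠ ⊤ :=
    normalizer_ne_top_of_simple (Helper24.bg11b_coatom_ne_bot hG hM) hM.1
  rcases hM.le_iff.mp (le_normalizer : M ≤ normalizer (M : Set G)) with h1 | h1
  · exact absurd h1 hN
  · rw [h1] at hgN; exact hgN

omit [Finite G] in
theorem bg127_comm_zpowers {x b : G} (h : x * b = b * x) : ∀ v ∈ zpowers b, x * v = v * x := by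
  intro v hv
  obtain ⟨i, rfl⟩ := mem_zpowers_iff.mp hv
  exact ((show Commute x b from h).zpow_right i).eq

/-- The lines of `A` other than the distinguished line `⟨b⟩` have centralizers outside `M`. -/
theorem bg127_line_not_le (hG : IsMinSimpleOddOrder G) {M : Subgroup G} (hM : IsCoatom M)
    {p : ℕ} [Fact p.Prime] {A Pm S : Subgroup G} {x z b : G} (hAc : Nat.card A = p ^ 2)
    (hAcomm : ∀ a ∈ A, ∀ a' ∈ A, a * a' = a' * a) (hAp : ∀ a ∈ A, a ^ p = 1)
    (hAPm : A ≤ Pm) (hPmab : ∀ u ∈ Pm, ∀ v ∈ Pm, u * v = v * u) (hSM : S ⊓ M = Pm)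
    (hxS : x ∈ S) (hxM : x ∉ M) (hxA : ∀ a ∈ A, x * a * x⁻¹ ∈ A) {e : ℕ} (hxe : x ^ p ^ e = 1)
    (hCA : centralizer (A : Set G) ≤ M)
    (hzA : z ∈ A) (hz1 : z ≠ 1) (hxz : x * z = z * x) (hbA : b ∈ A) (hbz : b ∉ zpowers z)
    (huniq : ∀ L : Subgroup G, IsCoatom L → centralizer ((zpowers b : Subgroup G) : Set G) ≤ L →
      L = M)
    {X : Subgroup G} (hXA : X ≤ A) (hXc : Nat.card X = p) (hXne : X ≠ zpowers b) :
    ¬ centralizer (X : Set G) ≤ M := by
  have hp : p.Prime := Fact.out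
  have hb1 : b ≠ 1 := fun h => hbz (h ▸ one_mem _)
  have hbp : b ^ p = 1 := hAp b hbA
  have hzp : z ^ p = 1 := hAp z hzA
  have hbzc : b * z = z * b := hAcomm b hbA z hzA
  have hcb : Nat.card (zpowers b) = p := by
    rw [Nat.card_zpowers]; exact orderOf_eq_prime hbp hb1
  have hcz : Nat.card (zpowers z) = p := by
    rw [Nat.card_zpowers]; exact orderOf_eq_prime hzp hz1
  have hsup : zpowers b ⊔ zpowers z = A :=
    bg11_sup_eq_of_card hAc (zpowers_le.mpr hbA) (zpowers_le.mpr hzA) hcb hcz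
      (fun h => hbz (h ▸ mem_zpowers b))
  have hxb : x * b * x⁻¹ ≠ b := by
    intro h
    apply hxM
    apply hCA
    rw [mem_centralizer_iff]
    intro a ha
    rw [← hsup] at ha
    obtain ⟨i, m, rfl⟩ := Helper24.bg11b_mem_sup_zpowers hbzc ha
    have h1 : Commute x b := by
      have : x * b = b * x := by
        calc x * b = (x * b * x⁻¹) * x := by group
          _ = b * x := by rw [h]
      exact this
    have h2 : Commute x z := hxz
    exact ((h1.zpow_right i).mul_right (h2.zpow_right m)).eq.symm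
  obtain ⟨y, hyX, hyp, hgen⟩ := bg11_gen_of_card_prime hXc
  have hy1 : y ≠ 1 := by
    rintro rfl
    have hX1 : X = ⊥ := by
      rw [eq_bot_iff]
      intro v hv
      have := hgen v hv
      rw [zpowers_one_eq_bot] at this
      exact this
    rw [hX1, Subgroup.card_bot] at hXc
    exact hp.one_lt.ne hXc
  intro hC
  by_cases hyz : y ∈ zpowers z
  · -- `x` centralizes `X`
    apply hxM
    apply hC
    rw [mem_centralizer_iff]
    intro v hv
    have h1 : x * y = y * x := bg127_comm_zpowers hxz y hyz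
    exact (bg127_comm_zpowers h1 v (hgen v hv)).symm
  · have hyA : y ∈ zpowers b ⊔ zpowers z := by rw [hsup]; exact hXA hyX
    obtain ⟨n, hn⟩ := Helper24.bg11b_transvection hbp hzp hbzc hxz hbz
      (by rw [hsup]; exact hxA b hbA) hxb hxe hyA hyz
    obtain ⟨w, hwdef⟩ : ∃ w, w = x ^ n := ⟨_, rfl⟩
    rw [← hwdef] at hn
    have hwS : w ∈ S := hwdef ▸ pow_mem hxS n
    by_cases hwM : w ∈ M
    · have hwP : w ∈ Pm := by rw [← hSM]; exact ⟨hwS, hwM⟩
      have h1 : w * b = b * w := hPmab w hwP b (hAPm hbA)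
      have h2 : w * b * w⁻¹ = b := by rw [h1]; group
      rw [h2] at hn
      have hle : zpowers b ≤ X := by
        rw [zpowers_le]
        exact (zpowers_le.mpr hyX) hn
      exact hXne (Subgroup.eq_of_le_of_card_ge hle (by rw [hXc, hcb])).symm
    · have hy'1 : w * b * w⁻¹ ≠ 1 := by
        intro h
        apply hb1
        have : b = w⁻¹ * (w * b * w⁻¹) * w := by group
        rw [this, h]; group
      have hyy' : y ∈ zpowers (w * b * w⁻¹) :=
        Helper24.bg11b_mem_zpowers_of_ne_one hyp hn hy'1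
      have hle : centralizer ((zpowers b : Subgroup G) : Set G) ≤ MulAut.conj w⁻¹ • M := by
        intro c hc
        rw [mem_conj_smul, inv_inv]
        apply hC
        rw [mem_centralizer_iff] at hc ⊢
        intro v hv
        have hcb' : c * b = b * c := (hc b (mem_zpowers b)).symm
        have h1 : (w * c * w⁻¹) * (w * b * w⁻¹) = (w * b * w⁻¹) * (w * c * w⁻¹) := by
          calc (w * c * w⁻¹) * (w * b * w⁻¹) = w * (c * b) * w⁻¹ := by group
            _ = w * (b * c) * w⁻¹ := by rw [hcb']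
            _ = (w * b * w⁻¹) * (w * c * w⁻¹) := by group
        have h2 : (w * c * w⁻¹) * y = y * (w * c * w⁻¹) := bg127_comm_zpowers h1 y hyy'
        exact (bg127_comm_zpowers h2 v (hgen v hv)).symm
      have hL := huniq _ (isCoatom_conj_smul w⁻¹ hM) hle
      have := bg127_mem_of_conj_smul_eq hG hM hL
      exact hwM (by simpa using M.inv_mem this)

/-- In a cyclic group `H`, a subgroup `K` consists of all elements of order dividing `|K|`
(as `Helper25.mem_of_pow_card_eq_one_of_isCyclic`). -/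
theorem bg127_mem_of_pow_card_isCyclic {H K : Subgroup G}
    (hcyc : IsCyclic ↥H) (hKH : K ≤ H) {x : G} (hx : x ∈ H) (hpow : x ^ Nat.card K = 1) :
    x ∈ K := by
  classical
  have : Fintype ↥H := Fintype.ofFinite _
  have hpos : 0 < Nat.card K := Nat.card_pos
  have h1 : (Finset.univ.filter (fun y : ↥H => y ^ Nat.card K = 1)).card ≤ Nat.card K :=
    IsCyclic.card_pow_eq_one_le hpos
  have hsub : Finset.univ.filter (fun y : ↥H => (y : G) ∈ K)
      ⊆ Finset.univ.filter (fun y : ↥H => y ^ Nat.card K = 1) := by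
    intro y hy
    simp only [Finset.mem_filter, Finset.mem_univ, true_and] at hy ⊢
    apply Subtype.ext
    rw [Subgroup.coe_pow, Subgroup.coe_one]
    exact orderOf_dvd_iff_pow_eq_one.mp (Subgroup.orderOf_dvd_natCard K hy)
  have hcard : (Finset.univ.filter (fun y : ↥H => (y : G) ∈ K)).card = Nat.card K := by
    rw [← Fintype.card_subtype, ← Nat.card_eq_fintype_card]
    exact Nat.card_congr (Subgroup.subgroupOfEquivOfLe hKH).toEquiv
  have heq := Finset.eq_of_subset_of_card_le hsub (by rw [hcard]; exact h1)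
  have hmem : (⟨x, hx⟩ : ↥H) ∈ Finset.univ.filter (fun y : ↥H => y ^ Nat.card K = 1) := by
    simp only [Finset.mem_filter, Finset.mem_univ, true_and]
    apply Subtype.ext
    simpa using hpow
  rw [← heq] at hmem
  simpa using hmem

omit [Finite G] in
/-- A nilpotent subgroup of `M` normalized by `M` lies in `F(M)`. -/
theorem bg127_le_fittingOf {M N : Subgroup G} (hNM : N ≤ M) (hMN : M ≤ normalizer (N : Set G))
    (hnil : Group.IsNilpotent N) : N ≤ fittingOf M := by
  have hn : (N.subgroupOf M).Normal := Subgroup.normal_subgroupOf_of_le_normalizer hMN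
  have hnil' : Group.IsNilpotent ↥(N.subgroupOf M) :=
    (Group.isNilpotent_congr (Subgroup.subgroupOfEquivOfLe hNM)).mpr hnil
  have h1 : N.subgroupOf M ≤ fittingSubgroup ↥M := le_sSup ⟨hn, hnil'⟩
  have h2 := Subgroup.map_mono (f := M.subtype) h1
  rw [Subgroup.map_subgroupOf_eq_of_le hNM] at h2
  exact h2

omit [Finite G] in
theorem bg127_oq_normal (ℓ : ℕ) (M : Subgroup G) :
    M ≤ normalizer ((Helper62.FitAct.oq ℓ M : Subgroup G) : Set G) := by
  have := Helper22.pCore_characteristic ℓ ↥M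
  exact le_normalizer.trans (normalizer_le_normalizer_map_subtype M (pCore ℓ ↥M))

/-- A normal `ℓ`-subgroup of `M` is trivial when `ℓ ∉ σ(M) ∪ τ₂(M)`. -/
theorem bg127_normal_eq_bot (hG : IsMinSimpleOddOrder G) (hU : BGUniq G) {M : Subgroup G}
    (hM : IsCoatom M) {ℓ : ℕ} (hℓ : ℓ.Prime) (hℓσ : ℓ ∉ sigma M) (hℓτ : ℓ ∉ tau2 M)
    {R : Subgroup G} (hRM : R ≤ M) (hMR : M ≤ normalizer (R : Set G)) (hR : IsPGroup ℓ R) :
    R = ⊥ := by
  by_contra hR1
  have := Fact.mk hℓ
  have hsimple := hG.2.1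
  have hr2 : PRankLE ℓ 2 ↥M := by
    by_contra h
    exact hℓσ (bg10_alpha_sub_sigma hG hU hM ⟨hℓ, h⟩)
  have hr1 : PRankLE ℓ 1 ↥M := by
    by_contra h
    exact hℓτ ⟨hℓ, hℓσ, hr2, h⟩
  obtain ⟨Sℓ, hSℓ, hRS⟩ := exists_isSylowOf_ge hR hRM
  have hℓ2 : ℓ ≠ 2 := by
    rintro rfl
    have h1 : 2 ∣ Nat.card G :=
      (bg11_dvd_card_of_isPGroup hR hR1).trans (Subgroup.card_subgroup_dvd_card R)
    exact (Nat.not_even_iff_odd.mpr hG.1) (even_iff_two_dvd.mpr h1)
  have hcyc : IsCyclic ↥Sℓ :=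
    Helper49.isCyclic_of_pRankLE_one hℓ2 hSℓ.2.1 (pRankLE_of_le hSℓ.1 hr1)
  have hNR : normalizer (R : Set G) = M := by
    have hN : normalizer (R : Set G) ≠ ⊤ :=
      normalizer_ne_top_of_simple hR1 (fun h => hM.1 (top_le_iff.mp (h ▸ hRM)))
    rcases hM.le_iff.mp hMR with h1 | h1
    · exact absurd h1 hN
    · exact h1
  have hN : normalizer (Sℓ : Set G) ≤ M := by
    intro n hn
    rw [← hNR]
    apply bg10_mem_normalizer
    intro r hr
    have h1 : n * r * n⁻¹ ∈ Sℓ := (mem_normalizer_iff.mp hn r).mp (hRS hr)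
    refine bg127_mem_of_pow_card_isCyclic hcyc hRS h1 ?_
    have h2 : r ^ Nat.card R = 1 := by
      have h3 : (⟨r, hr⟩ : R) ^ Nat.card R = 1 := pow_card_eq_one'
      have h4 := congrArg Subtype.val h3
      rwa [Subgroup.coe_pow] at h4
    rw [conj_pow, h2]; group
  have hS1 : Sℓ ≠ ⊥ := fun h => hR1 (eq_bot_iff.mpr (h ▸ hRS))
  exact hℓσ (bg12_mem_sigma hSℓ hS1 hN)

/-- `F(M) = M_σ × C_A(M_σ)` in the situation of B&G Theorem 12.7. -/
theorem bg127_fitting (hG : IsMinSimpleOddOrder G) (hU : BGUniq G) {M E : Subgroup G}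
    (hM : IsCoatom M) (hE : IsComplIn E (sigmaCore M) M) {p : ℕ} [Fact p.Prime]
    (hpσ : p ∉ sigma M) (hnil : Group.IsNilpotent (sigmaCore M)) {A X₀ Pm : Subgroup G}
    (hA : IsElementaryAbelian p A) (hEA : E ≤ normalizer (A : Set G))
    (hA₀ : A ⊓ centralizer (sigmaCore M : Set G) = X₀) (hPm : IsSylowOf p Pm M)
    (hAPm : A ≤ Pm) (hPΩ : ∀ u ∈ Pm, u ^ p = 1 → u ∈ A) (hτ : ∀ q ∈ tau2 M, q = p)
    (hpow : ∀ c ∈ Pm, c ^ p ∈ X₀ → c ^ p = 1) :
    fittingOf M = sigmaCore M ⊔ X₀ := by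
  have hp : p.Prime := Fact.out
  have hσM : sigmaCore M ≤ M := piCoreOf_le _ _
  have hMσ : M ≤ normalizer (sigmaCore M : Set G) := le_normalizer_piCoreOf _ _
  have hAM : A ≤ M := hAPm.trans hPm.1
  have hX₀A : X₀ ≤ A := by rw [← hA₀]; exact inf_le_left
  have hX₀C : X₀ ≤ centralizer (sigmaCore M : Set G) := by rw [← hA₀]; exact inf_le_right
  have hMC := bg11_le_normalizer_centralizer hMσ
  have hpN : ¬ p ∣ Nat.card (sigmaCore M) :=
    fun hd => hpσ (mem_of_dvd_card_piCoreOf (sigma M) M hp hd)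
  have hMX₀ : M ≤ normalizer (X₀ : Set G) := by
    apply le_normalizer_of_forall_conj_mem
    intro m hm v hv
    obtain ⟨e, he, s, hs, rfl⟩ := hE.2.2.2 m hm
    have hsv : s * v = v * s := mem_centralizer_iff.mp (hX₀C hv) s hs
    have e1 : e * s * v * (e * s)⁻¹ = e * v * e⁻¹ := by
      calc e * s * v * (e * s)⁻¹ = e * (s * v) * s⁻¹ * e⁻¹ := by group
        _ = e * (v * s) * s⁻¹ * e⁻¹ := by rw [hsv]
        _ = e * v * e⁻¹ := by group
    rw [e1, ← hA₀]
    exact ⟨(mem_normalizer_iff.mp (hEA he) v).mp (hX₀A hv),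
      (mem_normalizer_iff.mp (hMC (hE.1 he)) v).mp (hX₀C hv)⟩
  have hX₀nil : Group.IsNilpotent ↥X₀ := ((bg11_isPGroup_of_elemAb hA).to_le hX₀A).isNilpotent
  apply le_antisymm
  · rw [Helper62.FitAct.fittingOf_eq_iSup]
    apply iSup_le
    intro ℓ
    obtain ⟨R, hRdef⟩ : ∃ R : Subgroup G, R = Helper62.FitAct.oq (ℓ : ℕ) M := ⟨_, rfl⟩
    rw [← hRdef]
    have hRM : R ≤ M := by rw [hRdef]; exact Helper62.FitAct.oq_le _ _
    have hMR : M ≤ normalizer (R : Set G) := by rw [hRdef]; exact bg127_oq_normal _ _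
    have hR : IsPGroup (ℓ : ℕ) R := by rw [hRdef]; exact Helper62.FitAct.oq_isPGroup _ _
    by_cases hℓσ : (ℓ : ℕ) ∈ sigma M
    · exact (bg12_le_sigmaCore hG hU hM ℓ.2 hℓσ hRM hR).trans le_sup_left
    · by_cases hℓp : (ℓ : ℕ) = p
      · have hR' : IsPGroup p R := hℓp ▸ hR
        have hRPm : R ≤ Pm := by
          have h1 : IsPGroup p ↥(R ⊔ Pm) :=
            IsPGroup.to_sup_of_normal_left' hR' hPm.2.1 (hPm.1.trans hMR)
          have h2 := hPm.2.2 (R ⊔ Pm) (sup_le hRM hPm.1) h1 le_sup_right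
          rw [← h2]; exact le_sup_left
        have hRσ : R ⊓ sigmaCore M = ⊥ := by
          apply Helper68.bg123_inf_eq_bot
          obtain ⟨n, hn⟩ := IsPGroup.iff_card.mp hR'
          rw [hn]
          exact Nat.Coprime.pow_left n ((Nat.Prime.coprime_iff_not_dvd hp).mpr hpN)
        have hRC : R ≤ centralizer (sigmaCore M : Set G) := by
          intro r hr
          rw [mem_centralizer_iff]
          intro y hy
          have hc : r * y * r⁻¹ * y⁻¹ ∈ R ⊓ sigmaCore M := by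
            constructor
            · have h1 : y * r⁻¹ * y⁻¹ ∈ R :=
                (mem_normalizer_iff.mp (hMR (hσM hy)) _).mp (R.inv_mem hr)
              have e : r * y * r⁻¹ * y⁻¹ = r * (y * r⁻¹ * y⁻¹) := by group
              rw [e]; exact R.mul_mem hr h1
            · exact (sigmaCore M).mul_mem ((mem_normalizer_iff.mp (hMσ (hRM hr)) y).mp hy)
                ((sigmaCore M).inv_mem hy)
          rw [hRσ, Subgroup.mem_bot] at hc
          exact (Helper68.bg123_comm_of_eq_one hc).symm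
        have hexp : ∀ r ∈ R, r ^ p = 1 := by
          intro r hr
          by_contra hrp
          have hex : ∃ k : ℕ, r ^ p ^ k = 1 := by
            obtain ⟨k, hk⟩ := hR' ⟨r, hr⟩
            refine ⟨k, ?_⟩
            have h2 := congrArg Subtype.val hk
            rwa [Subgroup.coe_pow] at h2
          classical
          obtain ⟨k₀, hk₀def⟩ : ∃ k₀, k₀ = Nat.find hex := ⟨_, rfl⟩
          have hk₀ : r ^ p ^ k₀ = 1 := hk₀def ▸ Nat.find_spec hex
          have hmin : ∀ j, j < k₀ → r ^ p ^ j ≠ 1 := fun j hj => Nat.find_min hex (hk₀def ▸ hj)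
          have hk2 : 2 ≤ k₀ := by
            by_contra hlt
            have hk01 : k₀ = 0 ∨ k₀ = 1 := by omega
            rcases hk01 with h0 | h1
            · rw [h0, pow_zero, pow_one] at hk₀
              exact hrp (by rw [hk₀, one_pow])
            · rw [h1, pow_one] at hk₀
              exact hrp hk₀
          obtain ⟨j, rfl⟩ : ∃ j, k₀ = j + 2 := ⟨k₀ - 2, by omega⟩
          obtain ⟨c, hcdef⟩ : ∃ c, c = r ^ p ^ j := ⟨_, rfl⟩
          have hcR : c ∈ R := hcdef ▸ R.pow_mem hr _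
          have hcp : c ^ p = r ^ p ^ (j + 1) := by rw [hcdef, ← pow_mul, ← pow_succ]
          have hcpp : (c ^ p) ^ p = 1 := by rw [hcp, ← pow_mul, ← pow_succ]; exact hk₀
          have hcpA : c ^ p ∈ A := hPΩ _ (Pm.pow_mem (hRPm hcR) p) hcpp
          have hcpX : c ^ p ∈ X₀ := by
            rw [← hA₀]; exact ⟨hcpA, hRC (R.pow_mem hcR p)⟩
          have h1 := hpow c (hRPm hcR) hcpX
          rw [hcp] at h1
          exact hmin (j + 1) (by omega) h1
        have hRX : R ≤ X₀ := by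
          intro r hr
          rw [← hA₀]
          exact ⟨hPΩ r (hRPm hr) (hexp r hr), hRC hr⟩
        exact hRX.trans le_sup_right
      · have hRbot : R = ⊥ :=
          bg127_normal_eq_bot hG hU hM ℓ.2 hℓσ (fun h => hℓp (hτ _ h)) hRM hMR hR
        rw [hRbot]; exact bot_le
  · exact sup_le (bg127_le_fittingOf hσM hMσ hnil)
      (bg127_le_fittingOf (hX₀A.trans hAM) hMX₀ hX₀nil)

/-- **B&G Theorem 12.7**, from Theorem 12.5 and Corollary 12.6; the two facts `hP1` (a `p`-th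
power of an element of a Sylow `p`-subgroup `S ≥ A` of `G` lying in `A` is central in `S`) and
`hP2` (`τ₂(M) = {p}`) enter as hypotheses. -/
theorem bg127_main (hG : IsMinSimpleOddOrder G) (hU : BGUniq G) (h125 : BG125 G)
    (h126 : BG126 G) {M E : Subgroup G} (hM : IsCoatom M) (hE : IsComplIn E (sigmaCore M) M)
    {p : ℕ} [Fact p.Prime] (hp : p ∈ tau2 M)
    (hS : ∀ S : Sylow p G, ¬ IsMulCommutative (S : Subgroup G)) {A : Subgroup G} (hAE : A ≤ E)
    (hA : IsElementaryAbelian p A) (hAc : Nat.card A = p ^ 2)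
    (hP1 : ∀ S : Sylow p G, A ≤ (S : Subgroup G) → ∀ s ∈ (S : Subgroup G), s ^ p ∈ A →
      ∀ t ∈ (S : Subgroup G), s ^ p * t = t * s ^ p)
    (hP2 : ∀ (x : G) (e : ℕ), x ^ p ^ e = 1 → (∀ a ∈ A, x * a * x⁻¹ ∈ A) → x ∉ M →
      ∀ q ∈ tau2 M, q = p) :
    tau2 M = {p} ∧
      (Nat.card ↥(A ⊓ centralizer (sigmaCore M : Set G)) = p ∧
        fittingOf M = sigmaCore M ⊔ (A ⊓ centralizer (sigmaCore M : Set G))) ∧
      ∀ X : Subgroup G, X ≤ E → Nat.card X = p →
        X ≠ A ⊓ centralizer (sigmaCore M : Set G) →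
        sigmaCore M ⊓ centralizer (X : Set G) = ⊥ ∧ ¬ centralizer (X : Set G) ≤ M := by
  have hpp : p.Prime := Fact.out
  have hp' := hp
  obtain ⟨-, hpσ, hr2, hr1⟩ := hp'
  have hEM : E ≤ M := hE.1
  have hAM : A ≤ M := hAE.trans hEM
  have hAp : IsPGroup p A := bg11_isPGroup_of_elemAb hA
  have hAcomm := bg11_elemAb_comm hA
  obtain ⟨hnil, hsyl, -, hcentA, -, -⟩ := h125 M hM p hp A ⟨hAM, hA, hAc⟩
  obtain ⟨⟨hEA, hElines⟩, ⟨hCA, -, -⟩, hline⟩ := h126 M hM E hE p hp A ⟨hAE, hA, hAc⟩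
  have hCAM : centralizer (A : Set G) ≤ M := hCA.trans inf_le_left
  have hmax := bg10_elemAb_sq_maximal hG hU hM hr2 hAM hA hAc
  have hA1 : A ≠ ⊥ := by
    intro e
    rw [e, Subgroup.card_bot] at hAc
    have := hpp.one_lt
    nlinarith
  -- a Sylow `p`-subgroup `Pm` of `M` over `A`
  obtain ⟨P, hP⟩ := (hAp.comap_subtype (K := M)).exists_le_sylow
  obtain ⟨Pm, hPmdef⟩ : ∃ Pm : Subgroup G, Pm = (P : Subgroup M).map M.subtype := ⟨_, rfl⟩
  have hAPm : A ≤ Pm := by
    intro a ha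
    rw [hPmdef]
    exact ⟨⟨a, hAM ha⟩, hP (Subgroup.mem_subgroupOf.mpr ha), rfl⟩
  have hPmS : IsSylowOf p Pm M := by rw [hPmdef]; exact isSylowOf_map P
  obtain ⟨hPab, hPΩ'⟩ := hsyl P
  rw [← hPmdef] at hPΩ'
  obtain ⟨hPΩ, -⟩ := hPΩ' hAPm
  have hPmab : ∀ u ∈ Pm, ∀ v ∈ Pm, u * v = v * u := by
    intro u hu v hv
    rw [hPmdef] at hu hv
    obtain ⟨u', hu', rfl⟩ := hu
    obtain ⟨v', hv', rfl⟩ := hv
    have h1 := hPab.is_comm.comm ⟨u', hu'⟩ ⟨v', hv'⟩
    have h2 := congrArg (fun w : ↥(P : Subgroup M) => ((w : ↥M) : G)) h1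
    exact h2
  -- a Sylow `p`-subgroup `S` of `G` over `Pm`
  obtain ⟨S, hPS⟩ := hPmS.2.1.exists_le_sylow
  have hSp : IsPGroup p (S : Subgroup G) := S.isPGroup'
  have hSM : (S : Subgroup G) ⊓ M = Pm :=
    hPmS.2.2 _ inf_le_right (hSp.to_le inf_le_left) (le_inf hPS hPmS.1)
  have hPne : Pm ≠ (S : Subgroup G) := by
    intro e
    apply hS S
    exact ⟨⟨fun u v => Subtype.ext (hPmab u (e ▸ u.2) v (e ▸ v.2))⟩⟩
  obtain ⟨x, hxS, hxP, hxN⟩ := Helper24.bg11b_exists_normalizing hSp hPS hPne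
  have hxM : x ∉ M := fun h => hxP (by rw [← hSM]; exact ⟨hxS, h⟩)
  have hxA : ∀ a ∈ A, x * a * x⁻¹ ∈ A := by
    intro a ha
    have h1 := hxN a (hAPm ha)
    apply (hPΩ _ h1).mp
    rw [conj_pow, hA.2 a ha]; group
  obtain ⟨e, hxe⟩ : ∃ e : ℕ, x ^ p ^ e = 1 := by
    obtain ⟨e, he⟩ := hSp ⟨x, hxS⟩
    refine ⟨e, ?_⟩
    have h2 := congrArg Subtype.val he
    rwa [Subgroup.coe_pow] at h2
  -- a central element `z` of order `p` of `S`
  have hS1 : (S : Subgroup G) ≠ ⊥ := fun h => hA1 (eq_bot_iff.mpr (h ▸ hAPm.trans hPS))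
  obtain ⟨z, hzΩ, hz1⟩ := bg11_exists_ne_one (omegaCenter_ne_bot hSp hS1)
  obtain ⟨hzS, hzc, hzp⟩ := mem_omegaCenter.mp hzΩ
  have hzA : z ∈ A := Helper24.bg11b_mem_of_comm hA hmax hzp
    (fun a ha => mem_centralizer_iff.mp hzc a (hPS (hAPm ha)))
  have hxz : x * z = z * x := mem_centralizer_iff.mp hzc x hxS
  -- a line `X₀` with fixed points on `M_σ`
  have hσne := Helper24.bg11b_sigmaCore_ne_bot hG hU hM
  have hMσ : M ≤ normalizer (sigmaCore M : Set G) := le_normalizer_piCoreOf _ _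
  have hpN : ¬ p ∣ Nat.card (sigmaCore M) :=
    fun hd => hpσ (mem_of_dvd_card_piCoreOf (sigma M) M hpp hd)
  have hcop : (Nat.card A).Coprime (Nat.card (sigmaCore M)) := by
    rw [hAc]
    exact Nat.Coprime.pow_left 2 ((Nat.Prime.coprime_iff_not_dvd hpp).mpr hpN)
  obtain ⟨X₀, hX₀A, hX₀c, hX₀f⟩ := bg11_exists_fix hA hAc (hAM.trans hMσ) hcop hσne
  obtain ⟨hX₀M, hX₀u⟩ := hline X₀ hX₀A hX₀c hX₀f
  obtain ⟨b, hbX, hbp, hbgen⟩ := bg11_gen_of_card_prime hX₀c
  have hX₀eq : X₀ = zpowers b := le_antisymm (fun v hv => hbgen v hv) (zpowers_le.mpr hbX)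
  have hbA : b ∈ A := hX₀A hbX
  have hbz : b ∉ zpowers z := by
    intro hb
    apply hxM
    apply hX₀M
    rw [mem_centralizer_iff]
    intro v hv
    have h1 : x * b = b * x := bg127_comm_zpowers hxz b hb
    exact (bg127_comm_zpowers h1 v (hbgen v hv)).symm
  have hb1 : b ≠ 1 := fun h => hbz (h ▸ one_mem _)
  have hlines : ∀ X : Subgroup G, X ≤ A → Nat.card X = p → X ≠ X₀ →
      ¬ centralizer (X : Set G) ≤ M := by
    intro X hXA hXc hXne
    exact bg127_line_not_le hG hM hAc hAcomm hA.2 hAPm hPmab hSM hxS hxM hxA hxe hCAM hzA hz1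
      hxz hbA hbz (hX₀eq ▸ hX₀u) hXA hXc (hX₀eq ▸ hXne)
  have hfpf : ∀ X : Subgroup G, X ≤ A → Nat.card X = p → X ≠ X₀ →
      sigmaCore M ⊓ centralizer (X : Set G) = ⊥ := by
    intro X hXA hXc hXne
    by_contra hne
    exact hlines X hXA hXc hXne (hline X hXA hXc hne).1
  -- `X₀` centralizes `M_σ`
  have hσX₀ : sigmaCore M ≤ centralizer (X₀ : Set G) := by
    have hncyc : ¬ ∃ a ∈ A, zpowers a = A := by
      rintro ⟨a, ha, hza⟩
      have h1 : Nat.card (zpowers a) ∣ p := by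
        rw [Nat.card_zpowers]; exact orderOf_dvd_of_pow_eq_one (hA.2 a ha)
      rw [hza, hAc] at h1
      have h2 := Nat.le_of_dvd hpp.pos h1
      have h3 := hpp.one_lt
      nlinarith
    have hgen := coprime_gen_nonidentity hAcomm hncyc (hAM.trans hMσ) hcop
    have hle : (⨆ B ∈ {B : Subgroup G | B ≤ A ∧ B ≠ ⊥},
        sigmaCore M ⊓ centralizer (B : Set G)) ≤ centralizer (X₀ : Set G) := by
      apply iSup₂_le
      rintro B ⟨hBA, hB1⟩
      obtain ⟨v, hvB, hv1⟩ := bg11_exists_ne_one hB1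
      have hvp : v ^ p = 1 := hA.2 v (hBA hvB)
      have hXc : Nat.card (zpowers v) = p := by
        rw [Nat.card_zpowers]; exact orderOf_eq_prime hvp hv1
      have hXB : zpowers v ≤ B := zpowers_le.mpr hvB
      have h1 : sigmaCore M ⊓ centralizer (B : Set G) ≤
          sigmaCore M ⊓ centralizer ((zpowers v : Subgroup G) : Set G) :=
        inf_le_inf_left _ (centralizer_le (by exact_mod_cast hXB))
      by_cases hX : zpowers v = X₀
      · rw [hX] at h1
        exact h1.trans inf_le_right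
      · rw [hfpf _ (hXB.trans hBA) hXc hX] at h1
        exact h1.trans bot_le
    calc sigmaCore M = _ := hgen
      _ ≤ _ := hle
  have hA₀ : A ⊓ centralizer (sigmaCore M : Set G) = X₀ := by
    have hle : X₀ ≤ A ⊓ centralizer (sigmaCore M : Set G) := by
      intro v hv
      suffices hvc : v ∈ centralizer (sigmaCore M : Set G) from ⟨hX₀A hv, hvc⟩
      rw [mem_centralizer_iff]
      intro y hy
      exact (mem_centralizer_iff.mp (hσX₀ hy) v hv).symm
    have hle2 : A ⊓ centralizer (sigmaCore M : Set G) ≤ A := inf_le_left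
    have hd : Nat.card ↥(A ⊓ centralizer (sigmaCore M : Set G)) ∣ p ^ 2 := by
      rw [← hAc]; exact Subgroup.card_dvd_of_le hle2
    obtain ⟨m, hm, hcm⟩ := (Nat.dvd_prime_pow hpp).mp hd
    have hm1 : m ≤ 1 := by
      by_contra hm2
      have hm2' : m = 2 := by omega
      rw [hm2'] at hcm
      have h1 := Subgroup.eq_of_le_of_card_ge hle2 (by rw [hcm, hAc])
      apply hσne
      rw [eq_bot_iff, ← hcentA]
      intro y hy
      suffices hyc : y ∈ centralizer (A : Set G) from ⟨hy, hyc⟩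
      rw [mem_centralizer_iff]
      intro a ha
      have ha' : a ∈ A ⊓ centralizer (sigmaCore M : Set G) := by rw [h1]; exact ha
      exact (mem_centralizer_iff.mp ha'.2 y hy).symm
    symm
    apply Subgroup.eq_of_le_of_card_ge hle
    rw [hcm, hX₀c]
    calc p ^ m ≤ p ^ 1 := Nat.pow_le_pow_right hpp.pos hm1
      _ = p := pow_one p
  have hτ : ∀ q ∈ tau2 M, q = p := hP2 x e hxe hxA hxM
  have hxb : x * b ≠ b * x := by
    intro h
    apply hxM
    apply hCAM
    rw [mem_centralizer_iff]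
    intro a ha
    have hsup : zpowers b ⊔ zpowers z = A := by
      have hcb : Nat.card (zpowers b) = p := by
        rw [Nat.card_zpowers]; exact orderOf_eq_prime hbp hb1
      have hcz : Nat.card (zpowers z) = p := by
        rw [Nat.card_zpowers]; exact orderOf_eq_prime hzp hz1
      exact bg11_sup_eq_of_card hAc (zpowers_le.mpr hbA) (zpowers_le.mpr hzA) hcb hcz
        (fun h => hbz (h ▸ mem_zpowers b))
    rw [← hsup] at ha
    obtain ⟨i, m, rfl⟩ := Helper24.bg11b_mem_sup_zpowers (hAcomm b hbA z hzA) ha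
    have h1 : Commute x b := h
    have h2 : Commute x z := hxz
    exact ((h1.zpow_right i).mul_right (h2.zpow_right m)).eq.symm
  have hpow : ∀ c ∈ Pm, c ^ p ∈ X₀ → c ^ p = 1 := by
    intro c hc hcX
    by_contra hc1
    have h1 := hP1 S (hAPm.trans hPS) c (hPS hc) (hX₀A hcX) x hxS
    have h2 : b ∈ zpowers (c ^ p) :=
      Helper24.bg11b_mem_zpowers_of_ne_one hbp (hX₀eq ▸ hcX) hc1
    exact hxb (bg127_comm_zpowers h1.symm b h2)
  refine ⟨?_, ⟨by rw [hA₀]; exact hX₀c, ?_⟩, ?_⟩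
  · ext q
    constructor
    · intro hq; exact hτ q hq
    · intro hq
      rw [Set.mem_singleton_iff.mp hq]; exact hp
  · rw [hA₀]
    exact bg127_fitting hG hU hM hE hpσ hnil hA hEA hA₀ hPmS hAPm
      (fun u hu hup => (hPΩ u hu).mp hup) hτ hpow
  · intro X hXE hXc hXne
    rw [hA₀] at hXne
    have hXA := hElines X hXE hXc
    exact ⟨hfpf X hXA hXc hXne, hlines X hXA hXc hXne⟩

end Cfsg.Agent.Helper22
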