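/-
helper22: definitions for CALL S1352 (B&G Lemma 14.2(a),(b) for a cyclic Hall `κ(M)`-subgroup):
the σ-partition hypothesis (second half of row S1378).
-/
import Cfsg.Agent.Helper23.Uniq

set_option autoImplicit false

namespace Cfsg.Agent.Helper22

open Cfsg Subgroup

universe u

/-- The σ-partition (second half of S1378, B&G 13.9/14.1): maximal subgroups `M`, `N` with
`σ(M) ∩ σ(N) ≠ ∅` are conjugate. -/
def BGSigmaPart (G : Type u) [Group G] : Prop :=
  ∀ M N : Subgroup G, IsCoatom M → IsCoatom N → (sigma M ∩ sigma N).Nonempty →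
    ∃ g : G, N = M.map (MulAut.conj g).toMonoidHom

end Cfsg.Agent.Helper22
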