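/-
helper22: piece SW2 of CALL S1428 (helper2's skeleton tools/calls/BG13Skel.lean.txt):
`q ∈ σ(H)`, `S` is a Sylow `q`-subgroup of `G` and `N_G(S) ≤ H`.
-/
import Cfsg.Agent.Helper2.BG13Defs
import Cfsg.Agent.Helper23.Uniq
import Cfsg.Agent.Helper24.BG13A3
import Cfsg.Agent.Helper49.BG1215
import Cfsg.Agent.Helper49.BG1216
import Cfsg.Agent.Helper54.BG13b
import Cfsg.Agent.Helper72.BG12Cor2
import Cfsg.Agent.Helper22.BG12b
import Cfsg.Agent.S1403
import Cfsg.Agent.S1414
import Cfsg.Agent.S1422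

set_option autoImplicit false

namespace Cfsg.Agent.Helper22

open Cfsg Subgroup Cfsg.Agent.Helper2 Cfsg.Agent.Helper23

universe u

variable {G : Type u} [Group G] [Finite G]

/-- A nontrivial `q`-subgroup of `M_σ` forces `q ∈ σ(M)`. -/
theorem bg13sw_mem_sigma (hG : IsMinSimpleOddOrder G) {M Y : Subgroup G} (hM : IsCoatom M)
    {q : ℕ} (hq : q.Prime) (hYq : IsPGroup q Y) (hY1 : Y ≠ ⊥) (hYM : Y ≤ sigmaCore M) :
    q ∈ sigma M := by
  have hU : BGUniq G := fun K hK h1 h2 => Cfsg.Agent.S1403.result hG K hK h1 h2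
  have : Fact q.Prime := ⟨hq⟩
  have hd : q ∣ Nat.card Y := by
    obtain ⟨n, hn⟩ := hYq.exists_card_eq
    rcases n with _ | n
    · exfalso
      apply hY1
      rw [pow_zero] at hn
      exact (Subgroup.card_eq_one).mp hn
    · rw [hn]; exact dvd_pow_self q (Nat.succ_ne_zero n)
  exact (bg10_sigma_hall hG hU hM).1.2.1 q hq (hd.trans (Subgroup.card_dvd_of_le hYM))

/-- PIECE SW2: `q ∈ σ(H)`, `S` is a Sylow `q`-subgroup of `G` and `N_G(S) ≤ H`. -/
theorem bg13_sw_sylow (hG : IsMinSimpleOddOrder G) {M E P R H Q S : Subgroup G} {p r q : ℕ}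
    (c : T1Ctx M E P R H Q p r q) (hpH : p ∈ sigma H)
    (hu : normalizer (Q : Set G) ≤ H ∧
      ∀ L : Subgroup G, IsCoatom L → normalizer (Q : Set G) ≤ L → L = H)
    (hS : IsSylowOf q S (sigmaCore M ⊓ centralizer (P : Set G))) (hQS : Q ≤ S) :
    q ∈ sigma H ∧ IsSylowOf q S ⊤ ∧ normalizer (S : Set G) ≤ H := by
  have hU : BGUniq G := fun K hK h1 h2 => Cfsg.Agent.S1403.result hG K hK h1 h2
  have hna : Helper49.BGNonab G := fun p _ P hP hPna => Cfsg.Agent.S1422.result hG p P hP hPna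
  have hβ : Helper68.BGSigmaCompl G :=
    fun M hM q hq hqM hqβ => ((Cfsg.Agent.S1414.result hG M hM).2.2.2.2 q hq hqM hqβ).2.1
  have hM := c.hM
  have hH := c.hH
  have hqp : q.Prime := c.hq
  have hpp : p.Prime := c.hp.1
  have : Fact q.Prime := ⟨hqp⟩
  have : Fact p.Prime := ⟨hpp⟩
  have hPM : P ≤ M := c.hPE.trans c.hE.1
  have hCN : centralizer (P : Set G) ≤ H := (centralizer_le_normalizer _).trans c.hNP
  have hPH : P ≤ H := le_normalizer.trans c.hNP
  have hQH : Q ≤ H := c.hQP.trans hCN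
  have hsM : sigmaCore M ≤ M := (bg10_sigma_hall hG hU hM).1.1
  have hQM : Q ≤ M := c.hQM.trans hsM
  have hPp : IsPGroup p P := IsPGroup.of_card (n := 1) (by rw [c.hP, pow_one])
  have hpσM : p ∉ sigma M := c.hp.2.1
  -- `H ≠ M`
  have hne : H ≠ M := by
    intro h
    have h1 := bg10_nonsigma_normalizer hG hU hM hpσM c.hP (h ▸ c.hNP)
    exact h1.1.2 c.hp.2.2.2.2
  -- `q ∈ σ(M)`
  have hqM : q ∈ sigma M := bg13sw_mem_sigma hG hM hqp c.hQq c.hQ1 c.hQM
  -- `M_σ ∩ H ≤ C(P)`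
  have hsn : M ≤ normalizer (sigmaCore M : Set G) := le_normalizer_piCoreOf (sigma M) M
  have hDn : P ≤ normalizer ((sigmaCore M ⊓ H : Subgroup G) : Set G) := by
    intro x hx
    have hxM := hPM hx
    have hxH := hPH hx
    have h1 := hsn hxM
    rw [mem_normalizer_iff] at h1 ⊢
    intro y
    rw [mem_inf, mem_inf, h1 y]
    constructor
    · rintro ⟨ha, hb⟩
      exact ⟨ha, H.mul_mem (H.mul_mem hxH hb) (H.inv_mem hxH)⟩
    · rintro ⟨ha, hb⟩
      refine ⟨ha, ?_⟩
      have := H.mul_mem (H.mul_mem (H.inv_mem hxH) hb) hxH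
      simpa [mul_assoc] using this
  have hDC : sigmaCore M ⊓ H ≤ centralizer (P : Set G) := by
    intro d hd
    rw [mem_centralizer_iff]
    intro s hs
    exact Helper54.bg13_prime_action_sigma hG hU hβ hM hH hpσM hpH hPp hPH inf_le_left
      inf_le_right hDn d hd s hs
  -- `S` is a Sylow `q`-subgroup of `M ∩ H`
  have hSK : S ≤ sigmaCore M ⊓ centralizer (P : Set G) := hS.1
  have hSH : S ≤ H := (hSK.trans inf_le_right).trans hCN
  have hSM : S ≤ M := (hSK.trans inf_le_left).trans hsM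
  have hSMH : IsSylowOf q S (M ⊓ H) := by
    refine ⟨le_inf hSM hSH, hS.2.1, ?_⟩
    intro T hT hTq hST
    apply hS.2.2 T _ hTq hST
    have hTσ : T ≤ sigmaCore M := bg12_le_sigmaCore hG hU hM hqp hqM (hT.trans inf_le_left) hTq
    exact le_inf hTσ ((le_inf hTσ (hT.trans inf_le_right)).trans hDC)
  obtain ⟨-, hNSM, hidx⟩ :=
    Helper49.bg1215_main hG hU hna hM hqM c.hQq c.hQ1 hQM hne hu.1 hSMH hQS
  -- `S` is a Sylow `q`-subgroup of `H`
  have hSsylH : IsSylowOf q S H :=
    ⟨hSH, hS.2.1, fun T hTH hTq hST =>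
      Helper49.bg1215_max hG hU hM hqM c.hQ1 hu.1 hSMH hQS hTq hTH hST⟩
  -- `q ∈ σ(H)`
  have hqH : q ∈ sigma H := by
    by_contra hqH
    have hqα : q ∉ alpha H := fun h => hqH (bg10_alpha_sub_sigma hG hU hH h)
    have hr2 : PRankLE q 2 ↥H := bg10_pRank_of_not_alpha H q hqp hqα
    obtain ⟨x, hxQ, hxo⟩ : ∃ x ∈ Q, orderOf x = q := by
      have hd : q ∣ Nat.card Q := by
        obtain ⟨n, hn⟩ := c.hQq.exists_card_eq
        rcases n with _ | n
        · exfalso
          apply c.hQ1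
          rw [pow_zero] at hn
          exact (Subgroup.card_eq_one).mp hn
        · rw [hn]; exact dvd_pow_self q (Nat.succ_ne_zero n)
      obtain ⟨y, hy⟩ := exists_prime_orderOf_dvd_card' q hd
      exact ⟨y, y.2, by rw [← hy, Subgroup.orderOf_coe]⟩
    have hx1 : x ≠ 1 := by
      intro h
      rw [h, orderOf_one] at hxo
      exact hqp.one_lt.ne hxo
    by_cases hr1 : PRankLE q 1 ↥H
    · -- `Q` is cyclic
      have hQc : IsCyclic ↥Q := by
        apply bg12_isCyclic_of_comm hG.1 _ (c.hQq.isNilpotent)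
        apply bg12_rankLE_one_of_primes hQH
        intro q' hq' hd
        obtain ⟨n, hn⟩ := c.hQq.exists_card_eq
        rw [hn] at hd
        have := (Nat.prime_dvd_prime_iff_eq hq' hqp).mp (hq'.dvd_of_dvd_pow hd)
        rw [this]; exact hr1
      have hX1 : Nat.card (zpowers x) = q := by rw [Nat.card_zpowers, hxo]
      have hXQ : zpowers x ≤ Q := (zpowers_le).mpr hxQ
      have hNN : normalizer (Q : Set G) ≤ normalizer ((zpowers x : Subgroup G) : Set G) :=
        Helper72.b12c_normalizer_cyclic_le hQc hXQ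
      have hXb : (zpowers x : Subgroup G) ≠ ⊥ := by
        intro h
        rw [h, Subgroup.card_bot] at hX1
        exact hqp.one_lt.ne hX1
      have hXt : (zpowers x : Subgroup G) ≠ ⊤ := by
        intro h
        exact hH.1 (top_le_iff.mp (h ▸ hXQ.trans hQH))
      have := hG.2.1
      obtain ⟨L, hL, hNL⟩ := uq_exists_coatom_ge (normalizer_ne_top_of_simple hXb hXt)
      have hLH : L = H := hu.2 L hL (hNN.trans hNL)
      have h2 := bg10_nonsigma_normalizer hG hU hH hqH hX1 (hLH ▸ hNL)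
      exact h2.1.2 hr1
    · -- `q ∈ τ₂(H)`
      have hq2 : q ∈ tau2 H := ⟨hqp, hqH, hr2, hr1⟩
      obtain ⟨y, hyP, hy1⟩ : ∃ y ∈ P, y ≠ 1 := by
        by_contra hcon
        push Not at hcon
        have hPb : P = ⊥ := (Subgroup.eq_bot_iff_forall _).mpr hcon
        have hc := c.hP
        rw [hPb, Subgroup.card_bot] at hc
        exact hpp.one_lt.ne hc
      have hyσ : y ∈ sigmaCore H := bg12_le_sigmaCore hG hU hH hpp hpH hPH hPp hyP
      have hxy : x * y = y * x := by
        have := c.hQP hxQ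
        rw [mem_centralizer_iff] at this
        exact (this y hyP).symm
      have hxq : x ^ q = 1 := by rw [← hxo]; exact pow_orderOf_eq_one x
      exact hne (Helper24.bg13_tau2_of_cent hG hM hH hq2 (c.hQM hxQ) (hQH hxQ) hxq hx1 hyσ hy1
        (hPM hyP) hxy)
  have hNSH : normalizer (S : Set G) ≤ H := Helper49.bg1216_sigma_normalizer_le hqH hSsylH
  refine ⟨hqH, ?_, hNSH⟩
  exact hSsylH.of_normalizer_inf_le le_top (inf_le_left.trans hNSH)

end Cfsg.Agent.Helper22
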