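/-
helper22: piece SW3 of CALL S1428 (helper2's skeleton tools/calls/BG13Skel.lean.txt):
`r ∈ τ₁(M)`.
-/
import Cfsg.Agent.Helper22.BG13SW2
import Cfsg.Agent.Helper24.BG13A1

set_option autoImplicit false

namespace Cfsg.Agent.Helper22

open Cfsg Subgroup Cfsg.Agent.Helper2 Cfsg.Agent.Helper23

universe u

variable {G : Type u} [Group G] [Finite G]

omit [Finite G] in
/-- Non-conjugacy is symmetric. -/
theorem bg13sw_nc_symm {M H : Subgroup G}
    (hnc : ∀ g : G, H ≠ M.map (MulAut.conj g).toMonoidHom) :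
    ∀ g : G, M ≠ H.map (MulAut.conj g).toMonoidHom := by
  intro g h
  apply hnc g⁻¹
  rw [h, Subgroup.map_map]
  have e : (MulAut.conj g⁻¹).toMonoidHom.comp (MulAut.conj g).toMonoidHom = MonoidHom.id G := by
    ext x
    simp [MulAut.conj_apply, mul_assoc]
  rw [e, Subgroup.map_id]

/-- PIECE SW3: `r ∈ τ₁(M)`. -/
theorem bg13_sw_r_tau1 (hG : IsMinSimpleOddOrder G) {M E P R H Q S : Subgroup G} {p r q : ℕ}
    (c : T1Ctx M E P R H Q p r q) (hqH : q ∈ sigma H) (hSM : S ≤ sigmaCore M)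
    (hSsyl : IsSylowOf q S ⊤) (hNS : normalizer (S : Set G) ≤ H)
    (hRS : R ≤ normalizer (S : Set G)) (hQS : Q ≤ S) : r ∈ tau1 M := by
  have hU : BGUniq G := fun K hK h1 h2 => Cfsg.Agent.S1403.result hG K hK h1 h2
  have hβ : Helper68.BGSigmaCompl G :=
    fun M hM q hq hqM hqβ => ((Cfsg.Agent.S1414.result hG M hM).2.2.2.2 q hq hqM hqβ).2.1
  have hM := c.hM
  have hH := c.hH
  have hqp : q.Prime := c.hq
  have hpp : p.Prime := c.hp.1
  have hrp : r.Prime := c.hr
  have : Fact q.Prime := ⟨hqp⟩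
  have : Fact p.Prime := ⟨hpp⟩
  have : Fact r.Prime := ⟨hrp⟩
  have hPM : P ≤ M := c.hPE.trans c.hE.1
  have hRM : R ≤ M := c.hRE.trans c.hE.1
  have hCN : centralizer (P : Set G) ≤ H := (centralizer_le_normalizer _).trans c.hNP
  have hRH : R ≤ H := c.hRP.trans hCN
  have hsM : sigmaCore M ≤ M := (bg10_sigma_hall hG hU hM).1.1
  have hSH : S ≤ H := le_normalizer.trans hNS
  have hRr : IsPGroup r R := IsPGroup.of_card (n := 1) (by rw [c.hR, pow_one])
  have hpσM : p ∉ sigma M := c.hp.2.1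
  have hne : H ≠ M := by
    intro h
    have h1 := bg10_nonsigma_normalizer hG hU hM hpσM c.hP (h ▸ c.hNP)
    exact h1.1.2 c.hp.2.2.2.2
  have hS1 : S ≠ ⊥ := fun h => c.hQ1 (le_bot_iff.mp (h ▸ hQS))
  have hqM : q ∈ sigma M := bg13sw_mem_sigma hG hM hqp hSsyl.2.1 hS1 hSM
  have hnc : ∀ g : G, H ≠ M.map (MulAut.conj g).toMonoidHom :=
    Helper49.bg1215_not_conj hG hU hM hqM hSsyl.2.1 hS1 (hSM.trans hsM) hne hNS
  have hnc' := bg13sw_nc_symm hnc
  have hSσH : S ≤ sigmaCore H := bg12_le_sigmaCore hG hU hH hqp hqH hSH hSsyl.2.1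
  -- the contradiction when `R` centralizes `S`
  have hcontra : (∀ d ∈ S, ∀ x ∈ R, x * d = d * x) → False := by
    intro h
    apply c.hQ1
    rw [← le_bot_iff, ← c.hCQ]
    refine le_inf le_rfl ?_
    intro d hd
    rw [mem_centralizer_iff]
    intro x hx
    exact h d (hQS hd) x hx
  have hrM : r ∉ sigma M := by
    apply bg12_not_sigma_of_dvd hG hU hM c.hE hrp
    rw [← c.hR]
    exact Subgroup.card_dvd_of_le c.hRE
  have hrH : r ∉ sigma H := by
    intro hrH
    exact hcontra (Helper54.bg13_prime_action_sigma hG hU hβ hM hH hrM hrH hRr hRH hSM hSH hRS)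
  by_contra hr1
  apply hcontra
  intro d hd x hx
  have hxr : x ^ r = 1 := by
    have h1 : (⟨x, hx⟩ : R) ^ Nat.card R = 1 := pow_card_eq_one'
    rw [c.hR] at h1
    have := congrArg (Subtype.val) h1
    simpa using this
  exact Helper24.bg13_cent_of_not_tau1 hG hH hM hnc' hrH hr1 (hRM hx) hxr hSσH
    (hSM.trans hsM) (hRS hx) d hd

end Cfsg.Agent.Helper22
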