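/-
helper22: piece NB10 of CALL S1428 (helper2's skeleton tools/calls/BG13Skel.lean.txt):
case (D1)(e), `q ∈ σ(H)` and `q ∈ τ₂(L)`.

Proof (no `GL₂(q)` argument): `L ≠ M, H`; the Sylow `q`-subgroups of `M ∩ L` and of `H ∩ L`
over `X` are Sylow subgroups of `L` (12.17), so `H ∩ L` contains an elementary abelian
`A_H` of order `q²` and `M ∩ L` contains an `L`-conjugate `A_M = l A_H l⁻¹`.  By 12.5(e)
`L_σ ∩ H = 1`, so `H ∩ L` lies in a complement of `L_σ` in `L`, which normalizes `A_H`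
(12.6(a)); hence `S₀ ≤ H ∩ L` normalizes `A_H`, and as `H'` has a normal `q`-complement,
`S₀` centralizes `A_H`.  Then the Sylow `p`-subgroup `l S₀ l⁻¹` of `G` centralizes
`A_M ≤ M_σ`, and `C_G(A_M) ≤ N_G(A_M) ≤ M`: against LEMMA K.
-/
import Cfsg.Agent.Helper22.BG13SW3
import Cfsg.Agent.Helper72.BG13K
import Cfsg.Agent.Helper20.BG13P4
import Cfsg.Agent.Helper4.BG127P2
import Cfsg.Agent.Helper4.BG13P3
import Cfsg.Agent.Helper41.BG13P1
import Cfsg.Agent.Helper24.BG1217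
import Cfsg.Agent.S1416
import Cfsg.Agent.S1417
import Cfsg.Agent.S1418

set_option autoImplicit false

namespace Cfsg.Agent.Helper22

open Cfsg Subgroup Cfsg.Agent.Helper2 Cfsg.Agent.Helper23 Cfsg.Agent.Helper35
open scoped Pointwise commutatorElement

universe u

variable {G : Type u} [Group G] [Finite G]

/-- PIECE NB10 (case (D1)(e)): `q ∈ σ(H)` and `q ∈ τ₂(L)`. -/
theorem bg13_nb_tau2L (hG : IsMinSimpleOddOrder G) {M P H : Subgroup G} {p : ℕ}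
    (n : NBCtx M P H p) (h5 : NBFive M H) {q : ℕ} {X L S₀ : Subgroup G} (hqσ : q ∈ sigma H)
    (hq2 : q ∈ tau2 L) (hX : Nat.card X = q) (hXT : X ≤ ⁅sigmaCore M ⊓ H, M ⊓ H⁆)
    (hXN : M ⊓ H ≤ normalizer (X : Set G)) (hL : IsCoatom L) (hNX : normalizer (X : Set G) ≤ L)
    (hS₀ : IsSylowOf p S₀ ⊤) (hPS : P ≤ S₀) (hS₀H : S₀ ≤ H)
    (hTS : (⁅sigmaCore M ⊓ H, M ⊓ H⁆ : Subgroup G) ≤ centralizer (S₀ : Set G)) : False := by
  have hU : BGUniq G := fun K hK h1 h2 => Cfsg.Agent.S1403.result hG K hK h1 h2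
  have hC2 : Helper49.BGCent2 G :=
    fun M hM p _ A hAM hA hAc => (Cfsg.Agent.S1416.result hG M hM p A ⟨hAM, hA, hAc⟩).1
  have hM := n.hM
  have hH := n.hH
  have hqp : q.Prime := hqσ.1
  have hpp : p.Prime := n.hp.1
  have : Fact q.Prime := ⟨hqp⟩
  have : Fact p.Prime := ⟨hpp⟩
  have hsn : M ≤ normalizer (sigmaCore M : Set G) := le_normalizer_piCoreOf (sigma M) M
  have hsM : sigmaCore M ≤ M := (bg10_sigma_hall hG hU hM).1.1
  -- `T ≤ M_σ ∩ H`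
  have hTK : (⁅sigmaCore M ⊓ H, M ⊓ H⁆ : Subgroup G) ≤ sigmaCore M ⊓ H := by
    rw [Subgroup.commutator_le]
    intro a ha b hb
    have h1 : b * a⁻¹ * b⁻¹ ∈ sigmaCore M ⊓ H := by
      refine ⟨?_, H.mul_mem (H.mul_mem hb.2 (H.inv_mem ha.2)) (H.inv_mem hb.2)⟩
      have h2 := hsn hb.1
      rw [mem_normalizer_iff] at h2
      exact (h2 a⁻¹).mp ((sigmaCore M).inv_mem ha.1)
    have e : ⁅a, b⁆ = a * (b * a⁻¹ * b⁻¹) := by
      rw [commutatorElement_def]; group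
    rw [e]
    exact (sigmaCore M ⊓ H).mul_mem ha h1
  have hXσ : X ≤ sigmaCore M := hXT.trans (hTK.trans inf_le_left)
  have hXH : X ≤ H := hXT.trans (hTK.trans inf_le_right)
  have hXM : X ≤ M := hXσ.trans hsM
  have hXq : IsPGroup q X := IsPGroup.of_card (n := 1) (by rw [hX, pow_one])
  have hX1 : X ≠ ⊥ := by
    intro h
    rw [h, Subgroup.card_bot] at hX
    exact hqp.one_lt.ne hX
  have hqM : q ∈ sigma M := bg13sw_mem_sigma hG hM hqp hXq hX1 hXσ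
  have hXL : X ≤ L := le_normalizer.trans hNX
  have hCX : centralizer (X : Set G) ≤ L := (centralizer_le_normalizer _).trans hNX
  have hLM : L ≠ M := by
    intro h
    exact h5 q X hqp hXq hX1 hXT (h ▸ hCX)
  have hLH : L ≠ H := by
    intro h
    exact hq2.2.1 (h ▸ hqσ)
  -- Sylow `q`-subgroups of `M ∩ L` and `H ∩ L` over `X` are Sylow in `L`
  obtain ⟨SM, hSM, hXSM⟩ := exists_isSylowOf_ge hXq (le_inf hXM hXL)
  obtain ⟨SH, hSH, hXSH⟩ := exists_isSylowOf_ge hXq (le_inf hXH hXL)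
  have hSML : IsSylowOf q SM L :=
    ⟨hSM.1.trans inf_le_right, hSM.2.1, fun T hTL hTq hST =>
      Helper49.bg1215_max hG hU hM hqM hX1 hNX hSM hXSM hTq hTL hST⟩
  have hSHL : IsSylowOf q SH L :=
    ⟨hSH.1.trans inf_le_right, hSH.2.1, fun T hTL hTq hST =>
      Helper49.bg1215_max hG hU hH hqσ hX1 hNX hSH hXSH hTq hTL hST⟩
  -- an elementary abelian subgroup `A_H ≤ S_H` of order `q²`
  obtain ⟨A₀, hA₀L, hA₀, hA₀c⟩ := Helper72.b12c_exists_elemAb hq2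
  have hA₀q : IsPGroup q A₀ := Helper49.bg1216_isPGroup_of_elemAb hA₀
  obtain ⟨T₀, hT₀, hA₀T⟩ := exists_isSylowOf_ge hA₀q hA₀L
  obtain ⟨h, -, hT₀e⟩ := bg10_sylow_conj hSHL hT₀
  obtain ⟨AH, hAHdef⟩ : ∃ AH : Subgroup G, AH = MulAut.conj h⁻¹ • A₀ := ⟨_, rfl⟩
  have hAH : IsElementaryAbelian q AH := hAHdef ▸ Helper72.b12c_conj_elemAb hA₀ h⁻¹
  have hAHc : Nat.card AH = q ^ 2 := by rw [hAHdef, card_conj_smul, hA₀c]
  have hAHS : AH ≤ SH := by
    intro x hx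
    rw [hAHdef, mem_conj_smul] at hx
    have h1 := hA₀T hx
    rw [hT₀e, mem_conj_smul] at h1
    simpa [mul_assoc] using h1
  -- its `L`-conjugate `A_M ≤ S_M`
  obtain ⟨l, -, hSMe⟩ := bg10_sylow_conj hSHL hSML
  obtain ⟨AM, hAMdef⟩ : ∃ AM : Subgroup G, AM = MulAut.conj l • AH := ⟨_, rfl⟩
  have hAM : IsElementaryAbelian q AM := hAMdef ▸ Helper72.b12c_conj_elemAb hAH l
  have hAMc : Nat.card AM = q ^ 2 := by rw [hAMdef, card_conj_smul, hAHc]
  have hAMS : AM ≤ SM := by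
    intro x hx
    rw [hAMdef, mem_conj_smul] at hx
    rw [hSMe, mem_conj_smul]
    exact hAHS hx
  have hAMM : AM ≤ M := hAMS.trans (hSM.1.trans inf_le_left)
  have hAHH : AH ≤ H := hAHS.trans (hSH.1.trans inf_le_left)
  have hAHL : AH ≤ L := hAHS.trans (hSH.1.trans inf_le_right)
  have hAHq : IsPGroup q AH := Helper49.bg1216_isPGroup_of_elemAb hAH
  have hAMq : IsPGroup q AM := Helper49.bg1216_isPGroup_of_elemAb hAM
  -- `L_σ ∩ H = 1`
  have h17H : sigmaCore L ⊓ H = ⊥ :=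
    (Cfsg.Agent.S1417.result hG L hL q hq2 AH ⟨hAHL, hAH, hAHc⟩).2.2.2.2.1 H hH hLH.symm hAHH
  -- `S₀ ≤ L`
  have hS₀L : S₀ ≤ L := by
    intro s hs
    apply hCX
    rw [mem_centralizer_iff]
    intro x hx
    have h1 := hTS (hXT hx)
    rw [mem_centralizer_iff] at h1
    exact (h1 s hs).symm
  -- `H ∩ L` lies in a complement of `L_σ`
  have hcop : (Nat.card ↥(H ⊓ L)).Coprime (Nat.card (sigmaCore L)) := by
    apply Nat.coprime_of_dvd
    intro u hu hu1 hu2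
    have huL : u ∈ sigma L := mem_of_dvd_card_piCoreOf (sigma L) L hu hu2
    have : Fact u.Prime := ⟨hu⟩
    obtain ⟨y, hy⟩ := exists_prime_orderOf_dvd_card' u hu1
    have hyu : (y : G) ^ u = 1 := by
      have h1 : y ^ u = 1 := by rw [← hy]; exact pow_orderOf_eq_one y
      have h2 := congrArg Subtype.val h1
      simpa using h2
    have h3 : (y : G) ∈ sigmaCore L :=
      Helper68.bg123_mem_sigmaCore hG hU hL huL y.2.2 hyu
    have h4 : (y : G) ∈ sigmaCore L ⊓ H := ⟨h3, y.2.1⟩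
    rw [h17H, mem_bot] at h4
    have h5 : y = 1 := Subtype.ext (by simpa using h4)
    rw [h5, orderOf_one] at hy
    exact hu.one_lt.ne hy
  obtain ⟨Es, hEs, hHLE⟩ := Helper20.bg13_exists_compl_ge hG hU hL inf_le_right hcop
  have h18 := Cfsg.Agent.S1418.result hG L hL Es hEs q hq2 AH
    ⟨(le_inf hAHH hAHL).trans hHLE, hAH, hAHc⟩
  have hS₀N : S₀ ≤ normalizer (AH : Set G) := (le_inf hS₀H hS₀L).trans (hHLE.trans h18.1.1)
  -- `q ∉ β(H)`
  have hqβ : q ∉ beta H := by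
    intro hb
    obtain ⟨g, hg⟩ := Helper4.bg13_conj_of_sigma_alpha hG hU hM hH hqM hb.1
    have h1 := Helper41.bg13_sigma_conj n.hpσ g
    rw [hg] at h1
    exact n.hp.2.1 h1
  have hcompl : HasNormalPComplement q ↥⁅H, H⁆ :=
    ((Cfsg.Agent.S1414.result hG H hH).2.2.2.2 q hqp hqσ.2.1 hqβ).1
  have hpq : p ≠ q := fun e => n.hp.2.1 (e ▸ hqM)
  obtain ⟨k, hk⟩ := hS₀.2.1.exists_card_eq
  have hcop2 : (p ^ k).Coprime q := Nat.Coprime.pow_left k ((Nat.coprime_primes hpp hqp).2 hpq)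
  -- `S₀` centralizes `A_H`
  have hcent : ∀ s ∈ S₀, ∀ a ∈ AH, s * a = a * s := by
    intro s hs a ha
    apply Helper68.bg123_comm_of_eq_one
    have hsN := hS₀N hs
    rw [mem_normalizer_iff] at hsN
    have hcA : s * a * s⁻¹ * a⁻¹ ∈ AH := AH.mul_mem ((hsN a).mp ha) (AH.inv_mem ha)
    have hcq : (s * a * s⁻¹ * a⁻¹) ^ q = 1 := hAH.2 _ hcA
    have hsH' : s ∈ ⁅H, H⁆ := Helper24.bg1217_sigmaCore_le_comm hG hU hH
      (bg12_le_sigmaCore hG hU hH hpp n.hpσ hS₀H hS₀.2.1 hs)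
    have haH' : a ∈ ⁅H, H⁆ := Helper24.bg1217_sigmaCore_le_comm hG hU hH
      (bg12_le_sigmaCore hG hU hH hqp hqσ hAHH hAHq ha)
    have hsk : s ^ p ^ k = 1 := by
      have h1 : (⟨s, hs⟩ : S₀) ^ Nat.card S₀ = 1 := pow_card_eq_one'
      rw [hk] at h1
      have h2 := congrArg Subtype.val h1
      simpa using h2
    have hb : (⟨s, hsH'⟩ : ↥⁅H, H⁆) ^ p ^ k = 1 := Subtype.ext (by simpa using hsk)
    have hnd := Helper4.bg127_comm_order hqp hcop2 hcompl (b := ⟨s, hsH'⟩) (c := ⟨a, haH'⟩) hb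
    have hord : orderOf (s * a * s⁻¹ * a⁻¹) ∣ q := orderOf_dvd_of_pow_eq_one hcq
    have hnd' : ¬ q ∣ orderOf (s * a * s⁻¹ * a⁻¹) := by
      intro hd
      apply hnd
      rw [← Subgroup.orderOf_coe]
      simpa using hd
    rcases (Nat.dvd_prime hqp).mp hord with h1 | h1
    · exact orderOf_eq_one_iff.mp h1
    · exact absurd (h1 ▸ dvd_rfl) hnd'
  -- conjugate by `l` and apply LEMMA K
  obtain ⟨S₁, hS₁def⟩ : ∃ S₁ : Subgroup G, S₁ = MulAut.conj l • S₀ := ⟨_, rfl⟩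
  have hS₁ : IsSylowOf p S₁ ⊤ := hS₁def ▸ bg10_isSylowOf_conj hS₀ (mem_top l)
  obtain ⟨S₁', hS₁'⟩ := hS₁.exists_sylow_top
  have hAM1 : AM ≠ ⊥ := by
    intro h
    rw [h, Subgroup.card_bot] at hAMc
    have : 1 < q ^ 2 := Nat.one_lt_pow (by norm_num) hqp.one_lt
    omega
  have hAMσ : AM ≤ sigmaCore M := bg12_le_sigmaCore hG hU hM hqp hqM hAMM hAMq
  have hNAM : normalizer (AM : Set G) ≤ M :=
    Helper49.bg1216_normalizer_le hG hU hC2 hM hqM hAMM hAM hAMc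
  have hYS : ∀ y ∈ AM, ∀ s ∈ (S₁' : Subgroup G), y * s = s * y := by
    intro y hy s hs
    rw [hS₁', hS₁def, mem_conj_smul] at hs
    rw [hAMdef, mem_conj_smul] at hy
    have h1 := hcent _ hs _ hy
    have e1 : y * s = l * ((l⁻¹ * y * l) * (l⁻¹ * s * l)) * l⁻¹ := by group
    have e2 : s * y = l * ((l⁻¹ * s * l) * (l⁻¹ * y * l)) * l⁻¹ := by group
    rw [e1, e2, h1]
  exact Helper72.bg13_lemmaK hG hM n.hp S₁' hAM1 hAMq hAMσ hYS
    ((centralizer_le_normalizer _).trans hNAM)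

end Cfsg.Agent.Helper22
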