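/-
helper22: piece SH of CALL S1352 (skeleton tools/calls/BG14Skel.lean.txt): `q ∈ σ(H)`, `r ∈ τ₁(H)`:
an `r`-subgroup `S` of `H` with a non-identity element centralizing the `q`-subgroup `Q` of `H`
centralizes `Q` (S1427 for `H`: `Q ≤ H_σ`, and `S` lies in a cyclic Sylow `r`-subgroup of a
complement of `H_σ`).
-/
import Cfsg.Agent.Helper22.BG14Defs
import Cfsg.Agent.Helper22.BG12b
import Cfsg.Agent.Helper20.BG13P4
import Cfsg.Agent.Helper49.OddCyclic
import Cfsg.Agent.S1403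
import Cfsg.Agent.S1427

set_option autoImplicit false

namespace Cfsg.Agent.Helper22

open Cfsg Subgroup Cfsg.Agent.Helper23

universe u

variable {G : Type u} [Group G] [Finite G]

/-- PIECE SH. -/
theorem bg14_case_sigma (hG : IsMinSimpleOddOrder G) {H Q S : Subgroup G} (hH : IsCoatom H)
    {q r : ℕ} [Fact q.Prime] [Fact r.Prime] (hqH : q ∈ sigma H) (hrH : r ∈ tau1 H) (hQH : Q ≤ H)
    (hQq : IsPGroup q Q) (hSH : S ≤ H) (hSr : IsPGroup r S) {z : G} (hzS : z ∈ S) (hz1 : z ≠ 1)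
    (hzQ : z ∈ centralizer (Q : Set G)) : S ≤ centralizer (Q : Set G) := by
  have hU : BGUniq G := fun K hK h1 h2 => Cfsg.Agent.S1403.result hG K hK h1 h2
  have hqp : q.Prime := Fact.out
  have hrp : r.Prime := Fact.out
  have hQσ : Q ≤ sigmaCore H := bg12_le_sigmaCore hG hU hH hqp hqH hQH hQq
  have hrσ : r ∉ sigma H := hrH.2.1
  have hcop : (Nat.card S).Coprime (Nat.card (sigmaCore H)) := by
    obtain ⟨n, hn⟩ := IsPGroup.iff_card.mp hSr
    rw [hn]
    apply Nat.Coprime.pow_left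
    rw [Nat.Prime.coprime_iff_not_dvd hrp]
    intro h
    exact hrσ (mem_of_dvd_card_piCoreOf (sigma H) H hrp h)
  obtain ⟨EH, hEH, hSE⟩ := Helper20.bg13_exists_compl_ge hG hU hH hSH hcop
  obtain ⟨S', hS'⟩ := (hSr.comap_subtype (K := EH)).exists_le_sylow
  have hr2 : r ≠ 2 := by
    rintro rfl
    exact (Nat.not_even_iff_odd.mpr (uq_odd hG H)) (even_iff_two_dvd.mpr hrH.2.2.1)
  have hr1 : PRankLE r 1 ↥H := hrH.2.2.2.2
  have hS'c : IsCyclic ↥(S' : Subgroup ↥EH) :=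
    Helper49.isCyclic_sylow_of_pRankLE_one hr2 (pRankLE_of_le hEH.1 hr1) S'
  have hmem : ∀ s ∈ S, s ∈ ((S' : Subgroup ↥EH).map EH.subtype : Subgroup G) := fun s hs =>
    ⟨⟨s, hSE hs⟩, hS' (mem_subgroupOf.mpr hs), rfl⟩
  have hS'1 : (S' : Subgroup ↥EH) ≠ ⊥ := by
    intro h
    have h1 := hmem z hzS
    rw [h, Subgroup.map_bot, mem_bot] at h1
    exact hz1 h1
  have h27 := Cfsg.Agent.S1427.result hG H hH EH hEH r S' hS'1 hS'c z (hmem z hzS) hz1
  intro s hs
  rw [mem_centralizer_iff]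
  intro y hy
  have hy1 : y ∈ sigmaCore H ⊓ centralizer ({z} : Set G) := by
    refine Subgroup.mem_inf.mpr ⟨hQσ hy, ?_⟩
    rw [mem_centralizer_iff]
    intro w hw
    rw [Set.mem_singleton_iff] at hw
    subst hw
    exact (mem_centralizer_iff.mp hzQ y hy).symm
  rw [h27] at hy1
  exact (mem_centralizer_iff.mp (Subgroup.mem_inf.mp hy1).2 s (hmem s hs)).symm

end Cfsg.Agent.Helper22
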