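/-
helper22: piece TH of CALL S1352 (skeleton tools/calls/BG14Skel.lean.txt): `q ∉ σ(M)` of rank one
in `M`, `q ∉ σ(H)`, `N_G(Q₁) ≤ H`, `H` not conjugate to `M`: the primes of `C_{M_σ}(Q₁)` do not
divide `|H'|`.
-/
import Cfsg.Agent.Helper22.BG14Defs
import Cfsg.Agent.Helper24.BG14B1
import Cfsg.Agent.Helper50.BG14CJ
import Cfsg.Agent.Helper24.BG14CX
import Cfsg.Agent.Helper22.BG12a
import Cfsg.Agent.Helper22.BG12b
import Cfsg.Agent.Helper22.BG10e
import Cfsg.Agent.Helper49.BG1216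
import Cfsg.Agent.Helper49.BG1215
import Cfsg.Agent.Helper72.BG12Cor
import Cfsg.Agent.Helper72.BG13E
import Cfsg.Agent.Helper20.BG13P4
import Cfsg.Agent.Helper4.BG127P2
import Cfsg.Agent.S1403
import Cfsg.Agent.S1417
import Cfsg.Agent.S1418

set_option autoImplicit false

namespace Cfsg.Agent.Helper22

open Cfsg Subgroup Cfsg.Agent.Helper23 Cfsg.Agent.Helper35
open scoped Pointwise commutatorElement

universe u

variable {G : Type u} [Group G] [Finite G]

omit [Finite G] in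
/-- An elementary abelian subgroup of order `q²` of `M` excludes `q`-rank one. -/
theorem bg14_not_rank_one {M A : Subgroup G} {q : ℕ} (hq : q.Prime) (hAM : A ≤ M)
    (hA : IsElementaryAbelian q A) (hAc : Nat.card A = q ^ 2) : ¬ PRankLE q 1 ↥M := by
  intro h
  have := hA.1
  have h1 := h (A.subgroupOf M) inferInstance
    (fun a ha => Subtype.ext (by simpa using hA.2 a ha))
  rw [Helper35.card_subgroupOf_of_le hAM, hAc] at h1
  have := hq.one_lt
  nlinarith

/-- PIECE TH. -/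
theorem bg14_case_tau2 (hG : IsMinSimpleOddOrder G) (hσp : BGSigmaPart G) {M H Q₁ : Subgroup G}
    (hM : IsCoatom M) (hH : IsCoatom H) (hnc : ∀ g : G, H ≠ M.map (MulAut.conj g).toMonoidHom)
    {q : ℕ} [Fact q.Prime] (hqσM : q ∉ sigma M) (hq1 : PRankLE q 1 ↥M) (hqσH : q ∉ sigma H)
    (hQ₁ : Nat.card Q₁ = q) (hQ₁M : Q₁ ≤ M) (hNH : normalizer (Q₁ : Set G) ≤ H) :
    ∀ u : ℕ, u.Prime → u ∣ Nat.card ↥(sigmaCore M ⊓ centralizer (Q₁ : Set G)) →
      ¬ u ∣ Nat.card ↥⁅H, H⁆ := by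
  have hU : BGUniq G := fun K hK h1 h2 => Cfsg.Agent.S1403.result hG K hK h1 h2
  have hqp : q.Prime := Fact.out
  have hsimple := hG.2.1
  obtain ⟨⟨hq2H, hq1H⟩, -, -⟩ := bg10_nonsigma_normalizer hG hU hH hqσH hQ₁ hNH
  have hqτ : q ∈ tau2 H := ⟨hqp, hqσH, hq2H, hq1H⟩
  obtain ⟨A₁, hA₁H, hA₁, hA₁c⟩ := Helper72.b12c_exists_elemAb hqτ
  have hnil : Group.IsNilpotent (sigmaCore H) :=
    (Cfsg.Agent.S1417.result hG H hH q hqτ A₁ ⟨hA₁H, hA₁, hA₁c⟩).1
  have hQ₁q : IsPGroup q Q₁ := IsPGroup.of_card (n := 1) (by rw [hQ₁, pow_one])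
  have hQ₁H : Q₁ ≤ H := le_normalizer.trans hNH
  have hQ₁1 : Q₁ ≠ ⊥ := by
    intro h
    rw [h, Subgroup.card_bot] at hQ₁
    exact hqp.one_lt.ne hQ₁
  intro u hu hud hudH
  have := Fact.mk hu
  obtain ⟨⟨x, hxD⟩, hxo⟩ := exists_prime_orderOf_dvd_card' u hud
  have hxo' : orderOf x = u := by rw [← hxo]; exact (Subgroup.orderOf_mk x hxD).symm
  have hxσ : x ∈ sigmaCore M := hxD.1
  have hxC : x ∈ centralizer (Q₁ : Set G) := hxD.2
  have hxu : x ^ u = 1 := by rw [← hxo']; exact pow_orderOf_eq_one x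
  have hx1 : x ≠ 1 := by
    intro h
    rw [h, orderOf_one] at hxo'
    exact hu.one_lt.ne hxo'
  have huσM : u ∈ sigma M :=
    mem_of_dvd_card_piCoreOf (sigma M) M hu
      (hud.trans (Subgroup.card_dvd_of_le (inf_le_left : sigmaCore M ⊓ centralizer (Q₁ : Set G) ≤ _)))
  have huq : u ≠ q := by
    rintro rfl
    exact hqσM huσM
  -- `u ∉ σ(H)`
  have huσH : u ∉ sigma H := by
    intro h
    have hall := (bg10_sigma_hall hG hU hH).1
    have h1 : ¬ u ∣ (sigmaCore H).relIndex H := hall.2.2 u hu h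
    have h2 : Nat.card (sigmaCore H) * (sigmaCore H).relIndex H = Nat.card H := by
      have h := Subgroup.relIndex_mul_relIndex ⊥ (sigmaCore H) H bot_le hall.1
      rwa [Subgroup.relIndex_bot_left, Subgroup.relIndex_bot_left] at h
    have h3 : u ∣ Nat.card (sigmaCore H) := by
      have h4 : u ∣ Nat.card (sigmaCore H) * (sigmaCore H).relIndex H := by rw [h2]; exact h.2.1
      exact (hu.dvd_mul.mp h4).resolve_right h1
    exact Helper49.bg1216_sigma_disjoint hG hU hM hH hnc hnil hu h3 huσM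
  -- the subgroup `X = ⟨x⟩`
  obtain ⟨X, hXdef⟩ : ∃ X : Subgroup G, X = zpowers x := ⟨_, rfl⟩
  have hXc : Nat.card X = u := by rw [hXdef, Nat.card_zpowers, hxo']
  have hXu : IsPGroup u X := IsPGroup.of_card (n := 1) (by rw [hXc, pow_one])
  have hX1 : X ≠ ⊥ := by
    intro h
    rw [h, Subgroup.card_bot] at hXc
    exact hu.one_lt.ne hXc
  have hxX : x ∈ X := by rw [hXdef]; exact mem_zpowers x
  have hXM : X ≤ M := by
    rw [hXdef, zpowers_le]
    exact (piCoreOf_le (sigma M) M) hxσ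
  have hxH : x ∈ H := hNH (Subgroup.centralizer_le_normalizer _ hxC)
  have hXH : X ≤ H := by
    rw [hXdef, zpowers_le]; exact hxH
  have hXQ : ∀ t ∈ X, ∀ y ∈ Q₁, t * y = y * t := by
    intro t ht y hy
    rw [hXdef] at ht
    obtain ⟨k, rfl⟩ := mem_zpowers_iff.mp ht
    have h1 : Commute y x := (mem_centralizer_iff.mp hxC y hy)
    exact (h1.zpow_right k).eq.symm
  have hcop : (Nat.card ↥(X ⊔ Q₁)).Coprime (Nat.card (sigmaCore H)) := by
    by_contra h
    obtain ⟨p, hp, h1, h2⟩ := Nat.Prime.not_coprime_iff_dvd.mp h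
    have h3 : p ∣ u * q := by
      have := Helper72.bg13e_card_sup_dvd hXQ
      rw [hXc, hQ₁] at this
      exact h1.trans this
    have hpσ : p ∈ sigma H := mem_of_dvd_card_piCoreOf (sigma H) H hp h2
    rcases hp.dvd_mul.mp h3 with h4 | h4
    · exact huσH ((Nat.prime_dvd_prime_iff_eq hp hu).mp h4 ▸ hpσ)
    · exact hqσH ((Nat.prime_dvd_prime_iff_eq hp hqp).mp h4 ▸ hpσ)
  obtain ⟨EH, hEH, hXQE⟩ := Helper20.bg13_exists_compl_ge hG hU hH (sup_le hXH hQ₁H) hcop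
  obtain ⟨A, hAE, hA, hAc⟩ := Helper4.bg127_exists_in_compl hEH hqτ
  have h18 := Cfsg.Agent.S1418.result hG H hH EH hEH q hqτ A ⟨hAE, hA, hAc⟩
  have hQ₁A : Q₁ ≤ A := h18.1.2 Q₁ (le_sup_right.trans hXQE) hQ₁
  have hcent := Helper24.bg14_cent_elemAb hG hH hEH hqτ hAE hA hAc huq hudH (hXQE (mem_sup_left hxX)) hxu
  -- `A ≤ N(X)`
  have hAN : A ≤ normalizer (X : Set G) := by
    intro a ha
    apply Subgroup.centralizer_le_normalizer
    rw [mem_centralizer_iff]
    intro t ht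
    rw [SetLike.mem_coe, hXdef] at ht
    obtain ⟨k, rfl⟩ := mem_zpowers_iff.mp ht
    have h1 : Commute a x := hcent a ha
    exact (h1.zpow_right k).eq.symm
  have hXtop : X ≠ ⊤ := fun h => hM.1 (top_le_iff.mp (h ▸ hXM))
  obtain ⟨L, hL, hNL⟩ := uq_exists_coatom_ge (normalizer_ne_top_of_simple hX1 hXtop)
  have hAL : A ≤ L := hAN.trans hNL
  by_cases hLM : L = M
  · exact bg14_not_rank_one hqp (hLM ▸ hAL) hA hAc hq1
  · have hncL := Helper49.bg1215_not_conj hG hU hM huσM hXu hX1 hXM hLM hNL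
    have huσL : u ∉ sigma L := by
      intro h
      obtain ⟨g, hg⟩ := hσp M L hM hL ⟨u, huσM, h⟩
      exact hncL g hg
    have hc := Helper24.bg14_compl_of_norm hG hM hL hLM huσM huσL hXM hXu hX1 hNL
    have hQ₁L : Q₁ ≤ L := hQ₁A.trans hAL
    have hqσL : q ∉ sigma L := by
      intro h
      have h1 : Q₁ ≤ sigmaCore L := bg12_le_sigmaCore hG hU hL hqp h hQ₁L hQ₁q
      apply hQ₁1
      rw [eq_bot_iff, ← hc.2.2.1]
      exact le_inf (le_inf hQ₁M hQ₁L) h1
    have hcopA : (Nat.card A).Coprime (Nat.card (sigmaCore L)) := by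
      rw [hAc]
      apply Nat.Coprime.pow_left
      rw [Nat.Prime.coprime_iff_not_dvd hqp]
      intro h
      exact hqσL (mem_of_dvd_card_piCoreOf (sigma L) L hqp h)
    obtain ⟨l, -, hl⟩ := Helper50.bg14_conj_into hG hL hc hAL hcopA
    have hA' : MulAut.conj l⁻¹ • A ≤ M := by
      intro y hy
      rw [mem_conj_smul, inv_inv] at hy
      have h1 := (hl _ hy).1
      have e : l⁻¹ * (l * y * l⁻¹) * l = y := by group
      rwa [e] at h1
    exact bg14_not_rank_one hqp hA' (Helper72.b12c_conj_elemAb hA l⁻¹)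
      (by rw [card_conj_smul, hAc]) hq1

end Cfsg.Agent.Helper22
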