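/-
helper22: piece ZB2 of CALL S1352 (skeleton tools/calls/BG14Skel.lean.txt): an element `e` of
order `r` of a complement `E` of `M_σ`, fixed-point-free on `M_σ` and not centralizing the normal
`q`-subgroup `Q` of `E`: some non-identity element of `Q` centralizes `M_σ`.
(`Helper55.bg_fpf_comm_centralizes` on `F(M_σ)`, then piece ZB1.)
-/
import Cfsg.Agent.Helper50.BG14ZB1
import Cfsg.Agent.Helper22.BG12a
import Cfsg.Agent.Helper22.Fitting
import Cfsg.Agent.Helper55.BGFpf
import Cfsg.Agent.S1403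

set_option autoImplicit false

namespace Cfsg.Agent.Helper22

open Cfsg Subgroup Cfsg.Agent.Helper23

universe u

variable {G : Type u} [Group G] [Finite G]

/-- PIECE ZB2. -/
theorem bg14_exists_central (hG : IsMinSimpleOddOrder G) {M E Q : Subgroup G} (hM : IsCoatom M)
    (hE : IsComplIn E (sigmaCore M) M) {q r : ℕ} [Fact q.Prime] [Fact r.Prime] (hrq : r ≠ q)
    (hQE : Q ≤ E) (hQq : IsPGroup q Q) (hEQ : E ≤ normalizer (Q : Set G)) {e : G} (heE : e ∈ E)
    (her : e ^ r = 1) (heQ : e ∉ centralizer (Q : Set G))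
    (hfpf : ∀ y ∈ sigmaCore M, e * y = y * e → y = 1) :
    ∃ c ∈ Q, c ≠ 1 ∧ ∀ y ∈ sigmaCore M, c * y = y * c := by
  have hU : BGUniq G := fun K hK h1 h2 => Cfsg.Agent.S1403.result hG K hK h1 h2
  have hqp : q.Prime := Fact.out
  have hrp : r.Prime := Fact.out
  have hEM : E ≤ M := hE.1
  have hσM : sigmaCore M ≤ M := piCoreOf_le _ _
  have hSn : M ≤ normalizer (sigmaCore M : Set G) := le_normalizer_piCoreOf (sigma M) M
  have hσtop : sigmaCore M ≠ ⊤ := fun h => hM.1 (top_le_iff.mp (h ▸ hσM))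
  have hsol : Group.IsSolvable ↥(sigmaCore M) := uq_isSolvable hG hσtop
  -- `e ≠ 1`, `Q ≠ ⊥`
  have he1 : e ≠ 1 := by
    rintro rfl
    exact heQ (one_mem _)
  have heo : orderOf e = r := orderOf_eq_prime her he1
  have hQ1 : Q ≠ ⊥ := by
    rintro rfl
    apply heQ
    rw [mem_centralizer_iff]
    intro h hh
    rw [SetLike.mem_coe, mem_bot] at hh
    rw [hh]; simp
  have hrE : r ∣ Nat.card E := by
    have h := orderOf_dvd_natCard (⟨e, heE⟩ : E)
    rwa [Subgroup.orderOf_mk, heo] at h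
  obtain ⟨n, hn⟩ := IsPGroup.iff_card.mp hQq
  have hn0 : n ≠ 0 := by
    rintro rfl
    rw [pow_zero] at hn
    exact hQ1 (Subgroup.card_eq_one.mp hn)
  have hqE : q ∣ Nat.card E := by
    have h1 : q ∣ Nat.card Q := by rw [hn]; exact dvd_pow_self q hn0
    exact h1.trans (Subgroup.card_dvd_of_le hQE)
  have hrσ : ¬ r ∣ Nat.card (sigmaCore M) := fun h =>
    bg12_not_sigma_of_dvd hG hU hM hE hrp hrE (mem_of_dvd_card_piCoreOf (sigma M) M hrp h)
  have hqσ : ¬ q ∣ Nat.card (sigmaCore M) := fun h =>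
    bg12_not_sigma_of_dvd hG hU hM hE hqp hqE (mem_of_dvd_card_piCoreOf (sigma M) M hqp h)
  -- the Fitting subgroup of `M_σ`
  obtain ⟨F, hF⟩ : ∃ F : Subgroup G, F = fittingOf (sigmaCore M) := ⟨_, rfl⟩
  have hFσ : F ≤ sigmaCore M := by
    rw [hF]; exact Subgroup.map_subtype_le _
  have hFn : normalizer (sigmaCore M : Set G) ≤ normalizer (F : Set G) := by
    rw [hF]
    have := fittingSubgroup_characteristic ↥(sigmaCore M)
    exact normalizer_le_normalizer_map_subtype (sigmaCore M) (fittingSubgroup ↥(sigmaCore M))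
  have hFnil : Group.IsNilpotent ↥F := by
    have h1 := fittingSubgroup_isNilpotent ↥(sigmaCore M)
    have h2 := Group.nilpotent_of_mulEquiv (Subgroup.equivMapOfInjective
      (fittingSubgroup ↥(sigmaCore M)) (sigmaCore M).subtype (sigmaCore M).subtype_injective)
    rw [hF]
    exact h2
  have hFd : Nat.card F ∣ Nat.card (sigmaCore M) := Subgroup.card_dvd_of_le hFσ
  have hrF : ¬ r ∣ Nat.card F := fun h => hrσ (h.trans hFd)
  have hrQ : ¬ r ∣ Nat.card Q := by
    rw [hn]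
    intro h
    exact hrq ((Nat.prime_dvd_prime_iff_eq hrp hqp).mp (hrp.dvd_of_dvd_pow h))
  have hcopσ : (Nat.card (sigmaCore M)).Coprime (Nat.card Q) := by
    rw [hn]
    apply Nat.Coprime.pow_right
    rw [Nat.coprime_comm, Nat.Prime.coprime_iff_not_dvd hqp]
    exact hqσ
  have hcop : (Nat.card F).Coprime (Nat.card Q) := Nat.Coprime.coprime_dvd_left hFd hcopσ
  have hkey := Helper55.bg_fpf_comm_centralizes hG.1 hrp F Q e hFnil
    ((hQE.trans hEM).trans (hSn.trans hFn)) (hFn (hSn (hEM heE))) (hEQ heE) her hrF hrQ hcop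
    (fun a ha hea => hfpf a (hFσ ha) hea)
  -- an element of `Q` not commuting with `e`
  have hex : ∃ y ∈ Q, y * e ≠ e * y := by
    by_contra hcon
    push Not at hcon
    exact heQ (mem_centralizer_iff.mpr (fun y hy => hcon y hy))
  obtain ⟨y, hy, hye⟩ := hex
  have hcQ : e * y * e⁻¹ * y⁻¹ ∈ Q :=
    Q.mul_mem ((mem_normalizer_iff.mp (hEQ heE) y).mp hy) (Q.inv_mem hy)
  refine ⟨e * y * e⁻¹ * y⁻¹, hcQ, ?_, ?_⟩
  · intro h
    apply hye
    calc y * e = (e * y * e⁻¹ * y⁻¹)⁻¹ * (e * y) := by group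
      _ = e * y := by rw [h, inv_one, one_mul]
  · apply Helper50.bg14_cent_of_cent_fitting hsol (hSn (hEM (hQE hcQ)))
    · intro a ha
      rw [← hF] at ha
      exact hkey y hy a ha
    · have h1 : orderOf (e * y * e⁻¹ * y⁻¹) ∣ Nat.card Q := by
        have h := orderOf_dvd_natCard (⟨e * y * e⁻¹ * y⁻¹, hcQ⟩ : Q)
        rwa [Subgroup.orderOf_mk] at h
      exact (Nat.Coprime.coprime_dvd_right h1 hcopσ).symm

end Cfsg.Agent.Helper22
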