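/-
helper22: B&G Lemma 14.2(a),(b) for a cyclic Hall kappa(M)-subgroup (row S1352): assembly of the
pieces of CALL S1352 (skeleton tools/calls/BG14Skel.lean.txt).
-/
import Cfsg.Agent.Helper61.BG14NC
import Cfsg.Agent.Helper61.BG14E1
import Cfsg.Agent.Helper50.BG14E2
import Cfsg.Agent.Helper47.BG14RK
import Cfsg.Agent.Helper50.BG14SET1
import Cfsg.Agent.Helper47.BG14SET2
import Cfsg.Agent.Helper98.BG14SET3
import Cfsg.Agent.Helper47.BG14SET4
import Cfsg.Agent.Helper47.BG14H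
import Cfsg.Agent.Helper98.BG14HM
import Cfsg.Agent.Helper50.BG14T2
import Cfsg.Agent.Helper22.BG14ZB2
import Cfsg.Agent.Helper98.BG14ZC
import Cfsg.Agent.Helper22.BG14SH
import Cfsg.Agent.Helper22.BG14TH
import Cfsg.Agent.Helper22.BG14Defs
import Cfsg.Agent.Helper22.BG12a
import Cfsg.Agent.Helper22.BG10e
import Cfsg.Agent.Helper22.Transitivity
import Cfsg.Agent.Helper49.BG14U
import Cfsg.Agent.Helper24.BG13A1
import Cfsg.Agent.Helper72.BG12Cor2
import Cfsg.Agent.S1403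
import Cfsg.Agent.Helper23.FittingHall

set_option autoImplicit false

namespace Cfsg.Agent.Helper22

open Cfsg Subgroup Cfsg.Agent.Helper23 Cfsg.Agent.Helper35
open scoped Pointwise commutatorElement

universe u

variable {G : Type u} [Group G] [Finite G]

omit [Finite G] in
/-- A nontrivial `r`-group has an element of order `r`. -/
theorem bg14_exists_orderOf {r : ℕ} [Fact r.Prime] {T : Subgroup G} [Finite T] (hT : IsPGroup r T)
    (hT1 : T ≠ ⊥) : ∃ t ∈ T, orderOf t = r := by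
  have hr : r.Prime := Fact.out
  obtain ⟨n, hn⟩ := IsPGroup.iff_card.mp hT
  have hn0 : n ≠ 0 := by
    rintro rfl
    rw [pow_zero] at hn
    exact hT1 (Subgroup.card_eq_one.mp hn)
  have hd : r ∣ Nat.card T := by
    rw [hn]; exact dvd_pow_self r hn0
  obtain ⟨x, hx⟩ := exists_prime_orderOf_dvd_card' r hd
  exact ⟨x, x.2, by rw [← hx]; exact (Subgroup.orderOf_coe x)⟩

omit [Finite G] in
/-- Subgroups with no common prime divisor of their orders meet trivially. -/
theorem bg14_inf_eq_bot {A B : Subgroup G} [Finite A] [Finite B]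
    (h : ∀ u : ℕ, u.Prime → u ∣ Nat.card A → ¬ u ∣ Nat.card B) : A ⊓ B = ⊥ := by
  rw [eq_bot_iff]
  rintro x ⟨hxA, hxB⟩
  rw [mem_bot]
  by_contra hx1
  have hn1 : orderOf x ≠ 1 := fun h => hx1 (orderOf_eq_one_iff.mp h)
  have hq := Nat.minFac_prime hn1
  have hqd := Nat.minFac_dvd (orderOf x)
  have h1 : (orderOf x).minFac ∣ Nat.card A := hqd.trans (by
    have h := orderOf_dvd_natCard (⟨x, hxA⟩ : A)
    rwa [Subgroup.orderOf_mk] at h)
  have h2 : (orderOf x).minFac ∣ Nat.card B := hqd.trans (by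
    have h := orderOf_dvd_natCard (⟨x, hxB⟩ : B)
    rwa [Subgroup.orderOf_mk] at h)
  exact h _ hq h1 h2

omit [Finite G] in
theorem bg14_mem_normalizer_inf {A B : Subgroup G} {z : G} (h1 : z ∈ normalizer (A : Set G))
    (h2 : z ∈ normalizer (B : Set G)) : z ∈ normalizer ((A ⊓ B : Subgroup G) : Set G) := by
  rw [mem_normalizer_iff]
  intro h
  rw [Subgroup.mem_inf, Subgroup.mem_inf, ← mem_normalizer_iff.mp h1 h, ← mem_normalizer_iff.mp h2 h]

/-- **CLAIM**: a prime of `κ(M)` is not in `τ₃(M)` when `M` has a cyclic Hall `κ(M)`-subgroup. -/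
theorem bg14_kappa_not_tau3 (hG : IsMinSimpleOddOrder G) (hσp : BGSigmaPart G) {M K : Subgroup G}
    (hM : IsCoatom M) (hKc : IsCyclic K) (hK : IsPiHallOf (kappa M) K M) {q : ℕ}
    (hq : q ∈ kappa M) (hq3 : q ∈ tau3 M) : False := by
  have hU : BGUniq G := fun K hK h1 h2 => Cfsg.Agent.S1403.result hG K hK h1 h2
  have hqp : q.Prime := hq.1
  have := Fact.mk hqp
  have hqσ : q ∉ sigma M := hq3.2.1
  have hq1 : PRankLE q 1 ↥M := hq3.2.2.2
  obtain ⟨E, hE, hKE⟩ := Helper50.bg14_exists_compl hG hM hK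
  have hEM : E ≤ M := hE.1
  obtain ⟨Q, hQK, hQq, hQ1, hQc, hQiM⟩ := Helper47.bg14_sylow_of_hall hKc hK hq
  have hQE : Q ≤ E := hQK.trans hKE
  have hQi : ¬ q ∣ Q.relIndex E := by
    intro h
    apply hQiM
    rw [← Subgroup.relIndex_mul_relIndex Q E M hQE hEM]
    exact Dvd.dvd.mul_right h _
  obtain ⟨hEQ, hQcomm, -⟩ := Helper98.bg14_normal_in_compl hG hM hE hq3 hQE hQq
  obtain ⟨Q₁, hQ₁Q, hQ₁c, hD⟩ := Helper47.bg14_kappa_cent hq (hQE.trans hEM) hQq hQiM
  have hnc := Helper61.bg14_not_central hQE hQq hQi hQ1 hQcomm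
  obtain ⟨r, hr, hrq, S, hS, hSQ⟩ := Helper50.bg14_exists_sylow_not_le hQE hQq hQi hQc hEQ hnc
  have := Fact.mk hr
  have hrκ : r ∉ kappa M := Helper47.bg14_not_kappa hKc hK hKE hEM hQK hEQ hS hSQ
  obtain ⟨H, hH, hNH, hncH⟩ := Helper98.bg14_exists_coatom hG hM hqσ hq1 hQ₁c
  have hHM : H ≠ M := by
    intro h
    apply hncH 1
    rw [h]
    ext x
    simp
  have hEN : E ≤ normalizer (Q₁ : Set G) :=
    hEQ.trans (Helper72.b12c_normalizer_cyclic_le hQc hQ₁Q)
  have hEH : E ≤ H := hEN.trans hNH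
  have hDH : sigmaCore M ⊓ centralizer (Q₁ : Set G) ≤ H :=
    inf_le_right.trans ((Subgroup.centralizer_le_normalizer _).trans hNH)
  have hr2 : r ∉ tau2 M := Helper50.bg14_not_tau2 hG hM hE hH hHM hEH (fun h => hD (by
    rw [eq_bot_iff, ← h]; exact le_inf inf_le_left hDH))
  have hS1 : S ≠ ⊥ := by
    rintro rfl
    exact hSQ bot_le
  obtain ⟨s₀, hs₀S, hs₀o⟩ := bg14_exists_orderOf hS.2.1 hS1
  have hrE : r ∣ Nat.card E := by
    have h := orderOf_dvd_natCard (⟨s₀, hS.1 hs₀S⟩ : E)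
    rwa [Subgroup.orderOf_mk, hs₀o] at h
  have hrσ : r ∉ sigma M := bg12_not_sigma_of_dvd hG hU hM hE hr hrE
  have hr2' : PRankLE r 2 ↥M :=
    bg10_pRank_of_not_alpha M r hr (fun h => hrσ (bg10_alpha_sub_sigma hG hU hM h))
  have hr1 : PRankLE r 1 ↥M := by
    by_contra h
    exact hr2 ⟨hr, hrσ, hr2', h⟩
  have hrM : r ∣ Nat.card M := hrE.trans (Subgroup.card_dvd_of_le hEM)
  have hr13 : r ∈ tau1 M ∪ tau3 M := by
    by_cases h : r ∣ Nat.card ↥⁅M, M⁆
    · exact Or.inr ⟨hr, hrσ, h, hr1⟩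
    · exact Or.inl ⟨hr, hrσ, hrM, h, hr1⟩
  have hfpf : ∀ e ∈ M, orderOf e = r → ∀ y ∈ sigmaCore M, e * y = y * e → y = 1 :=
    fun e heM heo y hy hye => Helper49.bg14u_regular_of_not_kappa hG hr13 hrκ heM heo hy hye
  by_cases hZ : S ⊓ centralizer (Q : Set G) = ⊥
  · have heQ : s₀ ∉ centralizer (Q : Set G) := by
      intro h
      have h1 : s₀ ∈ S ⊓ centralizer (Q : Set G) := ⟨hs₀S, h⟩
      rw [hZ, mem_bot] at h1
      rw [h1, orderOf_one] at hs₀o
      exact hr.one_lt.ne hs₀o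
    obtain ⟨c, hcQ, hc1, hc⟩ := bg14_exists_central hG hM hE hrq hQE hQq hEQ (hS.1 hs₀S)
      (by rw [← hs₀o]; exact pow_orderOf_eq_one s₀) heQ
      (fun y hy hye => hfpf s₀ (hEM (hS.1 hs₀S)) hs₀o y hy hye)
    exact Helper98.bg14_central_contra hG hM hE hqσ hq1 hQE hQq hQc hEQ hcQ hc1 hc
  · have hZr : IsPGroup r ↥(S ⊓ centralizer (Q : Set G)) := hS.2.1.to_le inf_le_left
    obtain ⟨z, hzZ, hzo⟩ := bg14_exists_orderOf hZr hZ
    have hzS : z ∈ S := hzZ.1
    have hzQ : z ∈ centralizer (Q : Set G) := hzZ.2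
    have hzH : z ∈ H := hEH (hS.1 hzS)
    have hzM : z ∈ M := hEM (hS.1 hzS)
    have hz1 : z ≠ 1 := by
      intro h
      rw [h, orderOf_one] at hzo
      exact hr.one_lt.ne hzo
    have hzr : z ^ r = 1 := by rw [← hzo]; exact pow_orderOf_eq_one z
    have hzQ₁ : z ∈ centralizer (Q₁ : Set G) :=
      Subgroup.centralizer_le (show (Q₁ : Set G) ⊆ Q from hQ₁Q) hzQ
    have hzD : z ∈ normalizer ((sigmaCore M ⊓ centralizer (Q₁ : Set G) : Subgroup G) : Set G) :=
      bg14_mem_normalizer_inf (le_normalizer_piCoreOf (sigma M) M hzM) (le_normalizer hzQ₁)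
    have hrH : r ∈ tau1 H := by
      by_contra hrH
      have hc := Helper24.bg13_cent_of_not_tau1 hG hM hH hncH hrσ hrH hzH hzr inf_le_left hDH hzD
      apply hD
      rw [eq_bot_iff]
      intro d hd
      exact hfpf z hzM hzo d hd.1 (hc d hd)
    by_cases hqH : q ∈ sigma H
    · exact hSQ (bg14_case_sigma hG hH hqH hrH (hQE.trans hEH) hQq (hS.1.trans hEH) hS.2.1 hzS
        hz1 hzQ)
    · have hcop := bg14_case_tau2 hG hσp hM hH hncH hqσ hq1 hqH hQ₁c
        (hQ₁Q.trans (hQE.trans hEM)) hNH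
      have hbot := bg14_inf_eq_bot hcop
      apply hD
      rw [eq_bot_iff]
      intro d hd
      have h1 : z * d * z⁻¹ * d⁻¹ ∈ (sigmaCore M ⊓ centralizer (Q₁ : Set G)) ⊓ ⁅H, H⁆ := by
        refine ⟨Subgroup.mul_mem _ ((mem_normalizer_iff.mp hzD d).mp hd) (Subgroup.inv_mem _ hd), ?_⟩
        have h2 := Subgroup.commutator_mem_commutator hzH (hDH hd)
        rwa [commutatorElement_def] at h2
      rw [hbot, mem_bot] at h1
      have h2 : z * d = d * z := by
        calc z * d = (z * d * z⁻¹ * d⁻¹) * (d * z) := by group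
          _ = d * z := by rw [h1, one_mul]
      exact hfpf z hzM hzo d hd.1 h2

/-- A cyclic Hall `κ(M)`-subgroup has order coprime to `|M'|`. -/
theorem bg14_kappa_coprime (hG : IsMinSimpleOddOrder G) (hσp : BGSigmaPart G) {M K : Subgroup G}
    (hM : IsCoatom M) (hKc : IsCyclic K) (hK : IsPiHallOf (kappa M) K M) :
    (Nat.card K).Coprime (Nat.card ↥⁅M, M⁆) := by
  by_contra h
  obtain ⟨q, hq, h1, h2⟩ := Nat.Prime.not_coprime_iff_dvd.mp h
  have hqκ : q ∈ kappa M := hK.2.1 q hq h1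
  exact bg14_kappa_not_tau3 hG hσp hM hKc hK hqκ ⟨hq, hqκ.2.2.1, h2, Helper47.bg14_rank_of_kappa hqκ⟩

/-- **S1352** modulo the σ-partition. -/
theorem bg14_1352 (hG : IsMinSimpleOddOrder G) (hσp : BGSigmaPart G) {M K : Subgroup G}
    (hM : IsCoatom M) (hKc : IsCyclic K) (hK : IsPiHallOf (kappa M) K M) :
    (∃ U : Subgroup G, IsSigmaDecomposition M K U) ∧
      ∀ U : Subgroup G, IsSigmaDecomposition M K U →
        M ≤ normalizer ((U ⊔ sigmaCore M : Subgroup G) : Set G) := by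
  have hKM : K ≤ M := hK.1
  have hσM : sigmaCore M ≤ M := piCoreOf_le _ _
  have hSn : M ≤ normalizer (sigmaCore M : Set G) := le_normalizer_piCoreOf (sigma M) M
  have h1 : (Nat.card K).Coprime (K.relIndex M) := by
    by_contra h
    obtain ⟨q, hq, h1, h2⟩ := Nat.Prime.not_coprime_iff_dvd.mp h
    exact hK.2.2 q hq (hK.2.1 q hq h1) h2
  have h2 := bg14_kappa_coprime hG hσp hM hKc hK
  obtain ⟨W, hWM, hMW, hKW, hprod, hWord⟩ := Helper61.bg14_nc hKM h1 h2
  -- elements of order coprime to `|K|`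
  have hσW : sigmaCore M ≤ W := by
    intro s hs
    apply hWord s (hσM hs)
    by_contra h
    obtain ⟨q, hq, h1, h2⟩ := Nat.Prime.not_coprime_iff_dvd.mp h
    have h3 : q ∣ Nat.card (sigmaCore M) := h1.trans (by
      have h := orderOf_dvd_natCard (⟨s, hs⟩ : sigmaCore M)
      rwa [Subgroup.orderOf_mk] at h)
    exact (hK.2.1 q hq h2).2.2.1 (mem_of_dvd_card_piCoreOf (sigma M) M hq h3)
  have hKσ : K ≤ normalizer (sigmaCore M : Set G) := hKM.trans hSn
  refine ⟨?_, ?_⟩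
  · obtain ⟨E, hE, hKE⟩ := Helper50.bg14_exists_compl hG hM hK
    refine ⟨W ⊓ E, hKc, hK, ⟨inf_le_left.trans hWM, sup_le hKM hσM, ?_, ?_⟩, ?_⟩
    · rw [eq_bot_iff]
      rintro x ⟨⟨hxW, hxE⟩, hxKσ⟩
      obtain ⟨k, hk, s, hs, rfl⟩ := exists_mul_of_mem_sup' hKσ hxKσ
      have hkW : k ∈ W := by
        have h3 : k = k * s * s⁻¹ := by group
        rw [h3]
        exact mul_mem hxW (inv_mem (hσW hs))
      have hk1 : k = 1 := by
        have h3 : k ∈ K ⊓ W := ⟨hk, hkW⟩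
        rwa [hKW, mem_bot] at h3
      rw [hk1, one_mul] at hxE ⊢
      have h3 : s ∈ E ⊓ sigmaCore M := ⟨hxE, hs⟩
      rwa [hE.2.2.1, mem_bot] at h3
    · intro m hm
      obtain ⟨w, hw, k, hk, rfl⟩ := hprod m hm
      obtain ⟨e, he, s, hs, rfl⟩ := hE.2.2.2 w (hWM hw)
      have heW : e ∈ W := by
        have h3 : e = e * s * s⁻¹ := by group
        rw [h3]
        exact mul_mem hw (inv_mem (hσW hs))
      refine ⟨e, ⟨heW, he⟩, s * k, ?_, by group⟩
      exact mul_mem (mem_sup_right hs) (mem_sup_left hk)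
    · intro k hk
      exact bg14_mem_normalizer_inf (hMW (hKM hk)) (le_normalizer (hKE hk))
  · intro U hU
    obtain ⟨hUM, -, hinf, hUprod⟩ := hU.compl
    -- `|U|` is coprime to `|K|`
    have hUcop : (Nat.card U).Coprime (Nat.card K) := by
      have hc1 := Helper23.card_of_isComplIn U _ M hU.compl
      obtain ⟨t, ht⟩ := Subgroup.card_dvd_of_le (le_sup_left : K ≤ K ⊔ sigmaCore M)
      have hc2 : Nat.card K * K.relIndex M = Nat.card M := by
        have h := Subgroup.relIndex_mul_relIndex ⊥ K M bot_le hKM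
        rwa [Subgroup.relIndex_bot_left, Subgroup.relIndex_bot_left] at h
      have hc3 : K.relIndex M = Nat.card U * t := by
        have hpos : 0 < Nat.card K := Nat.card_pos
        apply Nat.eq_of_mul_eq_mul_left hpos
        rw [hc2, hc1, ht]; ring
      have hd : Nat.card U ∣ K.relIndex M := ⟨t, hc3⟩
      exact (Nat.Coprime.coprime_dvd_right hd h1).symm
    have hUW : U ≤ W := by
      intro x hx
      apply hWord x (hUM hx)
      have h3 : orderOf x ∣ Nat.card U := by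
        have h := orderOf_dvd_natCard (⟨x, hx⟩ : U)
        rwa [Subgroup.orderOf_mk] at h
      exact Nat.Coprime.coprime_dvd_left h3 hUcop
    have hEq : U ⊔ sigmaCore M = W := by
      refine le_antisymm (sup_le hUW hσW) ?_
      intro w hw
      obtain ⟨a, ha, b, hb, rfl⟩ := hUprod w (hWM hw)
      obtain ⟨k, hk, s, hs, rfl⟩ := exists_mul_of_mem_sup' hKσ hb
      have hkW : k ∈ W := by
        have h3 : k = a⁻¹ * (a * (k * s)) * s⁻¹ := by group
        rw [h3]
        exact mul_mem (mul_mem (inv_mem (hUW ha)) hw) (inv_mem (hσW hs))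
      have hk1 : k = 1 := by
        have h3 : k ∈ K ⊓ W := ⟨hk, hkW⟩
        rwa [hKW, mem_bot] at h3
      rw [hk1, one_mul]
      exact mul_mem (mem_sup_left ha) (mem_sup_right hs)
    rw [hEq]
    exact hMW

end Cfsg.Agent.Helper22
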