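/-
helper22: definitions for CALL S1365 (B&G Theorem 14.2(d)/(e)-type statement: `M' = U M_σ` and
`C_{M_σ}(K) ≤ M''` for the standard factorisation `M = K U M_σ` with `K ≠ 1`):
LEMMA Z (helper1's `Cfsg.Agent.Helper1.bg14_lemmaZ`) as a hypothesis on `G`.
-/
import Cfsg.Agent.Helper22.BG14Defs

set_option autoImplicit false

namespace Cfsg.Agent.Helper22

open Cfsg Subgroup

universe u

/-- LEMMA Z: a subgroup `P` of order `p ∈ τ₁(M)` of a complement `E` of `M_σ` with
`C_{M_σ}(P) ≠ 1` does not centralize a subgroup `X ≤ E` of order `s ∈ τ₂(M)`. -/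
def BGLemmaZ (G : Type u) [Group G] : Prop :=
  ∀ (M E P X : Subgroup G) (p s : ℕ), IsCoatom M → IsComplIn E (sigmaCore M) M → p ∈ tau1 M →
    P ≤ E → Nat.card P = p → sigmaCore M ⊓ centralizer (P : Set G) ≠ ⊥ → s ∈ tau2 M → X ≤ E →
    Nat.card X = s → X ≤ centralizer (P : Set G) → False

end Cfsg.Agent.Helper22
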