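/-
helper22: S1365 (B&G 14.2: `M' = U M_σ` and `C_{M_σ}(K) ≤ M''` for `K ≠ 1`): pieces T2, SY, KS1 and the assembly.
-/
import Cfsg.Agent.Helper22.BG14dDefs
import Cfsg.Agent.Helper39.BG14dQA
import Cfsg.Agent.Helper39.BG14dNK
import Cfsg.Agent.Helper39.BG14dKS0
import Cfsg.Agent.Helper24.BG14dKP
import Cfsg.Agent.Helper24.BG14dT1
import Cfsg.Agent.Helper24.BG14dTR
import Cfsg.Agent.Helper22.BG14Main
import Cfsg.Agent.Helper49.BG14U
import Cfsg.Agent.Helper24.BG1217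
import Cfsg.Agent.Helper54.BG13Gen
import Cfsg.Agent.Helper61.BG139C8
import Cfsg.Agent.Helper98.BG14SET3
import Cfsg.Agent.S1428

set_option autoImplicit false

namespace Cfsg.Agent.Helper22

open Cfsg Subgroup Cfsg.Agent.Helper22 Cfsg.Agent.Helper23 Cfsg.Agent.Helper35

universe u

variable {G : Type u} [Group G] [Finite G]

/-- PIECE T2: LEMMA Z for an element. -/
theorem bg14d_fpf_tau2 (hZ : BGLemmaZ G) {M E P : Subgroup G} {p r : ℕ}
    (hM : IsCoatom M) (hE : IsComplIn E (sigmaCore M) M) (hp : p ∈ tau1 M) (hPE : P ≤ E)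
    (hP : Nat.card P = p) (hD : sigmaCore M ⊓ centralizer (P : Set G) ≠ ⊥) (hr : r ∈ tau2 M)
    {y : G} (hyE : y ∈ E) (hyo : orderOf y = r) (hyP : y ∈ centralizer (P : Set G)) : False := by
  refine hZ M E P (zpowers y) p r hM hE hp hPE hP hD hr ?_ ?_ ?_
  · rw [zpowers_le]; exact hyE
  · rw [Nat.card_zpowers, hyo]
  · rw [zpowers_le]; exact hyP

/-- PIECE SY: a `P`-invariant `r`-subgroup of `E` (`r ∉ κ(M)`) lies in `E'`. -/
theorem bg14d_sylow_le_comm (hG : IsMinSimpleOddOrder G) (hZ : BGLemmaZ G)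
    {M E P R : Subgroup G} {p r : ℕ} (hM : IsCoatom M) (hE : IsComplIn E (sigmaCore M) M)
    (hp : p ∈ tau1 M) (hpκ : p ∈ kappa M) (hPE : P ≤ E) (hP : Nat.card P = p)
    (hD : sigmaCore M ⊓ centralizer (P : Set G) ≠ ⊥) (hr : r.Prime) (hrκ : r ∉ kappa M)
    (hRE : R ≤ E) (hRr : IsPGroup r R) (hPR : P ≤ normalizer (R : Set G)) : R ≤ ⁅E, E⁆ := by
  have := Fact.mk hr
  by_cases hR1 : R = ⊥
  · rw [hR1]; exact bot_le
  have hd : r ∣ Nat.card E := by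
    obtain ⟨t, htR, hto⟩ := bg14_exists_orderOf hRr hR1
    rw [← hto]
    have h := orderOf_dvd_natCard (⟨t, hRE htR⟩ : E)
    rwa [Subgroup.orderOf_mk] at h
  have hrp : r ≠ p := fun h => hrκ (h ▸ hpκ)
  have hfp : (∀ y ∈ E, orderOf y = r → y ∈ centralizer (P : Set G) → False) → R ≤ ⁅E, E⁆ := by
    intro hno
    have hC : R ⊓ centralizer (P : Set G) = ⊥ := by
      by_contra hne
      have hq : IsPGroup r ↥(R ⊓ centralizer (P : Set G)) := hRr.to_le inf_le_left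
      obtain ⟨t, ht, hto⟩ := bg14_exists_orderOf hq hne
      exact hno t (hRE (Subgroup.mem_inf.mp ht).1) hto (Subgroup.mem_inf.mp ht).2
    exact (Helper54.bg13_comm_eq hp.1 hP hRr hrp hPR hC).trans (Subgroup.commutator_mono hRE hPE)
  rcases Helper24.bg14d_tau_cases hG hM hE hr hd with h1 | h2 | h3
  · exact hfp fun y hyE hyo hyP => Helper24.bg14d_fpf_tau1 hG hM hE hp hPE hP hD h1 hrκ hyE hyo hyP
  · exact hfp fun y hyE hyo hyP => bg14d_fpf_tau2 hZ hM hE hp hPE hP hD h2 hyE hyo hyP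
  · exact (Helper98.bg14_normal_in_compl hG hM hE h3 hRE hRr).2.1

/-- PIECE KS1 (pure, subgroup version of KS0). -/
theorem bg14d_cent_le_derived {M K : Subgroup G} (hKM : K ≤ M)
    (hKc : ∀ a ∈ K, ∀ b ∈ K, a * b = b * a)
    (hprod : ∀ m ∈ M, ∃ y ∈ ⁅M, M⁆, ∃ k ∈ K, m = y * k)
    (hcop : (Nat.card K).Coprime (Nat.card ↥⁅M, M⁆)) :
    ∀ z ∈ ⁅M, M⁆, (∀ k ∈ K, k * z = z * k) → z ∈ ⁅⁅M, M⁆, ⁅M, M⁆⁆ := by
  intro z hz hzk
  have hmap : (commutator ↥M).map M.subtype = ⁅M, M⁆ := by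
    rw [commutator_def, Subgroup.map_commutator, ← MonoidHom.range_eq_map, Subgroup.range_subtype]
  have hmap2 : (⁅commutator ↥M, commutator ↥M⁆).map M.subtype = ⁅⁅M, M⁆, ⁅M, M⁆⁆ := by
    rw [Subgroup.map_commutator, hmap]
  have hcard : Nat.card ↥(commutator ↥M) = Nat.card ↥⁅M, M⁆ := by
    rw [← hmap]
    exact (Nat.card_congr ((commutator ↥M).equivMapOfInjective M.subtype
      M.subtype_injective).toEquiv)
  have hKcard : Nat.card ↥(K.subgroupOf M) = Nat.card K := Helper35.card_subgroupOf_of_le hKM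
  have hmem : ∀ x : G, x ∈ ⁅M, M⁆ → ∃ x' : ↥M, x' ∈ commutator ↥M ∧ (x' : G) = x := by
    intro x hx
    rw [← hmap] at hx
    obtain ⟨x', hx', hxx⟩ := Subgroup.mem_map.mp hx
    exact ⟨x', hx', hxx⟩
  obtain ⟨z', hz', hzz⟩ := hmem z hz
  have key := Helper39.bg14d_quot_fpf (H := ↥M) (K.subgroupOf M) ?_ ?_ ?_ z' hz' ?_
  · rw [← hmap2]
    exact Subgroup.mem_map.mpr ⟨z', key, hzz⟩
  · intro a ha b hb
    exact Subtype.ext (hKc _ (Subgroup.mem_subgroupOf.mp ha) _ (Subgroup.mem_subgroupOf.mp hb))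
  · intro m
    obtain ⟨y, hy, k, hk, hmk⟩ := hprod m m.2
    obtain ⟨y', hy', hyy⟩ := hmem y hy
    refine ⟨y', hy', ⟨k, hKM hk⟩, Subgroup.mem_subgroupOf.mpr hk, ?_⟩
    apply Subtype.ext
    rw [Subgroup.coe_mul, hyy]
    exact hmk
  · rw [hKcard, hcard]
    exact hcop
  · intro k hk
    apply Subtype.ext
    rw [Subgroup.coe_mul, Subgroup.coe_mul, hzz]
    exact hzk _ (Subgroup.mem_subgroupOf.mp hk)

/-- ASSEMBLY. -/
theorem bg14d_1365 (hG : IsMinSimpleOddOrder G) (hσp : BGSigmaPart G) (hZ : BGLemmaZ G)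
    {M K U : Subgroup G} (hM : IsCoatom M) (hKU : IsSigmaDecomposition M K U) (hK1 : K ≠ ⊥) :
    ⁅M, M⁆ = U ⊔ sigmaCore M ∧
      (sigmaCore M ⊓ centralizer (K : Set G)) ≤ ⁅⁅M, M⁆, ⁅M, M⁆⁆ := by
  have hU : BGUniq G := fun K hK h1 h2 => Cfsg.Agent.S1403.result hG K hK h1 h2
  obtain ⟨hE, hEU, -, -⟩ := Helper49.bg14u_setup hG hKU
  have hKc := hKU.cyclic
  have hK := hKU.hall
  have hKM : K ≤ M := hK.1
  have hσM : sigmaCore M ≤ M := piCoreOf_le _ _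
  have hSn : M ≤ normalizer (sigmaCore M : Set G) := le_normalizer_piCoreOf (sigma M) M
  obtain ⟨hUM, -, hinf, hUprod⟩ := hKU.compl
  have hWn := (bg14_1352 hG hσp hM hKc hK).2 U hKU
  -- `M' ≤ U M_σ`
  have hprodW : ∀ m ∈ M, ∃ w ∈ U ⊔ sigmaCore M, ∃ k ∈ K, m = w * k := by
    intro m hm
    obtain ⟨a, ha, b, hb, rfl⟩ := hUprod m hm
    obtain ⟨k, hk, s, hs, rfl⟩ := exists_mul_of_mem_sup' (hKM.trans hSn) hb
    refine ⟨a * (k * s * k⁻¹), mul_mem (mem_sup_left ha) (mem_sup_right ?_), k, hk, by group⟩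
    exact (mem_normalizer_iff.mp (hSn (hKM hk)) s).mp hs
  have h1 : ⁅M, M⁆ ≤ U ⊔ sigmaCore M := Helper39.bg14d_comm_le hKM hKc hWn hprodW
  -- `U ≤ E'`
  obtain ⟨p, P, hp1, hpκ, hPK, hPp, hD⟩ := Helper24.bg14d_exists_tau1 hG hσp hM hKc hK hK1
  have hPE : P ≤ U ⊔ K := hPK.trans le_sup_right
  have hpp : p.Prime := hp1.1
  have hUE' : U ≤ ⁅U ⊔ K, U ⊔ K⁆ := by
    apply bg11_le_of_sylows
    intro r hr
    have := Fact.mk hr
    have hcop : (Nat.card P).Coprime (Nat.card U) := by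
      rw [hPp, Nat.Prime.coprime_iff_not_dvd hpp]
      intro hd
      exact Helper39.bg14d_not_kappa_of_dvd hKU hpp hd hpκ
    have hsolv : Group.IsSolvable P ∨ Group.IsSolvable U := Or.inr (uq_isSolvable hG (fun h => hM.1 (top_le_iff.mp (h ▸ hUM))))
    obtain ⟨R, hR, hPR⟩ := exists_invariant_sylow (hPK.trans hKU.normal) hcop hsolv r
    refine ⟨R, hR, ?_⟩
    by_cases hrd : r ∣ Nat.card U
    · exact bg14d_sylow_le_comm hG hZ hM hE hp1 hpκ hPE hPp hD hr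
        (Helper39.bg14d_not_kappa_of_dvd hKU hr hrd) (hR.1.trans le_sup_left) (IsPGroup.of_card hR.2) hPR
    · have h3 : Nat.card R = 1 := by
        rw [hR.2, Nat.factorization_eq_zero_of_not_dvd hrd, pow_zero]
      rw [Subgroup.card_eq_one.mp h3]
      exact bot_le
  have h2 : U ⊔ sigmaCore M ≤ ⁅M, M⁆ :=
    sup_le (hUE'.trans (Subgroup.commutator_mono hE.1 hE.1))
      (Helper24.bg1217_sigmaCore_le_comm hG hU hM)
  have hA : ⁅M, M⁆ = U ⊔ sigmaCore M := le_antisymm h1 h2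
  refine ⟨hA, ?_⟩
  intro z hz
  have hcop := bg14_kappa_coprime hG hσp hM hKc hK
  have hKcomm : ∀ a ∈ K, ∀ b ∈ K, a * b = b * a := by
    intro a ha b hb
    obtain ⟨g, hg⟩ := hKc.exists_generator
    obtain ⟨i, hi⟩ := Subgroup.mem_zpowers_iff.mp (hg ⟨a, ha⟩)
    obtain ⟨j, hj⟩ := Subgroup.mem_zpowers_iff.mp (hg ⟨b, hb⟩)
    have hi' : a = (g : G) ^ i := by rw [← Subgroup.coe_zpow, hi]
    have hj' : b = (g : G) ^ j := by rw [← Subgroup.coe_zpow, hj]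
    rw [hi', hj', ← zpow_add, ← zpow_add, add_comm]
  refine bg14d_cent_le_derived hKM hKcomm (by rw [hA]; exact hprodW) hcop z
    (h2 (mem_sup_right (Subgroup.mem_inf.mp hz).1)) ?_
  intro k hk
  exact mem_centralizer_iff.mp (Subgroup.mem_inf.mp hz).2 k hk

end Cfsg.Agent.Helper22
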