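import Mathlib
import Cfsg.Agent.Helper1.Hall
import Cfsg.Agent.Helper1.BGSK
import Cfsg.Agent.Helper23.Uniq
import Cfsg.Agent.Helper35.HallCoprime

set_option autoImplicit false

namespace Cfsg.Agent.Helper22

open Cfsg Subgroup

universe u

variable {G : Type u} [Group G] [Finite G]

/-- HK. Hall containment in the solvable group `M`. -/
theorem bg157_hall_contains (hG : IsMinSimpleOddOrder G) {M : Subgroup G} (hM : IsCoatom M)
    (π : Set ℕ) {X : Subgroup G} (hXM : X ≤ M)
    (hX : ∀ p : ℕ, p.Prime → p ∣ Nat.card X → p ∈ π) :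
    ∃ K : Subgroup G, IsPiHallOf π K M ∧ X ≤ K := by
  classical
  have : Group.IsSolvable M := Cfsg.Agent.Helper23.uq_isSolvable hG hM.1
  obtain ⟨m, n, hmn, hcop, hm, hn⟩ :=
    Cfsg.Agent.Helper35.exists_pi_factorization π (Nat.card M) Nat.card_pos.ne'
  have hXn : (Nat.card (X.subgroupOf M)).Coprime n := by
    rw [Cfsg.Agent.Helper35.card_subgroupOf_of_le hXM]
    apply Nat.coprime_of_dvd
    intro p hp h1 h2
    exact hn p hp (hX p hp h1) h2
  obtain ⟨H, hH, hXH⟩ := Cfsg.Agent.Helper1.hall_le_aux (Nat.card M) M m n rfl hmn hcop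
    (X.subgroupOf M) hXn
  refine ⟨H.map M.subtype, ?_, ?_⟩
  · rw [Cfsg.Agent.Helper35.isPiHallOf_iff_card hmn hm hn]
    refine ⟨Subgroup.map_subtype_le H, ?_⟩
    rw [← hH]
    exact Nat.card_congr
      (Subgroup.equivMapOfInjective H M.subtype M.subtype_injective).symm.toEquiv
  · intro x hx
    exact ⟨⟨x, hXM hx⟩, hXH (Subgroup.mem_subgroupOf.2 hx), rfl⟩

end Cfsg.Agent.Helper22
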