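/-
helper22: CALL S1351A, PIECE BETA.
-/
import Cfsg.Agent.Helper22.BG13iDefs
import Cfsg.Agent.Helper22.BG11d
import Cfsg.Agent.Helper20.BG13P4
import Cfsg.Agent.Helper98.BG14SET3
import Cfsg.Agent.Helper72.BG12Cor2
import Cfsg.Agent.Helper35.CoprimeGen
import Cfsg.Agent.S1414

set_option autoImplicit false

namespace Cfsg.Agent.Helper22

open Cfsg Subgroup Cfsg.Agent.Helper23 Cfsg.Agent.Helper35

universe u

variable {G : Type u} [Group G] [Finite G]

/-- PIECE BETA. `X ≤ M'` of order `u ∈ τ₃(M)` with `N_G(X) ≤ H ≠ M`: then `β(M) ≠ ∅`. -/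
theorem bg13i_beta_nonempty (hG : IsMinSimpleOddOrder G) {M H X : Subgroup G} (hM : IsCoatom M)
    (hH : IsCoatom H) (hHM : H ≠ M) {u : ℕ} (hu : u ∈ tau3 M) (hXc : Nat.card X = u)
    (hXM : X ≤ ⁅M, M⁆) (hNH : normalizer (X : Set G) ≤ H) : ∃ t : ℕ, t ∈ beta M := by
  classical
  by_contra hβ
  push Not at hβ
  have hU : BGUniq G := fun K hK h1 h2 => Cfsg.Agent.S1403.result hG K hK h1 h2
  have hup : u.Prime := hu.1
  have huσ : u ∉ sigma M := hu.2.1
  have := Fact.mk hup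
  obtain ⟨N, hN, hNnil⟩ := (Cfsg.Agent.S1414.result hG M hM).2.2.1
  have hNeq : N = ⁅M, M⁆ := by
    have hidx : N.relIndex ⁅M, M⁆ = 1 := by
      by_contra h1
      obtain ⟨q, hq, hqd⟩ := Nat.exists_prime_and_dvd h1
      exact hN.2.2 q hq ⟨hq, hβ q⟩ hqd
    exact le_antisymm hN.1 (Subgroup.relIndex_eq_one.mp hidx)
  subst hNeq
  obtain ⟨D, hDdef⟩ : ∃ D : Subgroup G, D = ⁅M, M⁆ := ⟨_, rfl⟩
  rw [← hDdef] at hNnil hXM
  have hDM : D ≤ M := hDdef ▸ bg11_commutator_le_self M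
  have hMD : M ≤ normalizer (D : Set G) := hDdef ▸ bg11_le_normalizer_commutator M
  -- the normal Sylow `u`-subgroup of `D`
  obtain ⟨S⟩ : Nonempty (Sylow u ↥D) := inferInstance
  have hSn : (S : Subgroup ↥D).Normal :=
    Sylow.normal_of_normalizerCondition Group.normalizerCondition_of_isNilpotent S
  haveI := Sylow.unique_of_normal S hSn
  obtain ⟨SG, hSGdef⟩ : ∃ SG : Subgroup G, SG = (S : Subgroup ↥D).map D.subtype := ⟨_, rfl⟩
  have hSGD : SG ≤ D := by
    rw [hSGdef]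
    exact Subgroup.map_subtype_le _
  have hSGu : IsPGroup u SG := by
    rw [hSGdef]
    exact S.isPGroup'.map _
  have hle : ∀ Q : Subgroup G, Q ≤ D → IsPGroup u Q → Q ≤ SG := by
    intro Q hQD hQu
    obtain ⟨S', hS'⟩ := (hQu.comap_subtype (K := D)).exists_le_sylow
    have hSS : S' = S := Subsingleton.elim _ _
    intro q hq
    rw [hSGdef]
    exact ⟨⟨q, hQD hq⟩, hSS ▸ hS' (Subgroup.mem_subgroupOf.mpr hq), rfl⟩
  have hXu : IsPGroup u X := IsPGroup.of_card (n := 1) (by rw [hXc, pow_one])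
  have hXS : X ≤ SG := hle X hXM hXu
  -- `SG` is cyclic
  have hcop : (Nat.card SG).Coprime (Nat.card (sigmaCore M)) := by
    obtain ⟨n, hn⟩ := IsPGroup.iff_card.mp hSGu
    rw [hn]
    apply Nat.Coprime.pow_left
    rw [Nat.Prime.coprime_iff_not_dvd hup]
    intro h
    exact huσ (mem_of_dvd_card_piCoreOf (sigma M) M hup h)
  obtain ⟨E, hE, hSGE⟩ := Helper20.bg13_exists_compl_ge hG hU hM (hSGD.trans hDM) hcop
  obtain ⟨-, -, hSGc⟩ := Helper98.bg14_normal_in_compl hG hM hE hu hSGE hSGu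
  -- `M` normalizes `SG`, hence `X`
  have hMS : M ≤ normalizer (SG : Set G) := by
    apply Helper35.le_normalizer_of_forall_conj_mem
    intro m hm x hx
    have hQD : SG.map (MulAut.conj m).toMonoidHom ≤ D := by
      rintro _ ⟨y, hy, rfl⟩
      simp only [MulEquiv.coe_toMonoidHom, MulAut.conj_apply]
      exact (mem_normalizer_iff.mp (hMD hm) y).mp (hSGD hy)
    exact hle _ hQD (hSGu.map _) ⟨x, hx, by simp⟩
  have hMX : M ≤ normalizer (X : Set G) :=
    hMS.trans (Helper72.b12c_normalizer_cyclic_le hSGc hXS)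
  exact hHM (uq_eq_of_coatom_le hM hH.1 (hMX.trans hNH))

end Cfsg.Agent.Helper22
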