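/-
helper22: CALL S1351A, PIECE TS (adapted from helper23's piece D1 of CALL S1378).
-/
import Cfsg.Agent.Helper22.BG13iDefs
import Cfsg.Agent.Helper23.BG139D1

set_option autoImplicit false

namespace Cfsg.Agent.Helper22

open Cfsg Subgroup Cfsg.Agent.Helper23

universe u

variable {G : Type u} [Group G] [Finite G]

/-- PIECE TS. For `t ∈ β(M)` and `P R ≤ M` (`R` normalizes `P`, both of prime order outside
`σ(M)`): a `P R`-invariant Sylow `t`-subgroup `T` of `M_σ`, and `M` is the only maximal subgroup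
containing `T`. -/
theorem bg13i_exists_T (hG : IsMinSimpleOddOrder G) {M P R : Subgroup G} (hM : IsCoatom M)
    {p r t : ℕ} (ht : t ∈ beta M) (hp : p.Prime) (hr : r.Prime) (hpσ : p ∉ sigma M)
    (hrσ : r ∉ sigma M) (hPM : P ≤ M) (hRM : R ≤ M) (hPc : Nat.card P = p)
    (hRc : Nat.card R = r) (hRP : R ≤ normalizer (P : Set G)) :
    ∃ T : Subgroup G, T ≤ sigmaCore M ∧ IsPGroup t T ∧ P ≤ normalizer (T : Set G) ∧
      R ≤ normalizer (T : Set G) ∧ ∀ L : Subgroup G, IsCoatom L → T ≤ L → L = M := by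
  classical
  have hU : Helper22.BGUniq G := fun K hK h1 h2 => Cfsg.Agent.S1403.result hG K hK h1 h2
  have htp : t.Prime := ht.1.1
  haveI := Fact.mk htp
  have htσ : t ∈ sigma M := Helper22.bg10_alpha_sub_sigma hG hU hM ht.1
  obtain ⟨hKhall, -, -, -, -⟩ := Cfsg.Agent.S1414.result hG M hM
  have hσhall := (Helper22.bg10_sigma_hall hG hU hM).1
  have hKM : piCoreOf (beta M) M ≤ M := piCoreOf_le _ _
  have hMK : M ≤ normalizer ((piCoreOf (beta M) M : Subgroup G) : Set G) :=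
    le_normalizer_piCoreOf _ _
  have hAM : R ⊔ P ≤ M := sup_le hRM hPM
  have hMtop : M ≠ ⊤ := hM.1
  have hcardA : Nat.card ↥(R ⊔ P) ∣ Nat.card R * Nat.card P :=
    Helper22.card_sup_dvd_of_le_normalizer hRP
  have hpK : ¬ p ∣ Nat.card (piCoreOf (beta M) M) := fun h =>
    hpσ (Helper22.bg10_alpha_sub_sigma hG hU hM (mem_of_dvd_card_piCoreOf _ _ hp h).1)
  have hrK : ¬ r ∣ Nat.card (piCoreOf (beta M) M) := fun h =>
    hrσ (Helper22.bg10_alpha_sub_sigma hG hU hM (mem_of_dvd_card_piCoreOf _ _ hr h).1)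
  have hcop : (Nat.card ↥(R ⊔ P)).Coprime (Nat.card (piCoreOf (beta M) M)) := by
    apply Nat.Coprime.coprime_dvd_left hcardA
    apply Nat.Coprime.mul_left
    · rw [hRc]; exact (Nat.Prime.coprime_iff_not_dvd hr).mpr hrK
    · rw [hPc]; exact (Nat.Prime.coprime_iff_not_dvd hp).mpr hpK
  obtain ⟨T, hT, hAT⟩ := Helper35.exists_invariant_sylow (hAM.trans hMK) hcop
    (Or.inl (uq_isSolvable hG (fun h => hMtop (top_le_iff.mp (h ▸ hAM))))) t
  have hTp : IsPGroup t T := Helper35.isPGroup_of_mem_sylowSet hT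
  have hTM : T ≤ M := hT.1.trans hKM
  have hTσ : T ≤ sigmaCore M := Helper22.bg12_le_sigmaCore hG hU hM htp htσ hTM hTp
  refine ⟨T, hTσ, hTp, le_sup_right.trans hAT, le_sup_left.trans hAT, ?_⟩
  intro L hL hTL
  -- `T` is a Sylow `t`-subgroup of `M_σ`
  obtain ⟨P₀, hP₀⟩ := (hTp.comap_subtype (K := sigmaCore M)).exists_le_sylow
  have hTT' : T ≤ (P₀ : Subgroup ↥(sigmaCore M)).map (sigmaCore M).subtype := by
    intro y hy
    exact ⟨⟨y, hTσ hy⟩, hP₀ (Subgroup.mem_subgroupOf.mpr hy), rfl⟩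
  have hcard' : Nat.card ((P₀ : Subgroup ↥(sigmaCore M)).map (sigmaCore M).subtype) =
      Nat.card T := by
    rw [Subgroup.card_map_of_injective (sigmaCore M).subtype_injective,
      Sylow.card_eq_multiplicity, hT.2, bg139_hall_factorization hσhall htp htσ,
      bg139_hall_factorization hKhall htp ht]
  have hTeq : T = (P₀ : Subgroup ↥(sigmaCore M)).map (sigmaCore M).subtype :=
    Subgroup.eq_of_le_of_card_ge hTT' (le_of_eq hcard')
  obtain ⟨z, hz⟩ := exists_prime_orderOf_dvd_card' (G := ↥M) t htσ.2.1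
  have hXc : Nat.card (zpowers (z : G)) = t := by
    rw [Nat.card_zpowers, Subgroup.orderOf_coe, hz]
  have h23 := Cfsg.Agent.S1423.result hG M hM t htσ (zpowers (z : G))
    ((zpowers_le).mpr z.2) hXc P₀ (Or.inl ht)
  have hUM := h23.2.1
  rw [← hTeq] at hUM
  exact hUM.unique ⟨hL, hTL⟩ ⟨hM, hTM⟩

end Cfsg.Agent.Helper22
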