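/-
helper22: CALL S1351A, PIECE U3.
-/
import Cfsg.Agent.Helper22.BG13iDefs
import Cfsg.Agent.Helper22.BG14Main
import Cfsg.Agent.Helper24.BG13A3
import Cfsg.Agent.S1378

set_option autoImplicit false

namespace Cfsg.Agent.Helper22

open Cfsg Subgroup Cfsg.Agent.Helper23 Cfsg.Agent.Helper35
open scoped commutatorElement

universe u

variable {G : Type u} [Group G] [Finite G]

/-- PIECE U3. `U ≤ C_{M_σ}(P)` a `u`-group inside `H`, `P ≤ H_σ ∩ M` of prime order `p ∈ σ(H)`,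
`R ≤ H` normalizes but does not centralize `U`, `H` not conjugate to `M`: then `u ∈ σ(M)` and
`u ∈ τ₃(H)`. -/
theorem bg13i_tau3 (hG : IsMinSimpleOddOrder G) {M H P U R : Subgroup G} (hM : IsCoatom M)
    (hH : IsCoatom H) (hnc : ∀ g : G, H ≠ M.map (MulAut.conj g).toMonoidHom) {p u : ℕ}
    (hpH : p ∈ sigma H) (hPc : Nat.card P = p) (hPM : P ≤ M) (hPH : P ≤ H) (hu : u.Prime)
    (hUσ : U ≤ sigmaCore M) (hUP : U ≤ centralizer (P : Set G)) (hUH : U ≤ H)
    (hUu : IsPGroup u U) (hRH : R ≤ H) (hRU : R ≤ normalizer (U : Set G))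
    (hne : ¬ U ≤ centralizer (R : Set G)) : u ∈ sigma M ∧ u ∈ tau3 H := by
  have hU : BGUniq G := fun K hK h1 h2 => Cfsg.Agent.S1403.result hG K hK h1 h2
  have hσp : BGSigmaPart G := (Cfsg.Agent.S1378.result hG).2
  have := Fact.mk hu
  have hpp : p.Prime := hpH.1
  have hPp : IsPGroup p P := IsPGroup.of_card (n := 1) (by rw [hPc, pow_one])
  have hU1 : U ≠ ⊥ := by
    rintro rfl
    exact hne bot_le
  obtain ⟨x, hxU, hxo⟩ := bg14_exists_orderOf hUu hU1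
  have hx1 : x ≠ 1 := by
    intro h
    rw [h, orderOf_one] at hxo
    exact hu.one_lt.ne hxo
  have hxu : x ^ u = 1 := by rw [← hxo]; exact pow_orderOf_eq_one x
  have hudσ : u ∣ Nat.card (sigmaCore M) := by
    have h := orderOf_dvd_natCard (⟨x, hUσ hxU⟩ : sigmaCore M)
    rwa [Subgroup.orderOf_mk, hxo] at h
  have huσ : u ∈ sigma M := mem_of_dvd_card_piCoreOf (sigma M) M hu hudσ
  have huσH : u ∉ sigma H := fun h => by
    obtain ⟨g, hg⟩ := hσp M H hM hH ⟨u, huσ, h⟩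
    exact hnc g hg
  -- `u ∣ |H'|`
  have hd : u ∣ Nat.card ↥⁅H, H⁆ := by
    have hex : ∃ a ∈ U, ∃ z ∈ R, z * a ≠ a * z := by
      by_contra hcon
      push Not at hcon
      apply hne
      intro a ha
      rw [mem_centralizer_iff]
      intro z hz
      exact hcon a ha z hz
    obtain ⟨a, ha, z, hz, hza⟩ := hex
    have hcU : z * a * z⁻¹ * a⁻¹ ∈ U :=
      Subgroup.mul_mem _ ((mem_normalizer_iff.mp (hRU hz) a).mp ha) (Subgroup.inv_mem _ ha)
    have hcH : z * a * z⁻¹ * a⁻¹ ∈ ⁅H, H⁆ := by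
      have h2 := Subgroup.commutator_mem_commutator (hRH hz) (hUH ha)
      rwa [commutatorElement_def] at h2
    have hc1 : z * a * z⁻¹ * a⁻¹ ≠ 1 := by
      intro h
      apply hza
      calc z * a = (z * a * z⁻¹ * a⁻¹) * (a * z) := by group
        _ = a * z := by rw [h, one_mul]
    obtain ⟨k, hk⟩ := hUu ⟨z * a * z⁻¹ * a⁻¹, hcU⟩
    have hck : (z * a * z⁻¹ * a⁻¹) ^ (u ^ k) = 1 := by
      have := congrArg Subtype.val hk
      simpa using this
    have hdvd : orderOf (z * a * z⁻¹ * a⁻¹) ∣ u ^ k := orderOf_dvd_of_pow_eq_one hck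
    obtain ⟨j, -, hoj⟩ := (Nat.dvd_prime_pow hu).mp hdvd
    have hj0 : j ≠ 0 := by
      rintro rfl
      rw [pow_zero] at hoj
      exact hc1 (orderOf_eq_one_iff.mp hoj)
    have h3 : u ∣ orderOf (z * a * z⁻¹ * a⁻¹) := by rw [hoj]; exact dvd_pow_self u hj0
    refine h3.trans ?_
    have h := orderOf_dvd_natCard (⟨z * a * z⁻¹ * a⁻¹, hcH⟩ : ↥⁅H, H⁆)
    rwa [Subgroup.orderOf_mk] at h
  -- `u ∉ τ₂(H)`
  have hu2 : u ∉ tau2 H := by
    intro h2
    have hP1 : P ≠ ⊥ := by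
      intro h
      rw [h, Subgroup.card_bot] at hPc
      exact hpp.one_lt.ne hPc
    obtain ⟨⟨y, hyP⟩, hy1'⟩ := Subgroup.ne_bot_iff_exists_ne_one.mp hP1
    have hy1 : y ≠ 1 := fun h => hy1' (Subtype.ext h)
    have hPσ : P ≤ sigmaCore H := bg12_le_sigmaCore hG hU hH hpp hpH hPH hPp
    have hxy : x * y = y * x := (mem_centralizer_iff.mp (hUP hxU) y hyP).symm
    have hHM := Helper24.bg13_tau2_of_cent hG hM hH h2 (hUσ hxU) (hUH hxU) hxu hx1 (hPσ hyP) hy1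
      (hPM hyP) hxy
    apply hnc 1
    rw [hHM]
    ext w
    simp
  have hr2 : PRankLE u 2 ↥H :=
    bg10_pRank_of_not_alpha H u hu (fun h => huσH (bg10_alpha_sub_sigma hG hU hH h))
  have hr1 : PRankLE u 1 ↥H := by
    by_contra h
    exact hu2 ⟨hu, huσH, hr2, h⟩
  exact ⟨huσ, hu, huσH, hd, hr1⟩

end Cfsg.Agent.Helper22
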