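/-
helper22: S1351 part (A) (helper25's Theorem (i), B&G 13.10 core): assembly of the pieces of
CALL S1351A (skeleton tools/calls/BG13iSkel.lean.txt).
-/
import Cfsg.Agent.Helper22.BG13iDefs
import Cfsg.Agent.Helper22.BG13iBETA
import Cfsg.Agent.Helper22.BG14Main
import Cfsg.Agent.Helper22.BG11d
import Cfsg.Agent.Helper22.BG13iU3
import Cfsg.Agent.Helper22.BG13iTS
import Cfsg.Agent.Helper33.BG13iKU
import Cfsg.Agent.Helper33.BG13iXM
import Cfsg.Agent.Helper25.BG13iRED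
import Cfsg.Agent.Helper70.BG51CYC
import Cfsg.Agent.Helper24.BG13V
import Cfsg.Agent.Helper1.BG13iEG
import Cfsg.Agent.Helper20.BG13P4

set_option autoImplicit false

namespace Cfsg.Agent.Helper22

open Cfsg Subgroup Cfsg.Agent.Helper23 Cfsg.Agent.Helper35

universe u

variable {G : Type u} [Group G] [Finite G]

omit [Finite G] in
theorem bg13i_card_ne_bot {A : Subgroup G} {n : ℕ} (hn : n.Prime) (hA : Nat.card A = n) :
    A ≠ ⊥ := by
  intro h
  rw [h, Subgroup.card_bot] at hA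
  exact hn.one_lt.ne hA

omit [Finite G] in
theorem bg13i_card_map_conj (A : Subgroup G) (c : G) :
    Nat.card (A.map (MulAut.conj c).toMonoidHom) = Nat.card A :=
  (Nat.card_congr (A.equivMapOfInjective _ (MulEquiv.injective _)).toEquiv).symm

omit [Finite G] in
theorem bg13i_cent_symm {A B : Subgroup G} (h : A ≤ centralizer (B : Set G)) :
    B ≤ centralizer (A : Set G) := by
  intro b hb
  rw [mem_centralizer_iff]
  intro a ha
  exact (mem_centralizer_iff.mp (h ha) b hb).symm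

/-- **Part (A) of S1351**, core: the configuration `BG13iCfg` is contradictory. -/
theorem bg13i_false (hG : IsMinSimpleOddOrder G) {M H E P R : Subgroup G} {p r : ℕ}
    (c : BG13iCfg M H E P R p r) : False := by
  have hU : BGUniq G := fun K hK h1 h2 => Cfsg.Agent.S1403.result hG K hK h1 h2
  have hσp : BGSigmaPart G := (Cfsg.Agent.S1378.result hG).2
  have h28 : Helper1.BG1328 G := fun M hM E hE p hp P hPE hPc R hR hRc =>
    Cfsg.Agent.S1428.result hG M hM E hE p hp P hPE hPc R hR hRc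
  obtain ⟨hM, hH, hnc, hE, hp3, hPE, hPc, hNH, hr1, hRE, hRc, hrH, hpH, hfix, hK⟩ := c
  have hpp : p.Prime := hp3.1
  have hrp : r.Prime := hr1.1
  have hpσ : p ∉ sigma M := hp3.2.1
  have hrσ : r ∉ sigma M := hr1.2.1
  have hrσH : r ∉ sigma H := hrH.2.1
  have hEM : E ≤ M := hE.1
  have hPM : P ≤ M := hPE.trans hEM
  have hRM : R ≤ M := hRE.trans hEM
  have hPp : IsPGroup p P := IsPGroup.of_card (n := 1) (by rw [hPc, pow_one])
  obtain ⟨hEP, hPcomm, -⟩ := Helper98.bg14_normal_in_compl hG hM hE hp3 hPE hPp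
  have hEH : E ≤ H := hEP.trans hNH
  have hPH : P ≤ H := hPE.trans hEH
  have hRH : R ≤ H := hRE.trans hEH
  have hRP : R ≤ normalizer (P : Set G) := hRE.trans hEP
  have hHM : H ≠ M := by
    intro h
    apply hnc 1
    rw [h]
    ext x
    simp
  have hpr : p ≠ r := fun h => hrσH (h ▸ hpH)
  have hσM : sigmaCore M ≤ M := piCoreOf_le _ _
  have hσH : sigmaCore H ≤ H := piCoreOf_le _ _
  -- the group `K = C_{M_σ}(P)`
  obtain ⟨K, hKdef⟩ : ∃ K : Subgroup G, K = sigmaCore M ⊓ centralizer (P : Set G) := ⟨_, rfl⟩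
  rw [← hKdef] at hK
  have hKσ : K ≤ sigmaCore M := hKdef ▸ inf_le_left
  have hKP : K ≤ centralizer (P : Set G) := hKdef ▸ inf_le_right
  have hKH : K ≤ H := hKP.trans ((Subgroup.centralizer_le_normalizer _).trans hNH)
  have hRK : R ≤ normalizer (K : Set G) := by
    intro z hz
    rw [hKdef]
    exact bg14_mem_normalizer_inf (le_normalizer_piCoreOf (sigma M) M (hRM hz))
      (bg11_le_normalizer_centralizer hRP hz)
  have hKtop : K ≠ ⊤ := fun h => hM.1 (top_le_iff.mp (h ▸ hKσ.trans hσM))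
  have hKsol : Group.IsSolvable ↥K := uq_isSolvable hG hKtop
  have hcopRK : (Nat.card R).Coprime (Nat.card K) := by
    rw [hRc, Nat.Prime.coprime_iff_not_dvd hrp]
    intro h
    exact hrσ (mem_of_dvd_card_piCoreOf (sigma M) M hrp
      (h.trans (Subgroup.card_dvd_of_le hKσ)))
  obtain ⟨u, hu, U, hUK, hUu, hRU, hUR⟩ := Helper33.bg13i_exists_sylow_moved hKsol hRK hcopRK hK
  obtain ⟨huσ, hu3⟩ := bg13i_tau3 hG hM hH hnc hpH hPc hPM hPH hu (hUK.trans hKσ)
    (hUK.trans hKP) (hUK.trans hKH) hUu hRH hRU hUR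
  have huσH : u ∉ sigma H := hu3.2.1
  have hur : u ≠ r := fun h => hrσ (h ▸ huσ)
  have hup : u ≠ p := fun h => hpσ (h ▸ huσ)
  have := Fact.mk hu
  -- `U` is cyclic, inside `H'`
  have hcopU : (Nat.card U).Coprime (Nat.card (sigmaCore H)) := by
    obtain ⟨n, hn⟩ := IsPGroup.iff_card.mp hUu
    rw [hn]
    apply Nat.Coprime.pow_left
    rw [Nat.Prime.coprime_iff_not_dvd hu]
    intro h
    exact huσH (mem_of_dvd_card_piCoreOf (sigma H) H hu h)
  obtain ⟨EH, hEHc, hUEH⟩ := Helper20.bg13_exists_compl_ge hG hU hH (hUK.trans hKH) hcopU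
  obtain ⟨-, hUcomm, hUc⟩ := Helper98.bg14_normal_in_compl hG hH hEHc hu3 hUEH hUu
  have hUfix : U ⊓ centralizer (R : Set G) = ⊥ :=
    Helper70.bg51_fpf_cyclic hu hUu hUc hrp hRc hur hRU (fun h => hUR (bg13i_cent_symm h))
  have hU1 : U ≠ ⊥ := by
    rintro rfl
    exact hUR bot_le
  obtain ⟨x, hxU, hxo⟩ := bg14_exists_orderOf hUu hU1
  obtain ⟨X, hXdef⟩ : ∃ X : Subgroup G, X = zpowers x := ⟨_, rfl⟩
  have hXc : Nat.card X = u := by rw [hXdef, Nat.card_zpowers, hxo]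
  have hXU : X ≤ U := by rw [hXdef, zpowers_le]; exact hxU
  have hX1 : X ≠ ⊥ := bg13i_card_ne_bot hu hXc
  have hRX : R ≤ normalizer (X : Set G) :=
    hRU.trans (Helper72.b12c_normalizer_cyclic_le hUc hXU)
  have hXfix : X ⊓ centralizer (R : Set G) = ⊥ := by
    rw [eq_bot_iff, ← hUfix]
    exact inf_le_inf_right _ hXU
  have hXσ : X ≤ sigmaCore M := hXU.trans (hUK.trans hKσ)
  have hXP : X ≤ centralizer (P : Set G) := hXU.trans (hUK.trans hKP)
  have hXH : X ≤ H := hXU.trans (hUK.trans hKH)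
  have hXM : X ≤ M := hXσ.trans hσM
  have hXu : IsPGroup u X := hUu.to_le hXU
  have hXcomm : X ≤ ⁅H, H⁆ :=
    (hXU.trans hUcomm).trans (Subgroup.commutator_mono hEHc.1 hEHc.1)
  have hPX : P ≤ centralizer (X : Set G) := bg13i_cent_symm hXP
  -- Step 5: `N_G(X) ≤ M`
  have hNX : normalizer (X : Set G) ≤ M :=
    Helper24.bg13u_star_norm_le hG hM hpp hpσ hp3.2.2.2 hPM hPc hu hXc (le_inf hXσ hXP)
  -- Step 6: primes of `β(M)`, `β(H)` and fixed points of `R`
  obtain ⟨t, ht⟩ := bg13i_beta_nonempty hG hM hH hHM hp3 hPc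
    (hPcomm.trans (Subgroup.commutator_mono hEM hEM)) hNH
  obtain ⟨t', ht'⟩ := bg13i_beta_nonempty hG hH hM hHM.symm hu3 hXc hXcomm hNX
  have htα : t ∈ alpha M := ht.1
  have htp : t.Prime := htα.1
  have ht'α : t' ∈ alpha H := ht'.1
  have ht'p : t'.Prime := ht'α.1
  have htσ : t ∈ sigma M := bg10_alpha_sub_sigma hG hU hM htα
  have ht'σ : t' ∈ sigma H := bg10_alpha_sub_sigma hG hU hH ht'α
  have hpt : p ≠ t := fun h => hpσ (h ▸ htσ)
  have hrt : r ≠ t := fun h => hrσ (h ▸ htσ)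
  have hut' : u ≠ t' := fun h => huσH (h ▸ ht'σ)
  have hrt' : r ≠ t' := fun h => hrσH (h ▸ ht'σ)
  obtain ⟨T, hTσ, hTt, hPT, hRT, hTuniq⟩ :=
    bg13i_exists_T hG hM ht hpp hrp hpσ hrσ hPM hRM hPc hRc hRP
  have hTP : ¬ T ≤ centralizer (P : Set G) := fun h =>
    hHM (hTuniq H hH (h.trans ((Subgroup.centralizer_le_normalizer _).trans hNH)))
  obtain ⟨XM, hXM', hXMc⟩ :=
    Helper33.bg13i_exists_fix hG.1 hpp hrp htp hpt hrt hpr hTt hPc hRc hPT hRT hRP hfix hTP
  obtain ⟨T', hT'σ, hT't, hXT', hRT', hT'uniq⟩ :=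
    bg13i_exists_T hG hH ht' hu hrp huσH hrσH hXH hRH hXc hRc hRX
  have hT'X : ¬ T' ≤ centralizer (X : Set G) := fun h =>
    hHM (hT'uniq M hM (h.trans ((Subgroup.centralizer_le_normalizer _).trans hNX))).symm
  obtain ⟨XH, hXH', hXHc⟩ :=
    Helper33.bg13i_exists_fix hG.1 hu hrp ht'p hut' hrt' hur hT't hXc hRc hXT' hRT' hRX hXfix hT'X
  have hXMσ : XM ≤ sigmaCore M ⊓ centralizer (R : Set G) :=
    hXM'.trans (inf_le_inf_right _ hTσ)
  have hXHσ : XH ≤ sigmaCore H ⊓ centralizer (R : Set G) :=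
    hXH'.trans (inf_le_inf_right _ hT'σ)
  -- Steps 7, 8: helper1's endgame
  have hne0 : sigmaCore M ⊓ centralizer (P : Set G) ≠ ⊥ := by
    intro h
    rw [← hKdef] at h
    rw [h] at hK
    exact hK bot_le
  have hRnP : ¬ R ≤ centralizer (P : Set G) := by
    intro h
    have h1 : P ≤ P ⊓ centralizer (R : Set G) := le_inf le_rfl (bg13i_cent_symm h)
    rw [hfix] at h1
    exact bg13i_card_ne_bot hpp hPc (le_bot_iff.mp h1)
  exact Helper1.bg13i_endgame hG ⟨hM, hE, hp3, hPE, hPc, hne0⟩ hr1 hRE hRc hRnP hH hNH hrH ht hXMσ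
    hXMc ht' hXHσ hXHc

/-- **Part (A) of S1351** (helper25's Theorem (i); B&G 13.10 core): for `P ≤ E` of order
`p ∈ τ₃(M)` with `C_{M_σ}(P) ≠ 1`, every subgroup of `E` of prime order in `τ₁(M)` centralizes
`C_{M_σ}(P)`. -/
theorem bg13i_main (hG : IsMinSimpleOddOrder G) {M E P R : Subgroup G} {p r : ℕ}
    (hM : IsCoatom M) (hE : IsComplIn E (sigmaCore M) M) (hp : p ∈ tau3 M) (hPE : P ≤ E)
    (hP : Nat.card P = p) (hr : r ∈ tau1 M) (hRE : R ≤ E) (hR : Nat.card R = r) :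
    sigmaCore M ⊓ centralizer (P : Set G) ≤ centralizer (R : Set G) := by
  by_contra hne
  obtain ⟨H, R', r', c⟩ := Helper25.bg13i_reduce hG hM hE hp hPE hP hr hRE hR hne
  exact bg13i_false hG c

end Cfsg.Agent.Helper22
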