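/-
helper22: S1351 part (A), glue forms: helper25's `Bg13iCore G` and the `E`-centralization
`C_{M_σ}(P) ≤ C_G(E)` for a `τ₃`-nonregular datum (`Helper62.T3NR`).
-/
import Cfsg.Agent.Helper22.BG13iMain
import Cfsg.Agent.Helper25.BG13iGlue

set_option autoImplicit false

namespace Cfsg.Agent.Helper22

open Cfsg Subgroup

universe u

variable {G : Type u} [Group G] [Finite G]

/-- helper25's core hypothesis `Bg13iCore G` holds. -/
theorem bg13i_core (hG : IsMinSimpleOddOrder G) : Cfsg.Agent.Helper25.Bg13iCore G :=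
  fun _ _ _ _ _ _ h hr hRE hR _ hmv =>
    hmv (bg13i_main hG h.hM h.hE h.hp h.hPE h.hP hr hRE hR)

/-- **Part (A) of S1351**, final form: for a `τ₃`-nonregular datum the complement `E`
centralizes `C_{M_σ}(P)`. -/
theorem bg13i_cent_E (hG : IsMinSimpleOddOrder G) {M E P : Subgroup G} {p : ℕ}
    (h : Cfsg.Agent.Helper62.T3NR M E P p) :
    sigmaCore M ⊓ centralizer (P : Set G) ≤ centralizer (E : Set G) :=
  Cfsg.Agent.Helper25.bg13i_of_core hG (bg13i_core hG) h

end Cfsg.Agent.Helper22
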