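/-
helper22: CALL S1366 (helper2, B&G Theorem 14.7), PIECE GOOD.
-/
import Cfsg.Agent.Helper2.BG147Defs
import Cfsg.Agent.Helper68.BG14R30
import Cfsg.Agent.Helper23.BG14U1

set_option autoImplicit false

namespace Cfsg.Agent.Helper22

open Cfsg Subgroup

universe u

variable {G : Type u} [Group G] [Finite G]

/-- A non-identity element has a power generating a subgroup of prime order. -/
theorem bg147h_prime_zpowers {d : G} (hd1 : d ≠ 1) :
    ∃ Y : Subgroup G, Y ≤ zpowers d ∧ (Nat.card Y).Prime := by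
  have hn1 : orderOf d ≠ 1 := fun h => hd1 (orderOf_eq_one_iff.mp h)
  have hq := Nat.minFac_prime hn1
  have hqd := Nat.minFac_dvd (orderOf d)
  have hpos : 0 < orderOf d := orderOf_pos d
  refine ⟨zpowers (d ^ (orderOf d / (orderOf d).minFac)), ?_, ?_⟩
  · rw [zpowers_le]
    exact Subgroup.pow_mem _ (mem_zpowers d) _
  · rw [Nat.card_zpowers, orderOf_pow_orderOf_div hpos.ne' hqd]
    exact hq

omit [Finite G] in
/-- The centralizer of `d` centralizes every subgroup of `zpowers d`. -/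
theorem bg147h_cent_le {d : G} {Y : Subgroup G} (hY : Y ≤ zpowers d) :
    centralizer ({d} : Set G) ≤ centralizer (Y : Set G) := by
  intro c hc
  rw [mem_centralizer_iff] at hc ⊢
  intro y hy
  obtain ⟨k, rfl⟩ := mem_zpowers_iff.mp (hY hy)
  have h1 : Commute d c := hc d rfl
  exact (h1.zpow_left k).eq

/-- PIECE GOOD (C8). `C_G(d) ≤ M` for `1 ≠ d ∈ M_σ ∩ Z`. -/
theorem bg147_good (hG : IsMinSimpleOddOrder G) {M K U : Subgroup G} (hM : IsCoatom M)
    (hKU : IsSigmaDecomposition M K U) (hK1 : K ≠ ⊥) :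
    ∀ d ∈ sigmaCore M ⊓ (K ⊔ (sigmaCore M ⊓ centralizer (K : Set G))), d ≠ 1 →
      centralizer ({d} : Set G) ≤ M := by
  obtain ⟨-, -, -, -, -, hU1⟩ := Cfsg.Agent.Helper23.bg14_pkg hG hM hKU hK1
  intro d hd hd1
  have hKc := Cfsg.Agent.Helper68.bg14r_comm_of_cyclic hKU.cyclic
  have hdK : d ∈ centralizer (K : Set G) :=
    Cfsg.Agent.Helper68.bg14r_sup_le_cent (S := sigmaCore M) hKc hd.2
  have hdKs : d ∈ sigmaCore M ⊓ centralizer (K : Set G) := ⟨hd.1, hdK⟩
  obtain ⟨Y, hYd, hYp⟩ := bg147h_prime_zpowers hd1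
  have h1 := (hU1 Y (hYd.trans (zpowers_le.mpr hdKs)) hYp).1
  exact (bg147h_cent_le hYd).trans h1

end Cfsg.Agent.Helper22
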