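/-
CALL S1357 (helper1), piece TIQ: no element of order `q ∈ β(M)` of `M` is conjugated into `M` by
an element outside `M`.
-/
import Mathlib
import Cfsg.Agent.S1426
import Cfsg.Agent.S1403
import Cfsg.Agent.Helper22.BG10b
import Cfsg.Agent.Helper54.BG14S

set_option autoImplicit false

namespace Cfsg.Agent.Helper22

open Cfsg Subgroup

universe u

variable {G : Type u} [Group G] [Finite G]

/-- TIQ. No element `y ∈ M` of order `q ∈ β(M)` has `g y g⁻¹ ∈ M` for `g ∉ M`. -/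
theorem bg152_TI_q (hG : IsMinSimpleOddOrder G) {M E : Subgroup G} (hM : IsCoatom M)
    (hE : IsComplIn E (sigmaCore M) M) {q : ℕ} (hqβ : q ∈ beta M) {g y : G} (hg : g ∉ M)
    (hy : y ∈ M) (hyo : orderOf y = q) (hgy : g * y * g⁻¹ ∈ M) : False := by
  have hU : Helper22.BGUniq G := fun K hK h1 h2 => Cfsg.Agent.S1403.result hG K hK h1 h2
  have hqα : q ∈ alpha M := hqβ.1
  have hqp : q.Prime := hqα.1
  have hqσ : q ∈ sigma M := bg10_alpha_sub_sigma hG hU hM hqα
  have hyσ : y ∈ sigmaCore M := by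
    refine Cfsg.Agent.Helper54.bg14s_mem_sigmaCore hG hM hy ?_
    intro r hr hrd
    rw [hyo] at hrd
    have : r = q := (Nat.prime_dvd_prime_iff_eq hr hqp).mp hrd
    rw [this]
    exact hqσ
  have hg' : g⁻¹ ∉ M := fun h => hg (by simpa using M.inv_mem h)
  have hyc : y ∈ M.map (MulAut.conj g⁻¹).toMonoidHom := by
    refine ⟨g * y * g⁻¹, hgy, ?_⟩
    simp
    group
  have h3 := ((Cfsg.Agent.S1426.result hG M hM E hE).2.2 g⁻¹ hg').2.1 q hqp
  apply h3 _ hqβ
  have hmem : y ∈ sigmaCore M ⊓ M.map (MulAut.conj g⁻¹).toMonoidHom := ⟨hyσ, hyc⟩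
  have h4 : orderOf (⟨y, hmem⟩ : ↥(sigmaCore M ⊓ M.map (MulAut.conj g⁻¹).toMonoidHom)) = q := by
    rw [← hyo]
    exact Subgroup.orderOf_mk y hmem
  rw [← h4]
  exact orderOf_dvd_natCard _

end Cfsg.Agent.Helper22
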