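/-
CALL S1356 (helper99), piece EXC: a `K`-invariant complement of a Sylow `q`-subgroup `Q` of the
normal subgroup `S` of the solvable group `M`.
-/
import Mathlib
import Cfsg.Prelude.Def_OddOrderLocal
import Cfsg.Agent.Helper72.BG13NB8
import Cfsg.Agent.Helper51.Replace

set_option autoImplicit false

namespace Cfsg.Agent.Helper22

open Cfsg Subgroup

universe u

variable {G : Type u} [Group G] [Finite G]

omit [Finite G] in
theorem bg56exc_card_mul_relIndex {H K : Subgroup G} (h : H ≤ K) :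
    Nat.card H * H.relIndex K = Nat.card K := by
  have h1 := Subgroup.card_mul_index (H.subgroupOf K)
  rwa [Nat.card_congr (Subgroup.subgroupOfEquivOfLe h).toEquiv] at h1

/-- Arithmetic core of EXC. -/
theorem bg56exc_arith {q n r d e : ℕ} (hq : q.Prime) (hr : ¬ q ∣ r) (hd : ¬ q ∣ d)
    (he : ∀ p : ℕ, p.Prime → p ∣ e → p = q) (he0 : e ≠ 0) (h : q ^ n * r = d * e) :
    q ^ n * d = q ^ n * r := by
  have hek : e = q ^ e.primeFactorsList.length :=
    Nat.eq_prime_pow_of_unique_prime_dvd he0 (fun {p} hp hpe => he p hp hpe)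
  obtain ⟨k, hk⟩ : ∃ k, e = q ^ k := ⟨_, hek⟩
  subst hk
  have h1 : q ^ k ∣ q ^ n := by
    have h2 : q ^ k ∣ q ^ n * r := ⟨d, by rw [h]; ring⟩
    exact (Nat.Coprime.dvd_mul_right
      (Nat.Coprime.pow_left k ((Nat.Prime.coprime_iff_not_dvd hq).mpr hr))).mp h2
  have h3 : q ^ n ∣ q ^ k := by
    have h4 : q ^ n ∣ d * q ^ k := ⟨r, by rw [← h]⟩
    exact (Nat.Coprime.dvd_mul_left
      (Nat.Coprime.pow_left n ((Nat.Prime.coprime_iff_not_dvd hq).mpr hd))).mp h4
  have h5 : q ^ k = q ^ n := Nat.dvd_antisymm h1 h3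
  rw [h5] at h
  have hpos : 0 < q ^ n := pow_pos hq.pos n
  have h6 : r = d := by
    have : q ^ n * r = q ^ n * d := by rw [h]; ring
    exact Nat.eq_of_mul_eq_mul_left hpos this
  rw [h6]

/-- EXC [M-L, PURE + Hall]. A `K`-invariant complement of the Sylow `q`-subgroup `Q` of `S`
(`S` normal in the solvable `M`, `K ≤ M` a `q'`-group). -/
theorem bg56_exists_compl {M S Q K : Subgroup G} {q : ℕ} (hq : q.Prime)
    (hsol : Group.IsSolvable ↥M) (hSM : S ≤ M) (hSn : M ≤ normalizer (S : Set G)) (hQS : Q ≤ S)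
    (hQ : IsPGroup q Q) (hQi : ¬ q ∣ Q.relIndex S) (hKM : K ≤ M) (hKq : ¬ q ∣ Nat.card K) :
    ∃ D : Subgroup G, IsComplIn Q D S ∧ K ≤ normalizer (D : Set G) := by
  classical
  have := Fact.mk hq
  obtain ⟨C, hC, hKC⟩ := Cfsg.Agent.Helper72.bg13nb_exists_hall_ge hsol {r | r ≠ q} hKM
    (fun p hp hpK hpq => hKq (hpq ▸ hpK))
  obtain ⟨hCM, hC1, hC2⟩ := hC
  have hCq : ¬ q ∣ Nat.card C := fun h => hC1 q hq h rfl
  have hDq : ¬ q ∣ Nat.card ↥(C ⊓ S) := fun h =>
    hCq (h.trans (Subgroup.card_dvd_of_le inf_le_left))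
  obtain ⟨n, hn⟩ := IsPGroup.iff_card.mp hQ
  have hdisj : Q ⊓ (C ⊓ S) = ⊥ := by
    have hcop : (Nat.card Q).Coprime (Nat.card ↥(C ⊓ S)) := by
      rw [hn]
      apply Nat.Coprime.pow_left
      rw [Nat.Prime.coprime_iff_not_dvd hq]
      exact hDq
    exact (Subgroup.disjoint_of_coprime_natCard hcop).eq_bot
  -- counting
  have hcard : Nat.card Q * Nat.card ↥(C ⊓ S) = Nat.card S := by
    have h1 := Cfsg.Agent.Helper51.card_sup_mul_card_inf_of_le_normalizer C S (hCM.trans hSn)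
    have h2 : Nat.card ↥(C ⊔ S) ∣ Nat.card M := Subgroup.card_dvd_of_le (sup_le hCM hSM)
    have h3 := bg56exc_card_mul_relIndex hCM
    have h4 := bg56exc_card_mul_relIndex hQS
    have h5 := bg56exc_card_mul_relIndex (inf_le_right : C ⊓ S ≤ S)
    have hdpos : 0 < Nat.card ↥(C ⊓ S) := Nat.card_pos
    have hcpos : 0 < Nat.card C := Nat.card_pos
    -- `|C ⊔ S| = |C| * e`
    have h6 : Nat.card ↥(C ⊔ S) = Nat.card C * (C ⊓ S).relIndex S := by
      have : Nat.card ↥(C ⊔ S) * Nat.card ↥(C ⊓ S)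
          = Nat.card C * (C ⊓ S).relIndex S * Nat.card ↥(C ⊓ S) := by
        rw [h1, ← h5]; ring
      exact Nat.eq_of_mul_eq_mul_right hdpos this
    have h7 : (C ⊓ S).relIndex S ∣ C.relIndex M := by
      rw [h6, ← h3] at h2
      exact (Nat.mul_dvd_mul_iff_left hcpos).mp h2
    have he : ∀ p : ℕ, p.Prime → p ∣ (C ⊓ S).relIndex S → p = q := by
      intro p hp hpe
      by_contra hpq
      exact hC2 p hp hpq (hpe.trans h7)
    have he0 : (C ⊓ S).relIndex S ≠ 0 := by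
      intro h0
      rw [h0, mul_zero] at h5
      exact Nat.card_pos.ne' h5.symm
    have h8 := bg56exc_arith (n := n) hq hQi hDq he he0 (by rw [← hn, h4, h5])
    rw [hn, h8, ← hn, h4]
  refine ⟨C ⊓ S, ⟨hQS, inf_le_right, hdisj, ?_⟩, ?_⟩
  · -- surjectivity by counting
    let f : ↥Q × ↥(C ⊓ S) → ↥S := fun x =>
      ⟨(x.1 : G) * (x.2 : G), S.mul_mem (hQS x.1.2) x.2.2.2⟩
    have hinj : Function.Injective f := by
      rintro ⟨⟨a, ha⟩, ⟨b, hb⟩⟩ ⟨⟨a', ha'⟩, ⟨b', hb'⟩⟩ hab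
      have hab' : a * b = a' * b' := congrArg Subtype.val hab
      have hmem : a'⁻¹ * a ∈ Q ⊓ (C ⊓ S) := by
        refine Subgroup.mem_inf.mpr ⟨Q.mul_mem (Q.inv_mem ha') ha, ?_⟩
        have h1 : a'⁻¹ * a = b' * b⁻¹ := by
          have : a = a' * b' * b⁻¹ := by rw [← hab']; group
          rw [this]; group
        rw [h1]
        exact Subgroup.mul_mem _ hb' (Subgroup.inv_mem _ hb)
      rw [hdisj, Subgroup.mem_bot] at hmem
      have haa : a = a' := by
        have : a = a' * (a'⁻¹ * a) := by group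
        rw [this, hmem, mul_one]
      subst haa
      have hbb : b = b' := mul_left_cancel hab'
      subst hbb
      rfl
    have hbij : Function.Bijective f := by
      rw [Nat.bijective_iff_injective_and_card]
      refine ⟨hinj, ?_⟩
      rw [Nat.card_prod, hcard]
    intro m hm
    obtain ⟨⟨a, b⟩, hab⟩ := hbij.2 ⟨m, hm⟩
    exact ⟨a, a.2, b, b.2, (congrArg Subtype.val hab).symm⟩
  · -- `K` normalizes `C ⊓ S`
    intro k hk
    rw [Subgroup.mem_normalizer_iff]
    intro d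
    have hkS := Subgroup.mem_normalizer_iff.mp (hSn (hKM hk)) d
    constructor
    · intro hd
      exact Subgroup.mem_inf.mpr
        ⟨C.mul_mem (C.mul_mem (hKC hk) (Subgroup.mem_inf.mp hd).1) (C.inv_mem (hKC hk)),
          hkS.mp (Subgroup.mem_inf.mp hd).2⟩
    · intro hd
      refine Subgroup.mem_inf.mpr ⟨?_, hkS.mpr (Subgroup.mem_inf.mp hd).2⟩
      have h1 : d = k⁻¹ * (k * d * k⁻¹) * k := by group
      rw [h1]
      exact C.mul_mem (C.mul_mem (C.inv_mem (hKC hk)) (Subgroup.mem_inf.mp hd).1) (hKC hk)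

end Cfsg.Agent.Helper22
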