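/-
CALL S1356 (helper99), piece T2NIL: `τ₂(M) ≠ ∅` forces `M_σ` nilpotent.
-/
import Mathlib
import Cfsg.Prelude.Def_OddOrderLocal
import Cfsg.Agent.S1417
import Cfsg.Agent.Helper22.BG10c

set_option autoImplicit false

namespace Cfsg.Agent.Helper22

open Cfsg Subgroup

universe u

variable {G : Type u} [Group G] [Finite G]

/-- T2NIL [S]. `τ₂(M) ≠ ∅` forces `M_σ` nilpotent. -/
theorem bg56_tau2_nil (hG : IsMinSimpleOddOrder G) {M : Subgroup G} (hM : IsCoatom M) {p : ℕ}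
    (hp : p ∈ tau2 M) : Group.IsNilpotent ↥(sigmaCore M) := by
  have hpp : p.Prime := hp.1
  have := Fact.mk hpp
  obtain ⟨A, hAM, hAc, hAe, hAcard⟩ := bg10_exists_elemAb_sq hpp hp.2.2.2
  have hAel : IsElementaryAbelian p A :=
    ⟨⟨⟨fun a b => Subtype.ext (hAc a a.2 b b.2)⟩⟩, hAe⟩
  exact (Cfsg.Agent.S1417.result hG M hM p hp A ⟨hAM, hAel, hAcard⟩).1

end Cfsg.Agent.Helper22
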