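/-
CALL S1376 (helper1), piece DEC: a factorisation `(K, U)` of `N` with `U ⊔ K = M ⊓ N`.
-/
import Mathlib
import Cfsg.Agent.S1351
import Cfsg.Agent.S1352
import Cfsg.Agent.S1375
import Cfsg.Agent.S1403
import Cfsg.Agent.Helper22.BG10b
import Cfsg.Agent.Helper22.Transitivity
import Cfsg.Agent.Helper23.Trans
import Cfsg.Agent.Helper23.FittingHall
import Cfsg.Agent.Helper54.BG14S
import Cfsg.Agent.Helper54.BG14T
import Cfsg.Agent.Helper54.BG14T4
import Cfsg.Agent.Helper78.BG157HC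

set_option autoImplicit false

namespace Cfsg.Agent.Helper22

open Cfsg Subgroup

universe u

variable {G : Type u} [Group G] [Finite G]

/-- A subgroup of `N` meeting `N_σ` trivially is a `σ(N)'`-group. -/
theorem c9dec_primes (hG : IsMinSimpleOddOrder G) {N Y : Subgroup G} (hN : IsCoatom N)
    (hYN : Y ≤ N) (hY : Y ⊓ sigmaCore N = ⊥) (p : ℕ) (hp : p.Prime) (hpd : p ∣ Nat.card Y) :
    p ∉ sigma N := by
  intro hσ
  haveI := Fact.mk hp
  obtain ⟨g, hg⟩ := exists_prime_orderOf_dvd_card' p hpd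
  have hgo : orderOf (g : G) = p := by rw [Subgroup.orderOf_coe]; exact hg
  have hgσ : (g : G) ∈ sigmaCore N := by
    refine Cfsg.Agent.Helper54.bg14s_mem_sigmaCore hG hN (hYN g.2) ?_
    intro q hq hqd
    rw [hgo] at hqd
    have : q = p := (Nat.prime_dvd_prime_iff_eq hq hp).mp hqd
    rw [this]; exact hσ
  have h1 : (g : G) ∈ Y ⊓ sigmaCore N := Subgroup.mem_inf.mpr ⟨g.2, hgσ⟩
  rw [hY, Subgroup.mem_bot] at h1
  rw [h1, orderOf_one] at hgo
  exact hp.one_lt.ne hgo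

/-- Conjugation by an element of `N` fixes `N`. -/
theorem c9dec_map_self {N : Subgroup G} {n : G} (hn : n ∈ N) :
    N.map (MulAut.conj n).toMonoidHom = N := by
  ext z
  rw [Cfsg.Agent.Helper54.bg14t_mem_map_conj]
  constructor
  · intro h
    have : z = n * (n⁻¹ * z * n) * n⁻¹ := by group
    rw [this]
    exact N.mul_mem (N.mul_mem hn h) (N.inv_mem hn)
  · intro h
    exact N.mul_mem (N.mul_mem (N.inv_mem hn) h) hn

/-- Conjugating a factorisation of `N` by an element of `N`. -/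
theorem c9dec_conj {N K U : Subgroup G} (hKU : IsSigmaDecomposition N K U) {n : G} (hn : n ∈ N) :
    IsSigmaDecomposition N (K.map (MulAut.conj n).toMonoidHom)
      (U.map (MulAut.conj n).toMonoidHom) := by
  have hNn := c9dec_map_self hn
  have hσn : (sigmaCore N).map (MulAut.conj n).toMonoidHom = sigmaCore N := by
    have h := Cfsg.Agent.Helper54.bg14t_sigmaCore_conj N n
    rw [hNn] at h
    exact h.symm
  have hinj : Function.Injective (MulAut.conj n).toMonoidHom := (MulAut.conj n).injective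
  obtain ⟨hcyc, hhall, hcompl, hnorm⟩ := hKU
  refine ⟨?_, ?_, ?_, ?_⟩
  · haveI := hcyc
    exact isCyclic_of_surjective (K.equivMapOfInjective _ hinj) (K.equivMapOfInjective _ hinj).surjective
  · obtain ⟨h1, h2, h3⟩ := hhall
    refine ⟨?_, ?_, ?_⟩
    · have := Subgroup.map_mono (f := (MulAut.conj n).toMonoidHom) h1
      rwa [hNn] at this
    · intro p hp hpd
      rw [Cfsg.Agent.Helper54.bg14t_card_map_conj] at hpd
      exact h2 p hp hpd
    · intro p hp hpk hpd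
      have e : (K.map (MulAut.conj n).toMonoidHom).relIndex N = K.relIndex N := by
        conv_lhs => rw [← hNn]
        exact Subgroup.relIndex_map_map_of_injective K N hinj
      rw [e] at hpd
      exact h3 p hp hpk hpd
  · obtain ⟨h1, h2, h3, h4⟩ := hcompl
    have hsup : (K ⊔ sigmaCore N).map (MulAut.conj n).toMonoidHom =
        K.map (MulAut.conj n).toMonoidHom ⊔ sigmaCore N := by
      rw [Subgroup.map_sup, hσn]
    rw [← hsup]
    refine ⟨?_, ?_, ?_, ?_⟩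
    · have := Subgroup.map_mono (f := (MulAut.conj n).toMonoidHom) h1
      rwa [hNn] at this
    · have := Subgroup.map_mono (f := (MulAut.conj n).toMonoidHom) h2
      rwa [hNn] at this
    · rw [← Subgroup.map_inf _ _ _ hinj, h3, Subgroup.map_bot]
    · intro m hm
      have hm' : n⁻¹ * m * n ∈ N := N.mul_mem (N.mul_mem (N.inv_mem hn) hm) hn
      obtain ⟨a, ha, b, hb, hab⟩ := h4 _ hm'
      refine ⟨n * a * n⁻¹, ?_, n * b * n⁻¹, ?_, ?_⟩
      · exact Subgroup.mem_map.mpr ⟨a, ha, by simp [MulAut.conj_apply]⟩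
      · exact Subgroup.mem_map.mpr ⟨b, hb, by simp [MulAut.conj_apply]⟩
      · have : m = n * (n⁻¹ * m * n) * n⁻¹ := by group
        rw [this, hab]; group
  · intro z hz
    rw [Cfsg.Agent.Helper54.bg14t_mem_map_conj] at hz
    have hz' := hnorm hz
    rw [Subgroup.mem_normalizer_iff] at hz' ⊢
    intro y
    rw [Cfsg.Agent.Helper54.bg14t_mem_map_conj, Cfsg.Agent.Helper54.bg14t_mem_map_conj]
    have h := hz' (n⁻¹ * y * n)
    have e : n⁻¹ * z * n * (n⁻¹ * y * n) * (n⁻¹ * z * n)⁻¹ = n⁻¹ * (z * y * z⁻¹) * n := by group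
    rw [e] at h
    exact h

/-- DEC. -/
theorem c9_dec (hG : IsMinSimpleOddOrder G) {M N : Subgroup G} (hM : IsCoatom M) (hN : IsCoatom N)
    {x : G} (hx : x ∈ sigmaCore M) (hx1 : x ≠ 1) (hxM : ¬ centralizer ({x} : Set G) ≤ M)
    (hxN : centralizer ({x} : Set G) ≤ N) (hkN : (kappa N).Nonempty) :
    ∃ K U : Subgroup G, IsSigmaDecomposition N K U ∧ K ≠ ⊥ ∧ U ≠ ⊥ ∧ U ⊔ K = M ⊓ N := by
  classical
  have hU : Cfsg.Agent.Helper22.BGUniq G :=
    fun K hK h1 h2 => Cfsg.Agent.S1403.result hG K hK h1 h2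
  obtain ⟨N', ⟨hN'c, hxN'⟩, huniq, -, -, -, hcompl, hlast⟩ :=
    Cfsg.Agent.S1375.result hG M hM x hx hx1 hxM
  have hNN : N = N' := huniq N hN hxN
  subst hNN
  obtain ⟨⟨K₀, hK₀⟩, hcyc⟩ := Cfsg.Agent.S1351.result hG N hN
  obtain ⟨⟨U₀, hKU₀⟩, -⟩ := Cfsg.Agent.S1352.result hG N hN K₀ (hcyc K₀ hK₀) hK₀
  obtain ⟨hσhall, -, -⟩ := Cfsg.Agent.Helper22.bg10_sigma_hall hG hU hN
  have hK₀N : K₀ ≤ N := hK₀.1
  obtain ⟨hU₀N, hKσN, hUdisj, hUprod⟩ := hKU₀.compl
  have hσN : sigmaCore N ≤ N := hσhall.1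
  have hσnorm : N ≤ normalizer ((sigmaCore N : Subgroup G) : Set G) :=
    Cfsg.Agent.Helper23.le_normalizer_piCoreOf (sigma N) N
  -- K₀ ≠ ⊥
  have hK₀1 : K₀ ≠ ⊥ := by
    obtain ⟨p, hp⟩ := hkN
    have hp' := hp
    obtain ⟨hpp, hpN, -, -⟩ := hp'
    intro h
    have h1 : K₀.relIndex N = Nat.card N := by
      rw [h, Subgroup.relIndex_bot_left]
    exact hK₀.2.2 p hpp hp (h1 ▸ hpN)
  -- K₀ ⊓ N_σ = ⊥
  have hKσ : K₀ ⊓ sigmaCore N = ⊥ := by
    refine (Subgroup.disjoint_of_coprime_natCard ?_).eq_bot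
    refine Nat.coprime_of_dvd ?_
    intro q hq h1 h2
    have h3 : q ∈ kappa N := hK₀.2.1 q hq h1
    exact h3.2.2.1 (Cfsg.Agent.Helper23.mem_of_dvd_card_piCoreOf (sigma N) N hq h2)
  -- (U₀ ⊔ K₀) ⊓ N_σ = ⊥
  have hXσ : (U₀ ⊔ K₀) ⊓ sigmaCore N = ⊥ := by
    rw [eq_bot_iff]
    intro g hg
    obtain ⟨hg1, hg2⟩ := Subgroup.mem_inf.mp hg
    rw [sup_comm] at hg1
    obtain ⟨k, hk, u, hu, rfl⟩ := exists_mul_of_mem_sup' hKU₀.normal hg1
    have hu' : u ∈ U₀ ⊓ (K₀ ⊔ sigmaCore N) := by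
      refine Subgroup.mem_inf.mpr ⟨hu, ?_⟩
      have : u = k⁻¹ * (k * u) := by group
      rw [this]
      exact Subgroup.mul_mem _ (Subgroup.mem_sup_left (K₀.inv_mem hk))
        (Subgroup.mem_sup_right hg2)
    rw [hUdisj, Subgroup.mem_bot] at hu'
    subst hu'
    rw [mul_one] at hg2 ⊢
    have : k ∈ K₀ ⊓ sigmaCore N := Subgroup.mem_inf.mpr ⟨hk, hg2⟩
    rw [hKσ] at this
    exact this
  have hXN : U₀ ⊔ K₀ ≤ N := sup_le hU₀N hK₀N
  -- `M ⊓ N` is a Hall `σ(N)'`-subgroup of `N`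
  obtain ⟨hc1, hc2, hc3, hc4⟩ := hcompl
  have hHall : IsPiHallOf {p | p ∉ sigma N} (M ⊓ N) N := by
    refine ⟨hc1, ?_, ?_⟩
    · intro p hp hpd
      exact c9dec_primes hG hN hc1 hc3 p hp hpd
    · intro p hp hpσ hpd
      have hcard := Cfsg.Agent.Helper23.card_of_isComplIn (M ⊓ N) (sigmaCore N) N
        ⟨hc1, hc2, hc3, hc4⟩
      have h2 : Nat.card ↥(M ⊓ N) * (M ⊓ N).relIndex N = Nat.card N := by
        have h1 := Subgroup.relIndex_mul_relIndex ⊥ (M ⊓ N) N bot_le hc1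
        rwa [Subgroup.relIndex_bot_left, Subgroup.relIndex_bot_left] at h1
      have h3 : (M ⊓ N).relIndex N = Nat.card (sigmaCore N) := by
        have h4 : Nat.card ↥(M ⊓ N) * (M ⊓ N).relIndex N =
            Nat.card ↥(M ⊓ N) * Nat.card (sigmaCore N) := by rw [h2, hcard]
        exact Nat.eq_of_mul_eq_mul_left Nat.card_pos h4
      rw [h3] at hpd
      exact hpσ (Cfsg.Agent.Helper23.mem_of_dvd_card_piCoreOf (sigma N) N hp hpd)
  obtain ⟨n, hn, hle⟩ := Cfsg.Agent.Helper78.bg157_hall_conj hG hN hHall hXN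
    (fun p hp hpd => c9dec_primes hG hN hXN hXσ p hp hpd)
  have hdec := c9dec_conj hKU₀ hn
  refine ⟨K₀.map (MulAut.conj n).toMonoidHom, U₀.map (MulAut.conj n).toMonoidHom, hdec, ?_, ?_, ?_⟩
  · intro h
    apply hK₀1
    rw [eq_bot_iff]
    intro z hz
    have : n * z * n⁻¹ ∈ K₀.map (MulAut.conj n).toMonoidHom :=
      Subgroup.mem_map.mpr ⟨z, hz, by simp [MulAut.conj_apply]⟩
    rw [h, Subgroup.mem_bot] at this
    rw [Subgroup.mem_bot]
    have e : z = n⁻¹ * (n * z * n⁻¹) * n := by group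
    rw [e, this]; group
  · exact (hlast _ _ hdec).1
  · rw [← Subgroup.map_sup]
    apply le_antisymm hle
    intro g hg
    have hgN : g ∈ N := hc1 hg
    have hgN' : n⁻¹ * g * n ∈ N := N.mul_mem (N.mul_mem (N.inv_mem hn) hgN) hn
    obtain ⟨u, hu, b, hb, hub⟩ := hUprod _ hgN'
    -- b ∈ K₀ ⊔ N_σ : b = k * s
    obtain ⟨k, hk, s, hs, rfl⟩ := exists_mul_of_mem_sup' (hK₀N.trans hσnorm) hb
    -- g = (n u k n⁻¹) (n s n⁻¹)
    have hs' : n * s * n⁻¹ ∈ sigmaCore N := by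
      have := (Subgroup.mem_normalizer_iff.mp (hσnorm hn) s).mp hs
      exact this
    have huk : n * (u * k) * n⁻¹ ∈ (U₀ ⊔ K₀).map (MulAut.conj n).toMonoidHom :=
      Subgroup.mem_map.mpr ⟨u * k, Subgroup.mul_mem _ (Subgroup.mem_sup_left hu)
        (Subgroup.mem_sup_right hk), by simp [MulAut.conj_apply]⟩
    have hg_eq : g = (n * (u * k) * n⁻¹) * (n * s * n⁻¹) := by
      have e : g = n * (n⁻¹ * g * n) * n⁻¹ := by group
      rw [e, hub]; group
    have hs1 : n * s * n⁻¹ ∈ (M ⊓ N) ⊓ sigmaCore N := by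
      refine Subgroup.mem_inf.mpr ⟨?_, hs'⟩
      have e : n * s * n⁻¹ = (n * (u * k) * n⁻¹)⁻¹ * g := by rw [hg_eq]; group
      rw [e]
      exact Subgroup.mul_mem _ (Subgroup.inv_mem _ (hle huk)) hg
    rw [hc3, Subgroup.mem_bot] at hs1
    rw [hg_eq, hs1, mul_one]
    exact huk

end Cfsg.Agent.Helper22
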