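/-
helper22: CALL S1351A, PIECE MH.
-/
import Cfsg.Agent.Helper22.BG13iDefs
import Cfsg.Agent.Helper22.BG14Main
import Cfsg.Agent.S1378

set_option autoImplicit false

namespace Cfsg.Agent.Helper22

open Cfsg Subgroup Cfsg.Agent.Helper23 Cfsg.Agent.Helper35

universe u

variable {G : Type u} [Group G] [Finite G]

/-- PIECE MH. `P ≤ M ⊓ H` of prime order `p ∈ σ(H)`, `H` not conjugate to `M`: `M_σ ⊓ H`
centralizes `P`. -/
theorem bg13i_inf_le_cent (hG : IsMinSimpleOddOrder G) {M H P : Subgroup G} (hM : IsCoatom M)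
    (hH : IsCoatom H) (hnc : ∀ g : G, H ≠ M.map (MulAut.conj g).toMonoidHom) {p : ℕ}
    (hpH : p ∈ sigma H) (hPc : Nat.card P = p) (hPM : P ≤ M) (hPH : P ≤ H) :
    sigmaCore M ⊓ H ≤ centralizer (P : Set G) := by
  have hU : BGUniq G := fun K hK h1 h2 => Cfsg.Agent.S1403.result hG K hK h1 h2
  have hσp : BGSigmaPart G := (Cfsg.Agent.S1378.result hG).2
  have hpp : p.Prime := hpH.1
  have hPp : IsPGroup p P := IsPGroup.of_card (n := 1) (by rw [hPc, pow_one])
  have hPσ : P ≤ sigmaCore H := bg12_le_sigmaCore hG hU hH hpp hpH hPH hPp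
  have hbot : sigmaCore M ⊓ sigmaCore H = ⊥ := bg14_inf_eq_bot (fun u hu h1 h2 => by
    have h1' := mem_of_dvd_card_piCoreOf (sigma M) M hu h1
    have h2' := mem_of_dvd_card_piCoreOf (sigma H) H hu h2
    obtain ⟨g, hg⟩ := hσp M H hM hH ⟨u, h1', h2'⟩
    exact hnc g hg)
  rintro d ⟨hdσ, hdH⟩
  rw [mem_centralizer_iff]
  intro x hx
  have h1 : d * x * d⁻¹ * x⁻¹ ∈ sigmaCore M ⊓ sigmaCore H := by
    constructor
    · have hxN : x ∈ normalizer ((sigmaCore M : Subgroup G) : Set G) :=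
        le_normalizer_piCoreOf (sigma M) M (hPM hx)
      have h2 : x * d⁻¹ * x⁻¹ ∈ sigmaCore M :=
        (mem_normalizer_iff.mp hxN d⁻¹).mp (Subgroup.inv_mem _ hdσ)
      have e : d * x * d⁻¹ * x⁻¹ = d * (x * d⁻¹ * x⁻¹) := by group
      rw [e]
      exact Subgroup.mul_mem _ hdσ h2
    · have hdN : d ∈ normalizer ((sigmaCore H : Subgroup G) : Set G) :=
        le_normalizer_piCoreOf (sigma H) H hdH
      have h2 : d * x * d⁻¹ ∈ sigmaCore H := (mem_normalizer_iff.mp hdN x).mp (hPσ hx)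
      exact Subgroup.mul_mem _ h2 (Subgroup.inv_mem _ (hPσ hx))
  rw [hbot, mem_bot] at h1
  calc x * d = (d * x * d⁻¹ * x⁻¹)⁻¹ * (d * x) := by group
    _ = d * x := by rw [h1, inv_one, one_mul]

end Cfsg.Agent.Helper22
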