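/-
helper22: S1351 parts (A)+(B) in the form consumed by part (C): `Helper49.StarAB G`.
-/
import Cfsg.Agent.Helper22.BG13iCore
import Cfsg.Agent.Helper62.BG51AB

set_option autoImplicit false

namespace Cfsg.Agent.Helper22

open Cfsg Subgroup

universe u

variable {G : Type u} [Group G] [Finite G]

/-- Parts (A)+(B) of S1351: helper49's hypothesis `StarAB G` holds. -/
theorem bg13i_star_AB (hG : IsMinSimpleOddOrder G) : Cfsg.Agent.Helper49.StarAB G :=
  Cfsg.Agent.Helper62.bg51_star_AB hG (fun _ _ _ _ h => bg13i_cent_E hG h)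

end Cfsg.Agent.Helper22
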