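/-
helper22: CALL S1366 (helper2, B&G Theorem 14.7), PIECE ABS (double).
-/
import Cfsg.Agent.Helper2.BG147Defs
import Cfsg.Agent.Helper22.Transitivity
import Cfsg.Agent.Helper35.HallCoprime

set_option autoImplicit false

namespace Cfsg.Agent.Helper22

open Cfsg Subgroup

universe u

variable {G : Type u} [Group G] [Finite G]

/-- PIECE ABS (A7, PURE). A Hall `π`-subgroup absorbs the `π`-subgroups it normalizes. -/
theorem bg147_hall_absorb {π : Set ℕ} {K B M : Subgroup G} (hK : IsPiHallOf π K M)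
    (hBM : B ≤ M) (hB : ∀ p : ℕ, p.Prime → p ∣ Nat.card B → p ∈ π)
    (hn : K ≤ normalizer (B : Set G)) : B ≤ K := by
  have hKM : K ≤ M := hK.1
  have hle : K ≤ K ⊔ B := le_sup_left
  have hSM : K ⊔ B ≤ M := sup_le hKM hBM
  have hdvd : Nat.card ↥(K ⊔ B) ∣ Nat.card K * Nat.card B :=
    Helper22.card_sup_dvd_of_le_normalizer hn
  have hcard : Nat.card K * K.relIndex (K ⊔ B) = Nat.card ↥(K ⊔ B) := by
    have h' := Subgroup.card_mul_index (K.subgroupOf (K ⊔ B))
    rwa [Cfsg.Agent.Helper35.card_subgroupOf_of_le hle] at h'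
  have hidx : K.relIndex (K ⊔ B) = 1 := by
    by_contra h1
    obtain ⟨p, hp, hpd⟩ := Nat.exists_prime_and_dvd h1
    have hpS : p ∣ Nat.card ↥(K ⊔ B) := by
      rw [← hcard]; exact Dvd.dvd.mul_left hpd _
    have hpπ : p ∈ π := by
      rcases (Nat.Prime.dvd_mul hp).mp (hpS.trans hdvd) with h | h
      · exact hK.2.1 p hp h
      · exact hB p hp h
    apply hK.2.2 p hp hpπ
    rw [← Subgroup.relIndex_mul_relIndex K (K ⊔ B) M hle hSM]
    exact Dvd.dvd.mul_right hpd _
  exact le_sup_right.trans (Subgroup.relIndex_eq_one.mp hidx)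

end Cfsg.Agent.Helper22
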