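/-
helper22: CALL S1366 (helper2, B&G Theorem 14.7), PIECE CEQ.
-/
import Cfsg.Agent.Helper22.BG147GOOD
import Cfsg.Agent.Helper54.BG14T3
import Cfsg.Agent.Helper49.BG14U

set_option autoImplicit false

namespace Cfsg.Agent.Helper22

open Cfsg Subgroup

universe u

variable {G : Type u} [Group G] [Finite G]

/-- The orders of `K` (a `κ(M)`-group) and of `M_σ` are coprime. -/
theorem bg147h_coprime {M K : Subgroup G} (hK : IsPiHallOf (kappa M) K M) :
    (Nat.card K).Coprime (Nat.card (sigmaCore M)) := by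
  apply Nat.Coprime.symm
  apply Nat.coprime_of_dvd
  intro q hq h1 h2
  exact (hK.2.1 q hq h2).2.2.1 (Cfsg.Agent.Helper23.mem_of_dvd_card_piCoreOf (sigma M) M hq h1)

/-- PIECE CEQ (E1). `C_G(x y) = Z` for non-identity `x ∈ K`, `y ∈ K*` (`K*` cyclic). -/
theorem bg147_cent_eq (hG : IsMinSimpleOddOrder G) {M K U : Subgroup G} (hM : IsCoatom M)
    (hKU : IsSigmaDecomposition M K U) (hK1 : K ≠ ⊥)
    (hKsc : IsCyclic ↥(sigmaCore M ⊓ centralizer (K : Set G))) {x y : G} (hx : x ∈ K)
    (hx1 : x ≠ 1) (hy : y ∈ sigmaCore M ⊓ centralizer (K : Set G)) (hy1 : y ≠ 1) :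
    centralizer ({x * y} : Set G) = K ⊔ (sigmaCore M ⊓ centralizer (K : Set G)) := by
  obtain ⟨-, -, -, -, h5, hU1⟩ := Cfsg.Agent.Helper23.bg14_pkg hG hM hKU hK1
  have hKc := Cfsg.Agent.Helper68.bg14r_comm_of_cyclic hKU.cyclic
  have hKsc' := Cfsg.Agent.Helper68.bg14r_comm_of_cyclic hKsc
  have hxy : Commute x y := (mem_centralizer_iff.mp hy.2 x hx)
  have hcop : (orderOf x).Coprime (orderOf y) := by
    have h1 : orderOf x ∣ Nat.card K := by
      have h := orderOf_dvd_natCard (⟨x, hx⟩ : K)
      rwa [Subgroup.orderOf_mk] at h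
    have h2 : orderOf y ∣ Nat.card (sigmaCore M) := by
      have h := orderOf_dvd_natCard (⟨y, hy.1⟩ : sigmaCore M)
      rwa [Subgroup.orderOf_mk] at h
    exact Nat.Coprime.coprime_dvd_left h1 (Nat.Coprime.coprime_dvd_right h2
      (bg147h_coprime hKU.hall))
  obtain ⟨hxz, hyz⟩ := Cfsg.Agent.Helper54.bg14t_mem_zpowers_mul hxy hcop
  apply le_antisymm
  · intro c hc
    have hcx : c ∈ centralizer ({x} : Set G) :=
      bg147h_cent_le (d := x * y) (Y := zpowers x) (zpowers_le.mpr hxz) hc
        |> fun h => by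
          rw [mem_centralizer_iff] at h ⊢
          intro w hw
          rw [Set.mem_singleton_iff] at hw
          subst hw
          exact h _ (mem_zpowers _)
    have hcy : c ∈ centralizer ({y} : Set G) :=
      bg147h_cent_le (d := x * y) (Y := zpowers y) (zpowers_le.mpr hyz) hc
        |> fun h => by
          rw [mem_centralizer_iff] at h ⊢
          intro w hw
          rw [Set.mem_singleton_iff] at hw
          subst hw
          exact h _ (mem_zpowers _)
    obtain ⟨Y, hYy, hYp⟩ := bg147h_prime_zpowers hy1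
    have hcM : c ∈ M := (hU1 Y (hYy.trans (zpowers_le.mpr hy)) hYp).1 (bg147h_cent_le hYy hcy)
    rw [← h5 x hx hx1]
    exact ⟨hcM, hcx⟩
  · rw [sup_le_iff]
    constructor
    · intro k hk
      rw [mem_centralizer_iff]
      intro w hw
      rw [Set.mem_singleton_iff] at hw
      subst hw
      have h1 : x * k = k * x := hKc x hx k hk
      have h2 : y * k = k * y := (mem_centralizer_iff.mp hy.2 k hk).symm
      calc x * y * k = x * (k * y) := by rw [mul_assoc, h2]
        _ = k * (x * y) := by rw [← mul_assoc, h1, mul_assoc]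
    · intro k hk
      rw [mem_centralizer_iff]
      intro w hw
      rw [Set.mem_singleton_iff] at hw
      subst hw
      have h1 : x * k = k * x := mem_centralizer_iff.mp hk.2 x hx
      have h2 : y * k = k * y := hKsc' y hy k hk
      calc x * y * k = x * (k * y) := by rw [mul_assoc, h2]
        _ = k * (x * y) := by rw [← mul_assoc, h1, mul_assoc]

end Cfsg.Agent.Helper22
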