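/-
helper22: CALL S1366 (helper2, B&G Theorem 14.7), PIECE CUNIQ (double).
-/
import Cfsg.Agent.Helper2.BG147Defs
import Cfsg.Agent.Helper47.Syl
import Cfsg.Agent.Helper54.BG14T4

set_option autoImplicit false

namespace Cfsg.Agent.Helper22

open Cfsg Subgroup

universe u

variable {G : Type u} [Group G] [Finite G]

/-- PIECE CUNIQ (E4, PURE). Transport of "the only maximal subgroup over `C_G(Y)`" under
conjugation. -/
theorem bg147_conj_uniq {H N Y : Subgroup G} (c : G) (hH : IsCoatom H)
    (hYH : centralizer (Y : Set G) ≤ H)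
    (hN : ∀ L : Subgroup G, IsCoatom L →
      centralizer ((Y.map (MulAut.conj c).toMonoidHom : Subgroup G) : Set G) ≤ L → L = N) :
    H = N.map (MulAut.conj c⁻¹).toMonoidHom := by
  have h1 : centralizer ((Y.map (MulAut.conj c).toMonoidHom : Subgroup G) : Set G) ≤
      H.map (MulAut.conj c).toMonoidHom := by
    intro z hz
    rw [Cfsg.Agent.Helper54.bg14t_mem_map_conj]
    apply hYH
    rw [mem_centralizer_iff] at hz ⊢
    intro y hy
    have h2 := hz (c * y * c⁻¹) ⟨y, hy, by simp⟩
    calc y * (c⁻¹ * z * c) = c⁻¹ * (c * y * c⁻¹ * z) * c := by group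
      _ = c⁻¹ * (z * (c * y * c⁻¹)) * c := by rw [h2]
      _ = c⁻¹ * z * c * y := by group
  have h3 := hN _ (Cfsg.Agent.Helper47.isCoatom_map_conj hH c) h1
  rw [← h3, Cfsg.Agent.Helper54.bg14t_map_conj_inv]

end Cfsg.Agent.Helper22
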