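/-
helper22: CALL S1366 (helper2, B&G Theorem 14.7), PIECES EPS and MEET (doubles).
-/
import Cfsg.Agent.Helper22.BG147GOOD

set_option autoImplicit false

namespace Cfsg.Agent.Helper22

open Cfsg Subgroup

universe u

variable {G : Type u} [Group G] [Finite G]

/-- PIECE EPS (E5, PURE). A nontrivial subgroup contains a subgroup of prime order. -/
theorem bg147_exists_prime_sub {K : Subgroup G} (hK1 : K ≠ ⊥) :
    ∃ X : Subgroup G, X ≤ K ∧ (Nat.card X).Prime := by
  obtain ⟨⟨d, hd⟩, hd1'⟩ := Subgroup.ne_bot_iff_exists_ne_one.mp hK1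
  have hd1 : d ≠ 1 := fun h => hd1' (Subtype.ext h)
  obtain ⟨Y, hY, hYp⟩ := bg147h_prime_zpowers hd1
  exact ⟨Y, hY.trans (zpowers_le.mpr hd), hYp⟩

/-- PIECE MEET (E3, PURE). Two subsets with more than half of the elements meet. -/
theorem bg147_meet (A B : Set G) (hA : Nat.card G < 2 * Set.ncard A)
    (hB : Nat.card G < 2 * Set.ncard B) : ∃ a : G, a ∈ A ∧ a ∈ B := by
  by_contra hcon
  push Not at hcon
  have hd : Disjoint A B := Set.disjoint_left.mpr hcon
  have h1 : (A ∪ B).ncard = A.ncard + B.ncard := Set.ncard_union_eq hd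
  have h2 : (A ∪ B).ncard ≤ Nat.card G := Set.ncard_le_card _
  omega

end Cfsg.Agent.Helper22
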