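/-
helper22: CALL S1366 (helper2, B&G Theorem 14.7), PIECE HALF.
-/
import Cfsg.Agent.Helper22.BG147CEQ
import Cfsg.Agent.Helper10.BGSD4
import Cfsg.Agent.Helper35.HallCoprime
import Cfsg.Agent.S1370

set_option autoImplicit false

namespace Cfsg.Agent.Helper22

open Cfsg Subgroup

universe u

variable {G : Type u} [Group G] [Finite G]

/-- Arithmetic core of HALF. -/
theorem bg147h_arith {k ks A N g : ℕ} (hk : Odd k) (hks : Odd ks) (hk1 : k ≠ 1) (hks1 : ks ≠ 1)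
    (hcop : k.Coprime ks) (hA : A + k + ks = k * ks + 1) (hN : N * (k * ks) = A * g)
    (hg : 0 < g) : g < 2 * N := by
  obtain ⟨a, rfl⟩ := hk
  obtain ⟨b, rfl⟩ := hks
  have ha : 1 ≤ a := by omega
  have hb : 1 ≤ b := by omega
  have hab : a ≠ b := by
    rintro rfl
    rw [Nat.coprime_self] at hcop
    omega
  have hA' : A = 4 * a * b := by nlinarith
  subst hA'
  have key : (2 * a + 1) * (2 * b + 1) < 2 * (4 * a * b) := by
    rcases Nat.lt_or_ge a 2 with h | h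
    · have ha1 : a = 1 := by omega
      subst ha1
      have hb2 : 2 ≤ b := by omega
      nlinarith
    · nlinarith [Nat.zero_le ((a - 2) * (b - 1)), mul_le_mul h hb (by omega : 0 ≤ 1) (by omega : 0 ≤ a)]
  by_contra hcon
  push Not at hcon
  have h1 : 2 * N * ((2 * a + 1) * (2 * b + 1)) ≤ g * ((2 * a + 1) * (2 * b + 1)) :=
    Nat.mul_le_mul_right _ hcon
  have h2 : 2 * N * ((2 * a + 1) * (2 * b + 1)) = 2 * (4 * a * b) * g := by
    rw [mul_assoc, hN]; ring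
  rw [h2] at h1
  have h1' : 2 * (4 * a * b) * g ≤ (2 * a + 1) * (2 * b + 1) * g := by
    rw [mul_comm g] at h1
    exact h1
  have h3 : 2 * (4 * a * b) ≤ (2 * a + 1) * (2 * b + 1) := Nat.le_of_mul_le_mul_right h1' hg
  omega

/-- PIECE HALF (E2). The class support of `Ẑ` has more than `|G| / 2` elements. -/
theorem bg147_half (hG : IsMinSimpleOddOrder G) {M K U : Subgroup G} (hM : IsCoatom M)
    (hKU : IsSigmaDecomposition M K U) (hK1 : K ≠ ⊥) :
    Nat.card G < 2 * Set.ncard {a : G | ∃ g : G, ∃ z ∈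
      ((↑(K ⊔ (sigmaCore M ⊓ centralizer (K : Set G))) : Set G) \
        ((K : Set G) ∪ ↑(sigmaCore M ⊓ centralizer (K : Set G)))), a = g * z * g⁻¹} := by
  classical
  obtain ⟨hTI, hN⟩ := Cfsg.Agent.S1370.result hG M hM K U hKU hK1
  obtain ⟨-, -, -, hKs1, -, -⟩ := Cfsg.Agent.Helper23.bg14_pkg hG hM hKU hK1
  obtain ⟨Ks, hKsdef⟩ : ∃ Ks : Subgroup G, Ks = sigmaCore M ⊓ centralizer (K : Set G) :=
    ⟨_, rfl⟩
  rw [← hKsdef] at hTI hN hKs1 ⊢
  obtain ⟨A, hAdef⟩ : ∃ A : Set G, A = (↑(K ⊔ Ks) : Set G) \ ((K : Set G) ∪ ↑Ks) := ⟨_, rfl⟩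
  rw [← hAdef] at hTI hN ⊢
  have hKsσ : Ks ≤ sigmaCore M := hKsdef ▸ inf_le_left
  have hKsC : Ks ≤ centralizer (K : Set G) := hKsdef ▸ inf_le_right
  have hbot : K ⊓ Ks = ⊥ := by
    rw [eq_bot_iff, ← Cfsg.Agent.Helper49.bg14u_kappa_inf_sigma hKU.hall.2.1]
    exact inf_le_inf_left _ hKsσ
  have hinv : ∀ u ∈ K ⊔ Ks, ∀ a ∈ A, u * a * u⁻¹ ∈ A := by
    intro u hu a ha
    have hu' : u ∈ Subgroup.normalizer A := by rw [hN]; exact hu
    exact (Subgroup.mem_set_normalizer_iff.mp hu' a).mp ha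
  have h1A : (1 : G) ∉ A := by
    rw [hAdef]
    exact fun h => h.2 (Or.inl K.one_mem)
  have hTI' : ∀ a ∈ A, ∀ c : G, c * a * c⁻¹ ∈ A → c ∈ K ⊔ Ks := by
    intro a ha c hc
    by_contra hcZ
    have hcN : c ∉ Subgroup.normalizer A := by rw [hN]; exact hcZ
    have h := hTI c hcN a ha hc
    exact h1A (h ▸ ha)
  have hcount := Cfsg.Agent.Helper10.bgs_card_conj (K ⊔ Ks) A hinv hTI'
  have hZc : Nat.card ↥(K ⊔ Ks) = Nat.card K * Nat.card Ks :=
    Cfsg.Agent.Helper35.card_sup_of_le_normalizer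
      (hKsC.trans (Subgroup.centralizer_le_normalizer _)) hbot
  -- the size of `A`
  have hsub : ((K : Set G) ∪ ↑Ks) ⊆ (↑(K ⊔ Ks) : Set G) := by
    rintro w (hw | hw)
    · exact (le_sup_left : K ≤ K ⊔ Ks) hw
    · exact (le_sup_right : Ks ≤ K ⊔ Ks) hw
  have hA1 : A.ncard + ((K : Set G) ∪ ↑Ks).ncard = (↑(K ⊔ Ks) : Set G).ncard := by
    rw [hAdef]
    exact Set.ncard_sdiff_add_ncard_of_subset hsub
  have hA2 : ((K : Set G) ∪ ↑Ks).ncard + ((K : Set G) ∩ ↑Ks).ncard =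
      (K : Set G).ncard + (Ks : Set G).ncard := Set.ncard_union_add_ncard_inter _ _
  have hA3 : ((K : Set G) ∩ ↑Ks).ncard = 1 := by
    have : ((K : Set G) ∩ ↑Ks) = {1} := by
      rw [← Subgroup.coe_inf, hbot, Subgroup.coe_bot]
    rw [this, Set.ncard_singleton]
  have e1 : (K : Set G).ncard = Nat.card K := (Nat.card_coe_set_eq (K : Set G)).symm
  have e2 : (Ks : Set G).ncard = Nat.card Ks := (Nat.card_coe_set_eq (Ks : Set G)).symm
  have e3 : (↑(K ⊔ Ks) : Set G).ncard = Nat.card ↥(K ⊔ Ks) :=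
    (Nat.card_coe_set_eq (↑(K ⊔ Ks) : Set G)).symm
  rw [e1, e2, hA3] at hA2
  rw [e3, hZc] at hA1
  have hA : A.ncard + Nat.card K + Nat.card Ks = Nat.card K * Nat.card Ks + 1 := by omega
  rw [hZc] at hcount
  have hoddK : Odd (Nat.card K) := Odd.of_dvd_nat hG.1 (Subgroup.card_subgroup_dvd_card K)
  have hoddKs : Odd (Nat.card Ks) := Odd.of_dvd_nat hG.1 (Subgroup.card_subgroup_dvd_card Ks)
  have hk1 : Nat.card K ≠ 1 := fun h => hK1 (Subgroup.card_eq_one.mp h)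
  have hks1 : Nat.card Ks ≠ 1 := fun h => hKs1 (Subgroup.card_eq_one.mp h)
  have hcop : (Nat.card K).Coprime (Nat.card Ks) :=
    Nat.Coprime.coprime_dvd_right (Subgroup.card_dvd_of_le hKsσ) (bg147h_coprime hKU.hall)
  exact bg147h_arith hoddK hoddKs hk1 hks1 hcop hA hcount Nat.card_pos

end Cfsg.Agent.Helper22
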