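/-
helper22: CALL S1366 (helper2, B&G Theorem 14.7), PIECE KSK (double).
-/
import Cfsg.Agent.Helper2.BG147Defs
import Cfsg.Agent.Helper20.BG147PA
import Cfsg.Agent.Helper1.BG147KAP
import Cfsg.Agent.Helper23.BG14U1
import Cfsg.Agent.S1352
import Cfsg.Agent.S1378

set_option autoImplicit false

namespace Cfsg.Agent.Helper22

open Cfsg Subgroup

universe u

variable {G : Type u} [Group G] [Finite G]

/-- PIECE KSK (A4). Every prime divisor of `|K*|` lies in `κ(L)`. -/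
theorem bg147_ks_kappa (hG : IsMinSimpleOddOrder G) {M K X L : Subgroup G} (hM : IsCoatom M)
    (hK : IsPiHallOf (kappa M) K M) (hKc : IsCyclic K) (hK1 : K ≠ ⊥) (hXK : X ≤ K)
    (hXp : (Nat.card X).Prime) (hL : IsCoatom L) (hN : normalizer (X : Set G) ≤ L) :
    ∀ t : ℕ, t.Prime → t ∣ Nat.card ↥(sigmaCore M ⊓ centralizer (K : Set G)) → t ∈ kappa L := by
  intro t ht htd
  obtain ⟨hXσ, hnc, -, hKsL, -⟩ := Cfsg.Agent.Helper20.bg147_pa hG hM hK hKc hK1 hXK hXp hL hN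
  obtain ⟨U, hKU⟩ := (Cfsg.Agent.S1352.result hG M hM K hKc hK).1
  obtain ⟨-, -, -, -, -, hU1⟩ := Cfsg.Agent.Helper23.bg14_pkg hG hM hKU hK1
  have := Fact.mk ht
  obtain ⟨y, hy⟩ := exists_prime_orderOf_dvd_card'
    (G := ↥(sigmaCore M ⊓ centralizer (K : Set G))) t htd
  obtain ⟨Y, hYdef⟩ : ∃ Y : Subgroup G, Y = zpowers (y : G) := ⟨_, rfl⟩
  have hYc : Nat.card Y = t := by rw [hYdef, Nat.card_zpowers, Subgroup.orderOf_coe, hy]
  have hYK : Y ≤ sigmaCore M ⊓ centralizer (K : Set G) := by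
    rw [hYdef, zpowers_le]; exact y.2
  have htσM : t ∈ sigma M := Cfsg.Agent.Helper23.mem_of_dvd_card_piCoreOf (sigma M) M ht
    (htd.trans (Subgroup.card_dvd_of_le inf_le_left))
  have htσL : t ∉ sigma L := fun h => by
    obtain ⟨g, hg⟩ := (Cfsg.Agent.S1378.result hG).2 M L hM hL ⟨t, htσM, h⟩
    exact hnc g hg
  have hX1 : X ≠ ⊥ := by
    intro h
    rw [h, Subgroup.card_bot] at hXp
    exact Nat.not_prime_one hXp
  have hne : sigmaCore L ⊓ centralizer (Y : Set G) ≠ ⊥ := by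
    intro h
    apply hX1
    rw [eq_bot_iff, ← h]
    refine le_inf hXσ ?_
    intro x hx
    rw [mem_centralizer_iff]
    intro w hw
    exact (mem_centralizer_iff.mp (hYK hw).2 x (hXK hx)).symm
  have hML : M ≠ L := by
    intro h
    apply hnc 1
    rw [← h]
    ext w
    simp
  have hnu : ∃ H : Subgroup G, IsCoatom H ∧ centralizer (Y : Set G) ≤ H ∧ H ≠ L :=
    ⟨M, hM, (hU1 Y hYK (hYc ▸ ht)).1, hML⟩
  exact Cfsg.Agent.Helper1.bg147_mem_kappa hG hL ht htσL (hYK.trans hKsL) hYc hne hnu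

end Cfsg.Agent.Helper22
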