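/-
helper22: CALL S1366 (helper2, B&G Theorem 14.7), PIECE NCJ (double).
-/
import Cfsg.Agent.Helper2.BG147Defs
import Cfsg.Agent.Helper54.BG147EQS
import Cfsg.Agent.Helper54.BG14T4
import Cfsg.Agent.Helper68.BG14R30
import Cfsg.Agent.Helper24.BG13V
import Cfsg.Agent.Helper22.BG12b
import Cfsg.Agent.S1354

set_option autoImplicit false

namespace Cfsg.Agent.Helper22

open Cfsg Subgroup

universe u

variable {G : Type u} [Group G] [Finite G]

/-- PIECE NCJ (C6). Distinct members of the family are not conjugate. -/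
theorem bg147_nconj (hG : IsMinSimpleOddOrder G) (hcyc : Cfsg.Agent.Helper2.Cyc51 G)
    {M K L K₁ Q L' : Subgroup G} (hM : IsCoatom M) (hK : IsPiHallOf (kappa M) K M)
    (hK1 : K ≠ ⊥) (hp : Cfsg.Agent.Helper2.BGPair M K L K₁) (hQK : Q ≤ K)
    (hQp : (Nat.card Q).Prime)
    (hL' : IsCoatom L') (hN : normalizer (Q : Set G) ≤ L') (hne : L' ≠ L) :
    ∀ g : G, L' ≠ L.map (MulAut.conj g).toMonoidHom := by
  intro g hg
  have hU : BGUniq G := fun K hK h1 h2 => Cfsg.Agent.S1403.result hG K hK h1 h2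
  have hKc := hcyc M K hM hK
  have hUse : Cfsg.Agent.Helper68.BGUse1 G := fun M P H p hM hpp hpσ hp1 hPM hP hD hH hNP =>
    Cfsg.Agent.Helper24.bg13u_over_sigma hG hM hpp hpσ hp1 hPM hP hD hH hNP
  have hKs1 := (Cfsg.Agent.S1354.result hG M hM K hKc hK).1
  have hD : sigmaCore M ⊓ centralizer (Q : Set G) ≠ ⊥ := by
    intro h
    apply hKs1
    rw [eq_bot_iff, ← h]
    exact inf_le_inf_left _ (Subgroup.centralizer_le (show (Q : Set G) ⊆ K from hQK))
  have hQσ' : Q ≤ sigmaCore L' :=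
    Cfsg.Agent.Helper68.bg14r_le_sigmaCore hG hUse hM hK hQK hQp hD hL' hN
  have hqσ' : Nat.card Q ∈ sigma L' :=
    Cfsg.Agent.Helper23.mem_of_dvd_card_piCoreOf (sigma L') L' hQp (Subgroup.card_dvd_of_le hQσ')
  have hqσ : Nat.card Q ∈ sigma L := by
    rw [hg, Cfsg.Agent.Helper54.bg14t_sigma_conj] at hqσ'
    exact hqσ'
  have hQL : Q ≤ L := hQK.trans ((le_sup_left.trans hp.inf_eq.ge).trans inf_le_right)
  have hQσ : Q ≤ sigmaCore L := bg12_le_sigmaCore hG hU hp.coatom hQp hqσ hQL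
    (IsPGroup.of_card (n := 1) (by rw [pow_one]))
  exact hne (Cfsg.Agent.Helper54.bg147_eq_of_le_sigma hG hcyc hM hK hK1 hp hQK hQp hQσ hL'
    ((Subgroup.centralizer_le_normalizer _).trans hN))

end Cfsg.Agent.Helper22
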