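/-
helper22: row S1362 (B&G Lemma 14.2-type statement): `A(M) ∖ M_σ` is a TI-subset of `G`.
From S1361 (`C_G(X) ≤ M` uniquely for `1 ≠ X ≤ U` with `C_{M_σ}(X) ≠ 1`), S1352 (`U M_σ ⊴ M`) and
Hall conjugacy in `M`.
-/
import Cfsg.Agent.Helper22.BG14Main
import Cfsg.Agent.Helper49.BG14U
import Cfsg.Agent.Helper50.BG14CJ
import Cfsg.Agent.Helper47.Syl
import Cfsg.Agent.Helper23.BG1210b
import Cfsg.Agent.S1361

set_option autoImplicit false

namespace Cfsg.Agent.Helper22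

open Cfsg Subgroup Cfsg.Agent.Helper22 Cfsg.Agent.Helper23 Cfsg.Agent.Helper35
open scoped Pointwise

universe u

variable {G : Type u} [Group G] [Finite G]

/-- For `a ∈ U M_σ ∖ M_σ` centralizing a non-identity element of `M_σ`, `M` is the unique maximal
subgroup containing `C_G(a ^ |M_σ|)`. -/
theorem bg14e_uniq (hG : IsMinSimpleOddOrder G) (hσp : BGSigmaPart G) {M K U : Subgroup G}
    (hM : IsCoatom M) (hKU : IsSigmaDecomposition M K U) {a : G} (haW : a ∈ U ⊔ sigmaCore M)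
    (haσ : a ∉ sigmaCore M) {y : G} (hy : y ∈ sigmaCore M) (hy1 : y ≠ 1) (hay : a * y = y * a) :
    centralizer ({a ^ Nat.card (sigmaCore M)} : Set G) ≤ M ∧
      ∀ L : Subgroup G, IsCoatom L →
        centralizer ({a ^ Nat.card (sigmaCore M)} : Set G) ≤ L → L = M := by
  have hU : BGUniq G := fun K hK h1 h2 => Cfsg.Agent.S1403.result hG K hK h1 h2
  obtain ⟨hE, hEU, -, -⟩ := Helper49.bg14u_setup hG hKU
  have hKc := hKU.cyclic
  have hK := hKU.hall
  have hKM : K ≤ M := hK.1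
  have hσM : sigmaCore M ≤ M := piCoreOf_le _ _
  have hSn : M ≤ normalizer (sigmaCore M : Set G) := le_normalizer_piCoreOf (sigma M) M
  obtain ⟨hUM, -, hinf, hUprod⟩ := hKU.compl
  have hWn := (bg14_1352 hG hσp hM hKc hK).2 U hKU
  have hUσ : U ⊓ sigmaCore M = ⊥ := by
    rw [eq_bot_iff, ← hinf]; exact inf_le_inf_left U le_sup_right
  have hcop : (Nat.card U).Coprime (Nat.card (sigmaCore M)) := by
    by_contra h
    obtain ⟨q, hq, h1, h2⟩ := Nat.Prime.not_coprime_iff_dvd.mp h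
    exact bg12_not_sigma_of_dvd hG hU hM hE hq (h1.trans (Subgroup.card_dvd_of_le le_sup_left))
      (mem_of_dvd_card_piCoreOf (sigma M) M hq h2)
  obtain ⟨u, hu, s, hs, rfl⟩ := exists_mul_of_mem_sup' (hUM.trans hSn) haW
  have huN : u ∈ normalizer (sigmaCore M : Set G) := hSn (hUM hu)
  have hs' : u * s * u⁻¹ ∈ sigmaCore M := (mem_normalizer_iff.mp huN s).mp hs
  have ha' : u * s = (u * s * u⁻¹) * u := by group
  obtain ⟨n, hn⟩ : ∃ n, n = Nat.card (sigmaCore M) := ⟨_, rfl⟩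
  obtain ⟨m, hm⟩ : ∃ m, m = Nat.card U := ⟨_, rfl⟩
  rw [← hn]
  obtain ⟨b, hb⟩ : ∃ b, b = (u * s) ^ n := ⟨_, rfl⟩
  rw [← hb]
  obtain ⟨s₁, hs₁, hb1⟩ := Helper49.bg14u_mul_pow hs' huN n
  obtain ⟨s₂, hs₂, hb2⟩ := Helper49.bg14u_mul_pow hs' huN m
  rw [← ha'] at hb1 hb2
  have hum : u ^ m = 1 := by rw [hm]; exact bg1210_pow_card_of_mem hu
  have hMW : ∀ w ∈ U ⊔ sigmaCore M, w ∈ M := fun w hw => (sup_le hUM hσM) hw
  have hbW : b ∈ U ⊔ sigmaCore M := by rw [hb]; exact pow_mem haW n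
  have hbM : b ∈ M := hMW b hbW
  -- `b ∉ M_σ`
  have hbσ : b ∉ sigmaCore M := by
    intro hbs
    rw [hb, hb1] at hbs
    have h1 : u ^ n ∈ sigmaCore M := by
      have h2 : u ^ n = s₁⁻¹ * (s₁ * u ^ n) := by group
      rw [h2]; exact mul_mem (inv_mem hs₁) hbs
    have h2 : u ^ n = 1 := by
      have h3 : u ^ n ∈ U ⊓ sigmaCore M := Subgroup.mem_inf.mpr ⟨pow_mem hu n, h1⟩
      rwa [hUσ, mem_bot] at h3
    have h3 : orderOf u ∣ Nat.gcd m n :=
      Nat.dvd_gcd (orderOf_dvd_of_pow_eq_one hum) (orderOf_dvd_of_pow_eq_one h2)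
    have h4 : Nat.gcd m n = 1 := by rw [hm, hn]; exact hcop
    rw [h4, Nat.dvd_one, orderOf_eq_one_iff] at h3
    apply haσ
    rw [h3, one_mul]; exact hs
  have hb1' : b ≠ 1 := fun h => hbσ (h ▸ (sigmaCore M).one_mem)
  -- `b ^ m = 1`
  have hbm : b ^ m = 1 := by
    rw [hb, ← pow_mul, mul_comm, pow_mul, hb2, hum, mul_one, hn]
    exact bg1210_pow_card_of_mem hs₂
  have hAcop : (Nat.card (zpowers b)).Coprime (Nat.card (sigmaCore M)) := by
    rw [Nat.card_zpowers]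
    have h1 : orderOf b ∣ Nat.card U := by rw [← hm]; exact orderOf_dvd_of_pow_eq_one hbm
    exact Nat.Coprime.coprime_dvd_left h1 hcop
  obtain ⟨l, hl, hlA⟩ := Helper50.bg14_conj_into hG hM hE
    (by rw [zpowers_le]; exact hbM) hAcop
  obtain ⟨c, hc⟩ : ∃ c, c = l⁻¹ * b * l := ⟨_, rfl⟩
  have hcE : c ∈ U ⊔ K := by rw [hc]; exact hlA b (mem_zpowers b)
  have hlinv : l⁻¹ ∈ M := inv_mem hl
  have hcW : c ∈ U ⊔ sigmaCore M := by
    have h1 := (mem_normalizer_iff.mp (hWn hlinv) b).mp hbW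
    rw [inv_inv] at h1
    rw [hc]; exact h1
  have hcU : c ∈ U := by
    obtain ⟨u', hu', s', hs', hcus⟩ := exists_mul_of_mem_sup' (hUM.trans hSn) hcW
    have h1 : s' ∈ (U ⊔ K) ⊓ sigmaCore M := by
      refine Subgroup.mem_inf.mpr ⟨?_, hs'⟩
      have h2 : s' = u'⁻¹ * c := by rw [hcus]; group
      rw [h2]; exact mul_mem (inv_mem (mem_sup_left hu')) hcE
    rw [hE.2.2.1, mem_bot] at h1
    rw [hcus, h1, mul_one]; exact hu'
  have hc1 : c ≠ 1 := by
    intro h
    apply hb1'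
    have h2 : b = l * c * l⁻¹ := by rw [hc]; group
    rw [h2, h]; group
  have hby : b * y = y * b := by
    rw [hb]
    exact (Commute.pow_left (show Commute (u * s) y from hay) n).eq
  -- `S1361` for `X = ⟨c⟩`
  have hX1 : zpowers c ≠ ⊥ := by
    intro h
    exact hc1 (by rw [← mem_bot, ← h]; exact mem_zpowers c)
  have hXc : sigmaCore M ⊓ centralizer ((zpowers c : Subgroup G) : Set G) ≠ ⊥ := by
    intro h
    have h1 : l⁻¹ * y * l ∈ sigmaCore M ⊓ centralizer ((zpowers c : Subgroup G) : Set G) := by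
      refine Subgroup.mem_inf.mpr ⟨?_, ?_⟩
      · have h2 := (mem_normalizer_iff.mp (hSn hlinv) y).mp hy
        rwa [inv_inv] at h2
      · have h3 : l⁻¹ * y * l * c = c * (l⁻¹ * y * l) := by
          rw [hc]
          calc l⁻¹ * y * l * (l⁻¹ * b * l) = l⁻¹ * (y * b) * l := by group
            _ = l⁻¹ * (b * y) * l := by rw [hby]
            _ = l⁻¹ * b * l * (l⁻¹ * y * l) := by group
        exact mem_centralizer_iff.mpr fun v hv => (bg127_comm_zpowers h3 v hv).symm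
    rw [h, mem_bot] at h1
    apply hy1
    have h2 : y = l * (l⁻¹ * y * l) * l⁻¹ := by group
    rw [h2, h1]; group
  obtain ⟨hCM, huniq⟩ := Cfsg.Agent.S1361.result hG M hM K U hKU (zpowers c)
    (by rw [zpowers_le]; exact hcU) hX1 hXc
  -- transfer to `b = l c l⁻¹`
  have hconj : ∀ z ∈ centralizer ({b} : Set G),
      l⁻¹ * z * l ∈ centralizer ((zpowers c : Subgroup G) : Set G) := by
    intro z hz
    have hzb : b * z = z * b := mem_centralizer_iff.mp hz b rfl
    have h3 : l⁻¹ * z * l * c = c * (l⁻¹ * z * l) := by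
      rw [hc]
      calc l⁻¹ * z * l * (l⁻¹ * b * l) = l⁻¹ * (z * b) * l := by group
        _ = l⁻¹ * (b * z) * l := by rw [hzb]
        _ = l⁻¹ * b * l * (l⁻¹ * z * l) := by group
    exact mem_centralizer_iff.mpr fun v hv => (bg127_comm_zpowers h3 v hv).symm
  refine ⟨?_, ?_⟩
  · intro z hz
    have h1 := hCM (hconj z hz)
    have h2 : z = l * (l⁻¹ * z * l) * l⁻¹ := by group
    rw [h2]; exact mul_mem (mul_mem hl h1) hlinv
  · intro L hL hCL
    have hL' := Helper47.isCoatom_map_conj hL l⁻¹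
    have h1 : centralizer ((zpowers c : Subgroup G) : Set G)
        ≤ L.map (MulAut.conj l⁻¹).toMonoidHom := by
      intro z hz
      have hzc : c * z = z * c := mem_centralizer_iff.mp hz c (mem_zpowers c)
      have h2 : l * z * l⁻¹ ∈ centralizer ({b} : Set G) := by
        rw [mem_centralizer_iff]
        intro x hx
        rw [Set.mem_singleton_iff] at hx
        have h3 : b = l * c * l⁻¹ := by rw [hc]; group
        rw [hx, h3]
        calc l * c * l⁻¹ * (l * z * l⁻¹) = l * (c * z) * l⁻¹ := by group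
          _ = l * (z * c) * l⁻¹ := by rw [hzc]
          _ = l * z * l⁻¹ * (l * c * l⁻¹) := by group
      refine Subgroup.mem_map.mpr ⟨l * z * l⁻¹, hCL h2, ?_⟩
      simp only [MulEquiv.coe_toMonoidHom, MulAut.conj_apply]
      group
    have h2 := huniq _ hL' h1
    -- `L = l M l⁻¹ = M`
    apply le_antisymm
    · intro x hx
      have h3 : l⁻¹ * x * l ∈ L.map (MulAut.conj l⁻¹).toMonoidHom := by
        refine Subgroup.mem_map.mpr ⟨x, hx, ?_⟩
        simp only [MulEquiv.coe_toMonoidHom, MulAut.conj_apply]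
        group
      rw [h2] at h3
      have h4 : x = l * (l⁻¹ * x * l) * l⁻¹ := by group
      rw [h4]; exact mul_mem (mul_mem hl h3) hlinv
    · intro x hx
      have h3 : l⁻¹ * x * l ∈ L.map (MulAut.conj l⁻¹).toMonoidHom := by
        rw [h2]; exact mul_mem (mul_mem hlinv hx) hl
      obtain ⟨w, hw, hwx⟩ := Subgroup.mem_map.mp h3
      simp only [MulEquiv.coe_toMonoidHom, MulAut.conj_apply] at hwx
      have h4 : x = w := by
        have h5 : x = l * (l⁻¹ * x * l) * l⁻¹ := by group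
        rw [h5, ← hwx]; group
      rw [h4]; exact hw

/-- Row S1362: `A(M) ∖ M_σ` is a TI-subset of `G`. -/
theorem bg14e_1362 (hG : IsMinSimpleOddOrder G) (hσp : BGSigmaPart G) {M K U : Subgroup G}
    (hM : IsCoatom M) (hKU : IsSigmaDecomposition M K U) :
    IsTISubset (sigmaA M U \ (sigmaCore M : Set G)) := by
  have hKc := hKU.cyclic
  have hK := hKU.hall
  have hSn : M ≤ normalizer (sigmaCore M : Set G) := le_normalizer_piCoreOf (sigma M) M
  have hWn := (bg14_1352 hG hσp hM hKc hK).2 U hKU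
  -- `M` normalizes the set
  have hfwd : ∀ m ∈ M, ∀ n ∈ sigmaA M U \ (sigmaCore M : Set G),
      m * n * m⁻¹ ∈ sigmaA M U \ (sigmaCore M : Set G) := by
    rintro m hm n ⟨⟨⟨hnM, y, hy, hy1, hny⟩, hnW⟩, hnσ⟩
    refine ⟨⟨⟨mul_mem (mul_mem hm hnM) (inv_mem hm), m * y * m⁻¹, ?_, ?_, ?_⟩, ?_⟩, ?_⟩
    · exact (mem_normalizer_iff.mp (hSn hm) y).mp hy
    · intro h
      apply hy1
      have h2 : y = m⁻¹ * (m * y * m⁻¹) * m := by group
      rw [h2, h]; group
    · calc m * n * m⁻¹ * (m * y * m⁻¹) = m * (n * y) * m⁻¹ := by group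
        _ = m * (y * n) * m⁻¹ := by rw [hny]
        _ = m * y * m⁻¹ * (m * n * m⁻¹) := by group
    · exact (mem_normalizer_iff.mp (hWn hm) n).mp hnW
    · intro h
      exact hnσ ((mem_normalizer_iff.mp (hSn hm) n).mpr h)
  have hMN : M ≤ normalizer (sigmaA M U \ (sigmaCore M : Set G)) := by
    intro m hm
    rw [mem_set_normalizer_iff]
    intro n
    refine ⟨hfwd m hm n, fun h => ?_⟩
    have h1 := hfwd m⁻¹ (inv_mem hm) _ h
    have h2 : m⁻¹ * (m * n * m⁻¹) * m⁻¹⁻¹ = n := by group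
    rwa [h2] at h1
  intro g hg x hx hgx
  exfalso
  apply hg
  apply hMN
  obtain ⟨⟨⟨hxM, y, hy, hy1, hxy⟩, hxW⟩, hxσ⟩ := hx
  obtain ⟨⟨⟨hgxM, y', hy', hy1', hxy'⟩, hgxW⟩, hgxσ⟩ := hgx
  obtain ⟨hC, -⟩ := bg14e_uniq hG hσp hM hKU hxW hxσ hy hy1 hxy
  obtain ⟨-, huniq'⟩ := bg14e_uniq hG hσp hM hKU hgxW hgxσ hy' hy1' hxy'
  apply bg127_mem_of_conj_smul_eq hG hM
  have hL := Helper47.isCoatom_map_conj hM g
  have h1 : centralizer ({(g * x * g⁻¹) ^ Nat.card (sigmaCore M)} : Set G)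
      ≤ M.map (MulAut.conj g).toMonoidHom := by
    intro z hz
    have hzc : (g * x * g⁻¹) ^ Nat.card (sigmaCore M) * z
        = z * (g * x * g⁻¹) ^ Nat.card (sigmaCore M) := mem_centralizer_iff.mp hz _ rfl
    rw [conj_pow] at hzc
    have hz' : g⁻¹ * z * g ∈ centralizer ({x ^ Nat.card (sigmaCore M)} : Set G) := by
      rw [mem_centralizer_iff]
      intro w hw
      rw [Set.mem_singleton_iff] at hw
      rw [hw]
      calc x ^ Nat.card (sigmaCore M) * (g⁻¹ * z * g)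
          = g⁻¹ * (g * x ^ Nat.card (sigmaCore M) * g⁻¹ * z) * g := by group
        _ = g⁻¹ * (z * (g * x ^ Nat.card (sigmaCore M) * g⁻¹)) * g := by rw [hzc]
        _ = g⁻¹ * z * g * x ^ Nat.card (sigmaCore M) := by group
    refine Subgroup.mem_map.mpr ⟨g⁻¹ * z * g, hC hz', ?_⟩
    simp only [MulEquiv.coe_toMonoidHom, MulAut.conj_apply]
    group
  exact huniq' _ hL h1

end Cfsg.Agent.Helper22
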