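import Mathlib
import Cfsg.Agent.S1430
import Cfsg.Agent.S1431
import Cfsg.Agent.Helper35.HallCoprime

set_option autoImplicit false

namespace Cfsg.Agent.Helper22

open Cfsg Subgroup

universe u

variable {G : Type u} [Group G] [Finite G]

/-- NK. No non-identity element of a Hall `κ(M)`-subgroup centralizes a non-trivial Hall subgroup
`H` of `M_σ`. -/
theorem bg157_not_kappa (hG : IsMinSimpleOddOrder G) {M H K : Subgroup G} (hM : IsCoatom M)
    (hH : H ≤ sigmaCore M) (hH1 : H ≠ ⊥)
    (hHall : (Nat.card H).Coprime (H.relIndex (sigmaCore M)))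
    (hK : IsPiHallOf (kappa M) K M) {x : G} (hxK : x ∈ K) (hx1 : x ≠ 1)
    (hxH : x ∈ centralizer (H : Set G)) : False := by
  classical
  have hK1 : K ≠ ⊥ := by
    intro h
    rw [h] at hxK
    exact hx1 ((Subgroup.mem_bot).1 hxK)
  obtain ⟨h30, -, -⟩ := Cfsg.Agent.S1430.result hG M hM K hK hK1
  obtain ⟨-, -, h31, -⟩ := Cfsg.Agent.S1431.result hG M hM K hK hK1
  have hHKs : H ≤ sigmaCore M ⊓ centralizer (K : Set G) := by
    rw [← h30 x hxK hx1]
    refine le_inf hH ?_
    intro y hy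
    rw [Subgroup.mem_centralizer_iff]
    intro z hz
    rw [Set.mem_singleton_iff] at hz
    rw [hz]
    exact (Subgroup.mem_centralizer_iff.1 hxH y hy).symm
  have hcH : Nat.card H ≠ 1 := fun h => hH1 (Subgroup.card_eq_one.1 h)
  obtain ⟨t, ht, htH⟩ := Nat.exists_prime_and_dvd hcH
  have htf := Fact.mk ht
  have htKs : t ∣ Nat.card ↥(sigmaCore M ⊓ centralizer (K : Set G)) :=
    htH.trans (Subgroup.card_dvd_of_le hHKs)
  have hcardH' : Nat.card (H.subgroupOf (sigmaCore M)) = Nat.card H :=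
    Cfsg.Agent.Helper35.card_subgroupOf_of_le hH
  have hnt : ¬ t ∣ (H.subgroupOf (sigmaCore M)).index := by
    intro h
    have h1 : t ∣ Nat.gcd (Nat.card H) (H.relIndex (sigmaCore M)) := Nat.dvd_gcd htH h
    rw [hHall] at h1
    exact ht.one_lt.ne' (Nat.dvd_one.1 h1)
  have hfac : (Nat.card ↥(sigmaCore M)).factorization t =
      (Nat.card (H.subgroupOf (sigmaCore M))).factorization t := by
    have h1 := Subgroup.card_mul_index (H.subgroupOf (sigmaCore M))
    rw [← h1, Nat.factorization_mul Nat.card_pos.ne' Subgroup.index_ne_zero_of_finite,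
      Finsupp.add_apply, Nat.factorization_eq_zero_of_not_dvd hnt, add_zero]
  obtain ⟨Q⟩ : Nonempty (Sylow t ↥(H.subgroupOf (sigmaCore M))) := inferInstance
  have hcardQ : Nat.card ((Q : Subgroup ↥(H.subgroupOf (sigmaCore M))).map
      (H.subgroupOf (sigmaCore M)).subtype) =
      t ^ (Nat.card ↥(sigmaCore M)).factorization t := by
    rw [Subgroup.card_map_of_injective (Subgroup.subtype_injective _),
      Sylow.card_eq_multiplicity, hfac]
  have hSH : ((Sylow.ofCard _ hcardQ : Sylow t ↥(sigmaCore M)) :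
      Subgroup ↥(sigmaCore M)).map (sigmaCore M).subtype ≤ H := by
    rintro _ ⟨s, hs, rfl⟩
    rw [Sylow.coe_ofCard] at hs
    obtain ⟨q, -, rfl⟩ := hs
    exact Subgroup.mem_subgroupOf.1 q.2
  exact (h31 t ht htKs (Sylow.ofCard _ hcardQ)).2.2 (hSH.trans hHKs)

end Cfsg.Agent.Helper22
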