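import Cfsg.Agent.Helper54.BG13a
import Cfsg.Agent.Helper22.BG12a
import Cfsg.Agent.Helper20.BG13P4
import Cfsg.Agent.Helper24.BG11b
import Cfsg.Agent.Helper49.OddCyclic
import Cfsg.Agent.Helper62.BG12c
import Cfsg.Agent.Helper58.BG15NILU
import Cfsg.Agent.S1351
import Cfsg.Agent.S1352
import Cfsg.Agent.S1372
import Cfsg.Agent.S1417
import Cfsg.Agent.S1426

set_option autoImplicit false

namespace Cfsg.Agent.Helper22

open Cfsg Subgroup

universe u

section App

variable {G : Type u} [Group G] [Finite G]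

/-- E2. If `M_σ` is not nilpotent then `K ≠ 1` and `U = 1` in a standard factorisation. -/
theorem bg15_chain_KU (hG : IsMinSimpleOddOrder G) (M : Subgroup G) (hM : IsCoatom M)
    (hnn : ¬ Group.IsNilpotent ↥(sigmaCore M)) :
    ∃ K U : Subgroup G, IsSigmaDecomposition M K U ∧ K ≠ ⊥ ∧ U = ⊥ := by
  have hU : Helper22.BGUniq G := fun K hK h1 h2 => Cfsg.Agent.S1403.result hG K hK h1 h2
  obtain ⟨⟨K, hK⟩, hKc⟩ := Cfsg.Agent.S1351.result hG M hM
  obtain ⟨⟨U, hKU⟩, -⟩ := Cfsg.Agent.S1352.result hG M hM K (hKc K hK) hK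
  have hK1 : K ≠ ⊥ := by
    intro hKbot
    -- κ(M) is empty
    have hκ : ∀ q : ℕ, q ∉ kappa M := by
      intro q hq
      have h1 := hK.2.2 q hq.1 hq
      rw [hKbot, Subgroup.relIndex_bot_left] at h1
      exact h1 hq.2.1
    -- a complement
    obtain ⟨E, hE, -⟩ := Cfsg.Agent.Helper20.bg13_exists_compl_ge hG hU hM (K := ⊥) bot_le
      (by rw [Subgroup.card_bot]; exact Nat.coprime_one_left _)
    have hS1 : sigmaCore M ≠ ⊥ := Cfsg.Agent.Helper24.bg11b_sigmaCore_ne_bot hG hU hM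
    have hE1 : E ≠ ⊥ := by
      intro hEbot
      apply hS1
      have h26 := (Cfsg.Agent.S1426.result hG M hM E hE).2.1
      rw [hEbot] at h26
      rw [← h26, eq_bot_iff]
      exact Subgroup.commutator_le_right _ _
    -- a prime divisor of |E|
    have hcE : Nat.card E ≠ 1 := fun h => hE1 (Subgroup.card_eq_one.1 h)
    obtain ⟨r, hr, hrE⟩ := Nat.exists_prime_and_dvd hcE
    have hrf := Fact.mk hr
    have hrσ : r ∉ sigma M := Helper22.bg12_not_sigma_of_dvd hG hU hM hE hr hrE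
    have hrM : r ∣ Nat.card M := hrE.trans (Subgroup.card_dvd_of_le hE.1)
    have hrk2 : PRankLE r 2 ↥M := Helper22.bg10_pRank_of_not_alpha M r hr
      (fun hα => hrσ (Helper22.bg10_alpha_sub_sigma hG hU hM hα))
    have hrk1 : PRankLE r 1 ↥M := by
      by_contra hrk
      have hτ : r ∈ tau2 M := ⟨hr, hrσ, hrk2, hrk⟩
      obtain ⟨A, hAM, hAc, hAe, hAcard⟩ := Helper22.bg10_exists_elemAb_sq hr hrk
      have hAel : IsElementaryAbelian r A :=
        ⟨⟨⟨fun a b => Subtype.ext (hAc a a.2 b b.2)⟩⟩, hAe⟩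
      exact hnn (Cfsg.Agent.S1417.result hG M hM r hτ A ⟨hAM, hAel, hAcard⟩).1
    have hr2 : r ≠ 2 := Cfsg.Agent.Helper62.BG12.odd_prime_ne_two hG hr hrM
    have hnκ := hκ r
    have hex : ∃ P : Sylow r ↥M, ∀ x : ↥M, x ∈ (P : Subgroup ↥M) → x ≠ 1 →
        ∀ y ∈ sigmaCore M, y ≠ 1 → (x : G) * y ≠ y * x := by
      by_contra hcon
      push Not at hcon
      apply hnκ
      refine ⟨hr, hrM, hrσ, fun P => ⟨?_, ?_⟩⟩
      · exact Cfsg.Agent.Helper49.isCyclic_sylow_of_pRankLE_one hr2 hrk1 P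
      · obtain ⟨x, hxP, hx1, y, hy, hy1, hxy⟩ := hcon P
        exact ⟨x, hxP, hx1, y, hy, hy1, hxy⟩
    obtain ⟨P, hP⟩ := hex
    have hP1 : (P : Subgroup ↥M) ≠ ⊥ := P.ne_bot_of_dvd_card hrM
    have hrP : r ∣ Nat.card (P : Subgroup ↥M) :=
      Cfsg.Agent.Helper23.dvd_card_of_isPGroup_ne_bot P.isPGroup' hP1
    obtain ⟨b, hb⟩ := exists_prime_orderOf_dvd_card' r hrP
    have hb1 : ((b : ↥M)) ≠ 1 := by
      intro h
      have h2 : b = 1 := Subtype.ext h
      rw [h2, orderOf_one] at hb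
      exact hr.one_lt.ne hb
    have hbr : (((b : ↥M) : G)) ^ r = 1 := by
      have h1 : b ^ r = 1 := by
        have h0 := pow_orderOf_eq_one b
        rwa [hb] at h0
      have h2 := congrArg (fun z : ↥(P : Subgroup ↥M) => ((z : ↥M) : G)) h1
      simpa using h2
    apply hnn
    refine Cfsg.Agent.Helper54.bg13_nilpotent_of_fpf hr (b : ↥M).2 hbr ?_
    intro y hy hby
    by_contra hy1
    exact hP (b : ↥M) b.2 hb1 y hy hy1 hby
  refine ⟨K, U, hKU, hK1, ?_⟩
  by_contra hU1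
  exact hnn (Cfsg.Agent.Helper58.bg15_sigma_nilpotent_of_le_fitting M
    (Cfsg.Agent.S1372.result hG M hM K U hKU hK1 hU1).2.2)

end App

end Cfsg.Agent.Helper22
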