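/-
CALL S1538 (helper22), piece SIG: an element of `M` with a conjugate in `M_σ` lies in `M_σ`.
-/
import Mathlib
import Cfsg.Agent.Helper23.Trans
import Cfsg.Agent.Helper54.BG14S

set_option autoImplicit false

namespace Cfsg.Agent.Helper22

open Cfsg Subgroup

universe u

variable {G : Type u} [Group G] [Finite G]

/-- SIG. An element `a ∈ M` with a conjugate in `M_σ` lies in `M_σ`. -/
theorem bg38_sigma_conj (hG : IsMinSimpleOddOrder G) {M : Subgroup G} (hM : IsCoatom M) {a g : G}
    (ha : a ∈ M) (hga : g * a * g⁻¹ ∈ sigmaCore M) : a ∈ sigmaCore M := by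
  refine Cfsg.Agent.Helper54.bg14s_mem_sigmaCore hG hM ha ?_
  intro q hq hqd
  have ho : orderOf (g * a * g⁻¹) = orderOf a :=
    orderOf_injective (MulAut.conj g).toMonoidHom (MulAut.conj g).injective a
  have h1 : orderOf (⟨g * a * g⁻¹, hga⟩ : ↥(sigmaCore M)) = orderOf a := by
    rw [← ho]
    exact Subgroup.orderOf_mk _ hga
  have h2 : q ∣ Nat.card ↥(sigmaCore M) := by
    refine hqd.trans ?_
    rw [← h1]
    exact orderOf_dvd_natCard _
  exact Cfsg.Agent.Helper23.mem_of_dvd_card_piCoreOf (sigma M) M hq h2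

end Cfsg.Agent.Helper22
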