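/-
CALL S1538 (helper22), piece TIA1: `M_σ` meets none of its conjugates by `g ∉ M` (`K ≠ 1`, `U ≠ 1`).
-/
import Mathlib
import Cfsg.Agent.S1372
import Cfsg.Agent.Helper1.BGUniqA

set_option autoImplicit false

namespace Cfsg.Agent.Helper22

open Cfsg Subgroup

universe u

variable {G : Type u} [Group G] [Finite G]

/-- TIA1. `M_σ` meets none of its conjugates by `g ∉ M` (for `K ≠ 1`, `U ≠ 1`). -/
theorem bg38_TI_sigma (hG : IsMinSimpleOddOrder G) {M K U : Subgroup G} (hM : IsCoatom M)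
    (hKU : IsSigmaDecomposition M K U) (hK1 : K ≠ ⊥) (hU1 : U ≠ ⊥)
    (hnorm : ∀ {X : Set G}, X ⊆ (M : Set G) → (∀ m ∈ M, ∀ x ∈ X, m * x * m⁻¹ ∈ X) →
      (∃ x ∈ X, x ≠ 1) → normalizer X = M)
    {g a : G} (hg : g ∉ M) (ha : a ∈ sigmaCore M) (ha1 : a ≠ 1)
    (hga : g * a * g⁻¹ ∈ sigmaCore M) : False := by
  obtain ⟨-, hTI, hσF⟩ := Cfsg.Agent.S1372.result hG M hM K U hKU hK1 hU1
  have hN : normalizer ((fittingOf M : Subgroup G) : Set G) = M := by
    refine hnorm (fun x hx => Cfsg.Agent.Helper1.bgu_fittingOf_le M hx) ?_ ⟨a, hσF ha, ha1⟩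
    intro m hm x hx
    exact (Subgroup.mem_normalizer_iff.mp
      (Cfsg.Agent.Helper1.bgu_le_normalizer_fittingOf M hm) x).mp hx
  have hg' : g ∉ normalizer ((fittingOf M : Subgroup G) : Set G) := by
    rw [hN]
    exact hg
  exact ha1 (hTI g hg' a (hσF ha) (hσF hga))

end Cfsg.Agent.Helper22
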