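/-
Row S1538 (helper22, CALL BG38): a maximal subgroup `M` of Type II has `A₀(M)`, `A(M)`, `A₁(M)`
TI-subsets of `G` with set-normalizer `M`.  Assembly of the pieces of the CALL.
-/
import Mathlib
import Cfsg.Agent.S1351
import Cfsg.Agent.S1352
import Cfsg.Agent.S1362
import Cfsg.Agent.S1364
import Cfsg.Agent.S1365
import Cfsg.Agent.S1366
import Cfsg.Agent.S1372
import Cfsg.Agent.S1381
import Cfsg.Agent.S1434
import Cfsg.Agent.Helper1.BG16cT2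
import Cfsg.Agent.Helper10.BG17MF
import Cfsg.Agent.Helper20.BG16cSZ
import Cfsg.Agent.Helper23.Trans
import Cfsg.Agent.Helper51.BG56DNORM
import Cfsg.Agent.Helper11.BG38NORM
import Cfsg.Agent.Helper11.BG38EXP
import Cfsg.Agent.Helper11.BG38CYCP
import Cfsg.Agent.Helper41.BG38CONJC
import Cfsg.Agent.Helper41.BG38ZHAT
import Cfsg.Agent.Helper22.BG38SIG
import Cfsg.Agent.Helper22.BG38NF
import Cfsg.Agent.Helper22.BG38TIA1
import Cfsg.Agent.Helper72.BG38WCONJ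
import Cfsg.Agent.Helper72.BG38ZM
import Cfsg.Agent.Helper4.BG38TIA2

set_option autoImplicit false

namespace Cfsg.Agent.Helper22

open Cfsg Subgroup

universe u

variable {G : Type u} [Group G] [Finite G]

/-- Row S1538. -/
theorem bg38_main (hG : IsMinSimpleOddOrder G) (M : Subgroup G) (hM : IsCoatom M)
    (hII : IsOfTypeII M) :
    (IsTISubset (typeA0 M) ∧ normalizer (typeA0 M) = M) ∧
      (IsTISubset (typeA M) ∧ normalizer (typeA M) = M) ∧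
      (IsTISubset (typeA1 M) ∧ normalizer (typeA1 M) = M) := by
  classical
  -- standard factorisation
  obtain ⟨⟨K, hK⟩, hKc⟩ := Cfsg.Agent.S1351.result hG M hM
  obtain ⟨⟨U, hKU⟩, -⟩ := Cfsg.Agent.S1352.result hG M hM K (hKc K hK) hK
  obtain ⟨hK1, hU1⟩ := (Cfsg.Agent.S1381.result hG M hM K U hKU).mp hII
  have hF : fittingHallOf M = sigmaCore M := Cfsg.Agent.Helper10.bg17_MF_eq hG hM hKU hK1 hU1
  have hder : ⁅M, M⁆ = U ⊔ sigmaCore M := (Cfsg.Agent.S1365.result hG M hM K U hKU hK1).1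
  have hσM : sigmaCore M ≤ M := Cfsg.Agent.Helper23.piCoreOf_le _ _
  have hσD : sigmaCore M ≤ ⁅M, M⁆ := by rw [hder]; exact le_sup_right
  obtain ⟨hDM, hDn, -, -⟩ := Cfsg.Agent.Helper51.bg56_der_norm M
  have hσn : M ≤ normalizer (sigmaCore M : Set G) :=
    Cfsg.Agent.Helper23.le_normalizer_piCoreOf (sigma M) M
  have hnorm : ∀ {X : Set G}, X ⊆ (M : Set G) → (∀ m ∈ M, ∀ x ∈ X, m * x * m⁻¹ ∈ X) →
      (∃ x ∈ X, x ≠ 1) → normalizer X = M := fun h1 h2 h3 => Cfsg.Agent.Helper11.bg38_normalizer_eq hG hM h1 h2 h3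
  -- a non-identity element of `M_σ`
  obtain ⟨y₀, hy₀, hy₀1⟩ : ∃ y ∈ sigmaCore M, y ≠ 1 := by
    have h := (Cfsg.Agent.S1364.result hG M hM K U hKU hK1).2.1
    obtain ⟨⟨y, hy⟩, hy1⟩ := (Subgroup.ne_bot_iff_exists_ne_one).mp h
    exact ⟨y, hy.1, fun h1 => hy1 (Subtype.ext h1)⟩
  -- not of Type I
  obtain ⟨r, hr⟩ : (kappa M).Nonempty := by
    have h1 : Nat.card K ≠ 1 := fun h => hK1 (Subgroup.eq_bot_of_card_eq K h)
    exact ⟨_, hKU.hall.2.1 _ (Nat.minFac_prime h1) (Nat.minFac_dvd _)⟩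
  have hnI : ¬ IsOfTypeI M := fun h =>
    Cfsg.Agent.Helper22.bg38_not_typeF hG hM hr hF (fun h1 _ h2 h3 => Cfsg.Agent.Helper11.bg38_exists_order h1 h2 h3)
      (fun h1 _ h2 h3 _ _ h4 h5 h6 h7 => Cfsg.Agent.Helper11.bg38_mem_zpowers h1 h2 h3 h4 h5 h6 h7) h.1
  -- not of Type III or IV
  have hn34 : ¬ (IsOfTypeIII M ∨ IsOfTypeIV M) := by
    rintro (⟨W₁, U₃, W₂, hP, -, -, -, -, hn⟩ | ⟨W₁, U₃, W₂, hP, -, -, -, -, hn⟩)
    · exact Cfsg.Agent.Helper1.bg16c_type2_false hG hM hKU hK1 hU1 hP.U_compl hn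
        (fun h1 h2 h3 h4 h5 => Cfsg.Agent.Helper20.bg16c_compl_conj h1 h2 h3 h4 h5)
    · exact Cfsg.Agent.Helper1.bg16c_type2_false hG hM hKU hK1 hU1 hP.U_compl hn
        (fun h1 h2 h3 h4 h5 => Cfsg.Agent.Helper20.bg16c_compl_conj h1 h2 h3 h4 h5)
  -- the three sets
  have hcore : typeCore M = sigmaCore M := by
    unfold typeCore
    rw [if_neg hn34, hF]
  have hA1 : typeA1 M = (↑(sigmaCore M) : Set G) \ {1} := by
    unfold typeA1
    rw [hcore]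
  have hA : typeA M = {a | a ∈ ⁅M, M⁆ ∧ a ≠ 1 ∧ ∃ x ∈ sigmaCore M, x ≠ 1 ∧ a * x = x * a} := by
    unfold typeA
    rw [if_neg hnI, hcore]
  -- TI core for `A(M)`
  have hTIA : ∀ g : G, g ∉ M → ∀ a ∈ typeA M, g * a * g⁻¹ ∈ typeA M → False := by
    intro g hg a ha hga
    rw [hA] at ha hga
    obtain ⟨haD, ha1, hax⟩ := ha
    obtain ⟨hgaD, -, hgax⟩ := hga
    by_cases haσ : a ∈ sigmaCore M
    · have hgaσ : g * a * g⁻¹ ∈ sigmaCore M := by
        refine Cfsg.Agent.Helper22.bg38_sigma_conj hG hM (g := g⁻¹) (hDM hgaD) ?_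
        have e : g⁻¹ * (g * a * g⁻¹) * g⁻¹⁻¹ = a := by group
        rw [e]
        exact haσ
      exact Cfsg.Agent.Helper22.bg38_TI_sigma hG hM hKU hK1 hU1 hnorm hg haσ ha1 hgaσ
    · have hgaσ : g * a * g⁻¹ ∉ sigmaCore M := fun h => haσ (Cfsg.Agent.Helper22.bg38_sigma_conj hG hM (hDM haD) h)
      exact Cfsg.Agent.Helper4.bg38_TI_off hG hM hKU hK1 hnorm hg haD haσ hax hgaD hgaσ hgax
  -- `A(M)`: inside `M`, `M`-invariant, contains `y₀`
  have hAM : typeA M ⊆ (M : Set G) := by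
    intro a ha
    rw [hA] at ha
    exact hDM ha.1
  have hAinv : ∀ m ∈ M, ∀ x ∈ typeA M, m * x * m⁻¹ ∈ typeA M := by
    intro m hm a ha
    rw [hA] at ha ⊢
    obtain ⟨haD, ha1, x, hx, hx1, hax⟩ := ha
    refine ⟨(Subgroup.mem_normalizer_iff.mp (hDn hm) a).mp haD, ?_, m * x * m⁻¹,
      (Subgroup.mem_normalizer_iff.mp (hσn hm) x).mp hx, ?_, ?_⟩
    · intro h
      apply ha1
      have e : a = m⁻¹ * (m * a * m⁻¹) * m := by group
      rw [e, h]; group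
    · intro h
      apply hx1
      have e : x = m⁻¹ * (m * x * m⁻¹) * m := by group
      rw [e, h]; group
    · have e1 : m * a * m⁻¹ * (m * x * m⁻¹) = m * (a * x) * m⁻¹ := by group
      have e2 : m * x * m⁻¹ * (m * a * m⁻¹) = m * (x * a) * m⁻¹ := by group
      rw [e1, e2, hax]
  have hy₀A : y₀ ∈ typeA M := by
    rw [hA]
    exact ⟨hσD hy₀, hy₀1, y₀, hy₀, hy₀1, rfl⟩
  have hNA : normalizer (typeA M) = M := hnorm hAM hAinv ⟨y₀, hy₀A, hy₀1⟩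
  -- `A₁(M)`
  have hA1M : typeA1 M ⊆ (M : Set G) := by
    intro a ha
    rw [hA1] at ha
    exact hσM ha.1
  have hA1inv : ∀ m ∈ M, ∀ x ∈ typeA1 M, m * x * m⁻¹ ∈ typeA1 M := by
    intro m hm a ha
    rw [hA1] at ha ⊢
    refine ⟨(Subgroup.mem_normalizer_iff.mp (hσn hm) a).mp ha.1, ?_⟩
    intro h
    apply ha.2
    have h' : m * a * m⁻¹ = 1 := h
    have e : a = m⁻¹ * (m * a * m⁻¹) * m := by group
    show a = 1
    rw [e, h']; group
  have hNA1 : normalizer (typeA1 M) = M :=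
    hnorm hA1M hA1inv ⟨y₀, by rw [hA1]; exact ⟨hy₀, hy₀1⟩, hy₀1⟩
  -- `A₀(M)`
  have hZ : ∀ {W₁ U' W₂ : Subgroup G}, IsTypePWith M W₁ U' W₂ → ∀ {w h : G}, w ∈ W₁ ⊔ W₂ →
      w ∉ W₁ → w ∉ W₂ → h ∉ M → h * w * h⁻¹ ∈ M → False := by
    intro W₁ U' W₂ hP w h hw hw1 hw2 hh hhw
    obtain ⟨n, hn, e1, e2⟩ := Cfsg.Agent.Helper72.bg38_W_conj hG hM hKU hK1 hP (fun h1 => Cfsg.Agent.Helper41.bg38_inf_cent_conj h1)
    rw [e1, e2] at hw
    rw [e1] at hw1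
    rw [e2] at hw2
    exact Cfsg.Agent.Helper72.bg38_Z_not_conj hG hM hKU hK1 hn (Cfsg.Agent.Helper41.bg38_zhat_conj hw hw1 hw2) hh hhw
  have hWM : ∀ {W₁ U' W₂ : Subgroup G}, IsTypePWith M W₁ U' W₂ → W₁ ⊔ W₂ ≤ M := by
    intro W₁ U' W₂ hP
    refine sup_le hP.W₁_compl.2.1 ((hP.W₂_le.trans inf_le_left).trans ?_)
    rw [hF]
    exact hσM
  have hA0M : typeA0 M ⊆ (M : Set G) := by
    rintro v (hv | ⟨-, W₁, U', W₂, hP, m, hm, w, hw, -, -, rfl⟩)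
    · exact hAM hv
    · exact M.mul_mem (M.mul_mem hm (hWM hP hw)) (M.inv_mem hm)
  have hA0inv : ∀ m ∈ M, ∀ x ∈ typeA0 M, m * x * m⁻¹ ∈ typeA0 M := by
    rintro m' hm' v (hv | ⟨hI, W₁, U', W₂, hP, m, hm, w, hw, hw1, hw2, rfl⟩)
    · exact Or.inl (hAinv m' hm' v hv)
    · exact Or.inr ⟨hI, W₁, U', W₂, hP, m' * m, M.mul_mem hm' hm, w, hw, hw1, hw2, by group⟩
  have hNA0 : normalizer (typeA0 M) = M := hnorm hA0M hA0inv ⟨y₀, Or.inl hy₀A, hy₀1⟩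
  have hTIA0 : ∀ g : G, g ∉ M → ∀ a ∈ typeA0 M, g * a * g⁻¹ ∈ typeA0 M → False := by
    intro g hg v hv hgv
    have hgvM : g * v * g⁻¹ ∈ M := hA0M hgv
    have hvM : v ∈ M := hA0M hv
    rcases hv with hv | ⟨-, W₁, U', W₂, hP, m, hm, w, hw, hw1, hw2, rfl⟩
    · rcases hgv with hgv | ⟨-, W₁, U', W₂, hP, m, hm, w, hw, hw1, hw2, e⟩
      · exact hTIA g hg v hv hgv
      · -- `v = (g⁻¹ m) w (g⁻¹ m)⁻¹`
        refine hZ hP hw hw1 hw2 (h := g⁻¹ * m) ?_ ?_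
        · intro h
          apply hg
          have e2 : g = m * (g⁻¹ * m)⁻¹ := by group
          rw [e2]
          exact M.mul_mem hm (M.inv_mem h)
        · have e2 : g⁻¹ * m * w * (g⁻¹ * m)⁻¹ = g⁻¹ * (m * w * m⁻¹) * g := by group
          rw [e2, ← e]
          have e3 : g⁻¹ * (g * v * g⁻¹) * g = v := by group
          rw [e3]
          exact hvM
    · refine hZ hP hw hw1 hw2 (h := g * m) ?_ ?_
      · intro h
        apply hg
        have e2 : g = g * m * m⁻¹ := by group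
        rw [e2]
        exact M.mul_mem h (M.inv_mem hm)
      · have e2 : g * m * w * (g * m)⁻¹ = g * (m * w * m⁻¹) * g⁻¹ := by group
        rw [e2]
        exact hgvM
  refine ⟨⟨?_, hNA0⟩, ⟨?_, hNA⟩, ⟨?_, hNA1⟩⟩
  · intro g hg x hx hgx
    rw [hNA0] at hg
    exact (hTIA0 g hg x hx hgx).elim
  · intro g hg x hx hgx
    rw [hNA] at hg
    exact (hTIA g hg x hx hgx).elim
  · intro g hg x hx hgx
    rw [hNA1] at hg
    rw [hA1] at hx hgx
    exact (Cfsg.Agent.Helper22.bg38_TI_sigma hG hM hKU hK1 hU1 hnorm hg hx.1 hx.2 hgx.1).elim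


end Cfsg.Agent.Helper22
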