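import Cfsg.Agent.Helper68.BG63Defs
import Cfsg.Agent.Helper23.BG12b
import Cfsg.Agent.Helper24.BG11b
import Cfsg.Agent.Helper49.OddCyclic
import Cfsg.Agent.Helper62.BG12c
import Cfsg.Agent.S1420
import Cfsg.Agent.S1417

set_option autoImplicit false

namespace Cfsg.Agent.Helper22

open Cfsg Subgroup

universe u

variable {G : Type u} [Group G] [Finite G]

/-- C2A. For a complement `E` of `H_σ` in `H`, the group `C_{E'}(H_σ)` is cyclic. -/
theorem bg63_W_cyclic (hG : IsMinSimpleOddOrder G) {H E : Subgroup G} (hH : IsCoatom H)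
    (hE : IsComplIn E (sigmaCore H) H) :
    IsCyclic ↥(⁅E, E⁆ ⊓ centralizer (sigmaCore H : Set G)) := by
  have hU : Helper22.BGUniq G := fun K hK h1 h2 => Cfsg.Agent.S1403.result hG K hK h1 h2
  obtain ⟨W, hW⟩ : ∃ W : Subgroup G, W = ⁅E, E⁆ ⊓ centralizer (sigmaCore H : Set G) :=
    ⟨_, rfl⟩
  rw [← hW]
  have hWE' : W ≤ ⁅E, E⁆ := by
    rw [hW]
    exact inf_le_left
  have hWc : W ≤ centralizer (sigmaCore H : Set G) := by
    rw [hW]
    exact inf_le_right
  have hWE : W ≤ E := hWE'.trans (Subgroup.commutator_le_self E)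
  have hWH : W ≤ H := hWE.trans hE.1
  have hE'ab : IsMulCommutative ↥⁅E, E⁆ := (Cfsg.Agent.S1420.result hG H hH E hE).2.1
  have hWcomm : ∀ a ∈ W, ∀ b ∈ W, a * b = b * a := by
    intro a ha b hb
    have h1 := hE'ab.is_comm.comm ⟨a, hWE' ha⟩ ⟨b, hWE' hb⟩
    exact congrArg Subtype.val h1
  have hWab : IsMulCommutative ↥W := ⟨⟨fun a b => Subtype.ext (hWcomm a a.2 b b.2)⟩⟩
  have hN : Group.IsNilpotent ↥W := by
    let _ : CommGroup ↥W :=
      { (inferInstance : Group ↥W) with mul_comm := fun a b => hWab.is_comm.comm a b }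
    exact CommGroup.isNilpotent
  by_contra hWcyc
  have hnz : ¬ IsZGroup ↥W := by
    intro hz
    exact hWcyc inferInstance
  rw [isZGroup_iff] at hnz
  push Not at hnz
  obtain ⟨t, ht, P, hP⟩ := hnz
  have htf := Fact.mk ht
  have hP1 : (P : Subgroup ↥W) ≠ ⊥ := by
    intro h
    apply hP
    rw [h]
    exact isCyclic_of_subsingleton
  have htW : t ∣ Nat.card W :=
    (Cfsg.Agent.Helper23.dvd_card_of_isPGroup_ne_bot P.isPGroup' hP1).trans
      (Subgroup.card_subgroup_dvd_card _)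
  have ht2 : t ≠ 2 := Cfsg.Agent.Helper62.BG12.odd_prime_ne_two hG ht htW
  have hrkW : ¬ PRankLE t 1 ↥W := fun hrk =>
    hP (Cfsg.Agent.Helper49.isCyclic_sylow_of_pRankLE_one ht2 hrk P)
  obtain ⟨A, hAW, hAc, hAe, hAcard⟩ := Helper22.bg10_exists_elemAb_sq ht hrkW
  have hAH : A ≤ H := hAW.trans hWH
  have hAel : IsElementaryAbelian t A :=
    ⟨⟨⟨fun a b => Subtype.ext (hAc a a.2 b b.2)⟩⟩, hAe⟩
  have htE : t ∣ Nat.card E := by
    have h1 : t ∣ Nat.card A := by
      rw [hAcard]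
      exact dvd_pow_self t (by norm_num)
    exact h1.trans (Subgroup.card_dvd_of_le (hAW.trans hWE))
  have htσ : t ∉ sigma H := Helper22.bg12_not_sigma_of_dvd hG hU hH hE ht htE
  have hrkH : ¬ PRankLE t 1 ↥H := by
    intro hrk
    have h1 := Cfsg.Agent.Helper23.bg12_card_le_of_pRankLE hrk hAH hAel
    rw [hAcard] at h1
    have h2 : t ^ 1 < t ^ 2 := Nat.pow_lt_pow_right ht.one_lt (by norm_num)
    omega
  have htτ : t ∈ tau2 H :=
    ⟨ht, htσ, Helper22.bg10_pRank_of_not_alpha H t ht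
      (fun hα => htσ (Helper22.bg10_alpha_sub_sigma hG hU hH hα)), hrkH⟩
  have h17 := (Cfsg.Agent.S1417.result hG H hH t htτ A ⟨hAH, hAel, hAcard⟩).2.2.2.1
  apply Cfsg.Agent.Helper24.bg11b_sigmaCore_ne_bot hG hU hH
  rw [eq_bot_iff, ← h17]
  refine le_inf le_rfl ?_
  intro s hs
  rw [Subgroup.mem_centralizer_iff]
  intro a ha
  exact (Subgroup.mem_centralizer_iff.mp (hWc (hAW ha)) s hs).symm

end Cfsg.Agent.Helper22
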