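import Cfsg.Agent.Helper68.BG63Defs
import Cfsg.Agent.Helper54.BG14S

set_option autoImplicit false

namespace Cfsg.Agent.Helper22

open Cfsg Subgroup Cfsg.Agent.Helper68

universe u

variable {G : Type u} [Group G] [Finite G]

/-- DEC. Every element of `U ≤ H` is a product of an element of `U ∩ H_σ` and a
`σ(H)'`-element of `U`. -/
theorem bg63_decomp (hG : IsMinSimpleOddOrder G) {H U : Subgroup G} (hH : IsCoatom H)
    (hUH : U ≤ H) {u : G} (hu : u ∈ U) :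
    ∃ a b : G, a ∈ U ∧ a ∈ sigmaCore H ∧ b ∈ bg63C (sigma H) U ∧ u = a * b := by
  obtain ⟨x, y, hx, hy, huxy, hxπ, hyπ⟩ := Cfsg.Agent.Helper54.bg14s_decomp (sigma H) u
  have hxU : x ∈ U := (zpowers_le.mpr hu) hx
  have hyU : y ∈ U := (zpowers_le.mpr hu) hy
  exact ⟨x, y, hxU, Cfsg.Agent.Helper54.bg14s_mem_sigmaCore hG hH (hUH hxU) hxπ,
    bg63C_mem_of _ hyU hyπ, huxy⟩

end Cfsg.Agent.Helper22
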