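import Cfsg.Agent.Helper68.BG63Defs
import Cfsg.Agent.Helper23.BG12b
import Cfsg.Agent.Helper54.BG14T4

set_option autoImplicit false

namespace Cfsg.Agent.Helper22

open Cfsg Subgroup

universe u

variable {G : Type u} [Group G] [Finite G]

/-- NM. A maximal subgroup over `N_G(R)`, `R` a Sylow `r`-subgroup of `M`, `r ∉ σ(M)`, is not
conjugate to `M`. -/
theorem bg63_nconj_M {M H R : Subgroup G} {r : ℕ} (hr : r.Prime) (hrσ : r ∉ sigma M)
    (hRM : R ≤ M) (hR1 : R ≠ ⊥) (hRr : IsPGroup r R) (hRi : ¬ r ∣ R.relIndex M)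
    (hNR : normalizer (R : Set G) ≤ H) :
    ∀ g : G, H ≠ M.map (MulAut.conj g).toMonoidHom := by
  intro g hHg
  have hrf := Fact.mk hr
  have hRH : R ≤ H := le_normalizer.trans hNR
  have hcard : Nat.card H = Nat.card M := by
    rw [hHg]
    exact Nat.card_congr ((MulAut.conj g).subgroupMap M).toEquiv.symm
  have hRiH : ¬ r ∣ R.relIndex H := by
    intro h
    apply hRi
    have h1 : Nat.card R * R.relIndex M = Nat.card M := by
      have h' := Subgroup.card_mul_index (R.subgroupOf M)
      rwa [Cfsg.Agent.Helper35.card_subgroupOf_of_le hRM] at h'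
    have h2 : Nat.card R * R.relIndex H = Nat.card H := by
      have h' := Subgroup.card_mul_index (R.subgroupOf H)
      rwa [Cfsg.Agent.Helper35.card_subgroupOf_of_le hRH] at h'
    have h3 : R.relIndex M = R.relIndex H := by
      have hpos : 0 < Nat.card R := Nat.card_pos
      apply Nat.eq_of_mul_eq_mul_left hpos
      rw [h1, h2, hcard]
    rw [h3]
    exact h
  have hS : Cfsg.Agent.Helper23.IsSylowOf r R H := by
    refine ⟨hRH, hRr, ?_⟩
    intro T hTH hT hRT
    have h3 : R.relIndex T * T.relIndex H = R.relIndex H :=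
      Subgroup.relIndex_mul_relIndex R T H hRT hTH
    have h4 : ¬ r ∣ R.relIndex T := fun h => hRiH (h3 ▸ Dvd.dvd.mul_right h _)
    obtain ⟨a, ha⟩ := (IsPGroup.iff_card).1 hT
    have h5 : R.relIndex T ∣ r ^ a := by
      rw [← ha]
      exact Subgroup.relIndex_dvd_card R T
    obtain ⟨b, -, hb⟩ := (Nat.dvd_prime_pow hr).1 h5
    have hb0 : b = 0 := by
      by_contra hne
      apply h4
      rw [hb]
      exact dvd_pow_self r hne
    rw [hb0, pow_zero] at hb
    exact le_antisymm (Subgroup.relIndex_eq_one.1 hb) hRT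
  have hmem := Cfsg.Agent.Helper23.bg12_mem_sigma hS hR1 hNR
  rw [hHg, Cfsg.Agent.Helper54.bg14t_sigma_conj] at hmem
  exact hrσ hmem

end Cfsg.Agent.Helper22
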