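/-
CALL BG83 (helper25, S1383), piece BAS2 (double): basic facts for `K ≠ 1`, `U = 1`.
-/
import Mathlib
import Cfsg.Agent.S1365
import Cfsg.Agent.S1426
import Cfsg.Agent.Helper91.BG17WZ
import Cfsg.Agent.Helper22.Transitivity
import Cfsg.Agent.Helper23.Trans

set_option autoImplicit false

namespace Cfsg.Agent.Helper22

open Cfsg Subgroup

universe u

variable {G : Type u} [Group G] [Finite G]

/-- `K` and `M_σ` have coprime orders. -/
theorem bg83bas_coprime {M K U : Subgroup G} (hKU : IsSigmaDecomposition M K U) :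
    (Nat.card K).Coprime (Nat.card (sigmaCore M)) := by
  refine Nat.coprime_of_dvd ?_
  intro q hq h1 h2
  have h3 : q ∈ kappa M := hKU.hall.2.1 q hq h1
  exact h3.2.2.1 (Cfsg.Agent.Helper23.mem_of_dvd_card_piCoreOf (sigma M) M hq h2)

/-- With `U = ⊥`, `K` is a complement of `M_σ` in `M`. -/
theorem bg83bas_compl {M K U : Subgroup G} (hKU : IsSigmaDecomposition M K U) (hU : U = ⊥) :
    IsComplIn K (sigmaCore M) M := by
  obtain ⟨hUM, hKσM, hdisj, hprod⟩ := hKU.compl
  have hKM : K ≤ M := hKU.hall.1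
  have hσM : sigmaCore M ≤ M := le_sup_right.trans hKσM
  have hσnorm : M ≤ normalizer ((sigmaCore M : Subgroup G) : Set G) :=
    Cfsg.Agent.Helper23.le_normalizer_piCoreOf (sigma M) M
  refine ⟨hKM, hσM, (Subgroup.disjoint_of_coprime_natCard (bg83bas_coprime hKU)).eq_bot, ?_⟩
  intro m hm
  obtain ⟨a, ha, b, hb, hab⟩ := hprod m hm
  rw [hU, Subgroup.mem_bot] at ha
  rw [ha, one_mul] at hab
  obtain ⟨k, hk, s, hs, hks⟩ := exists_mul_of_mem_sup' (hKM.trans hσnorm) hb
  exact ⟨k, hk, s, hs, by rw [hab, hks]⟩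

/-- BAS2. -/
theorem bg83_basic2 (hG : IsMinSimpleOddOrder G) {M K U : Subgroup G} (hM : IsCoatom M)
    (hKU : IsSigmaDecomposition M K U) (hK1 : K ≠ ⊥) (hU : U = ⊥)
    (hH : fittingHallOf M = sigmaCore M) :
    (∀ k ∈ K, k ≠ 1 → sigmaCore M ⊓ centralizer ({k} : Set G) =
        sigmaCore M ⊓ centralizer (K : Set G)) ∧
      ⁅sigmaCore M, K⁆ = sigmaCore M ∧ Odd (Nat.card K) ∧
      (Nat.card K).Coprime (Nat.card (sigmaCore M)) := by
  have hder : ⁅M, M⁆ = sigmaCore M := by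
    have h := (Cfsg.Agent.S1365.result hG M hM K U hKU hK1).1
    rw [h, hU, bot_sup_eq]
  refine ⟨?_, ?_, ?_, bg83bas_coprime hKU⟩
  · intro k hk hk1
    have h := Cfsg.Agent.Helper91.bg17_W2_cent hG hM hKU hK1 k hk hk1
    rw [hder] at h
    exact h
  · exact (Cfsg.Agent.S1426.result hG M hM K (bg83bas_compl hKU hU)).2.1
  · exact hG.1.of_dvd_nat (Subgroup.card_subgroup_dvd_card K)

end Cfsg.Agent.Helper22
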