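/-
CALL BG83 (helper25, S1383), piece BAS1 (double): basic facts for `K ≠ 1`, `U = 1`, `M_F = M_σ`.
-/
import Mathlib
import Cfsg.Agent.S1364
import Cfsg.Agent.S1365
import Cfsg.Agent.S1426
import Cfsg.Agent.Helper10.C9FHN
import Cfsg.Agent.Helper22.BG83BAS2

set_option autoImplicit false

namespace Cfsg.Agent.Helper22

open Cfsg Subgroup

universe u

variable {G : Type u} [Group G] [Finite G]

/-- BAS1. -/
theorem bg83_basic (hG : IsMinSimpleOddOrder G) {M K U : Subgroup G} (hM : IsCoatom M)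
    (hKU : IsSigmaDecomposition M K U) (hK1 : K ≠ ⊥) (hU : U = ⊥)
    (hH : fittingHallOf M = sigmaCore M) :
    IsComplIn K (sigmaCore M) M ∧ ⁅M, M⁆ = sigmaCore M ∧ Group.IsNilpotent ↥(sigmaCore M) ∧
      sigmaCore M ⊓ centralizer (K : Set G) ≠ ⊥ ∧
      sigmaCore M ⊓ centralizer (K : Set G) ≤ ⁅sigmaCore M, sigmaCore M⁆ := by
  have hcompl := bg83bas_compl hKU hU
  have hder : ⁅M, M⁆ = sigmaCore M := by
    have h := (Cfsg.Agent.S1365.result hG M hM K U hKU hK1).1
    rw [h, hU, bot_sup_eq]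
  refine ⟨hcompl, hder, ?_, ?_, ?_⟩
  · have h := Cfsg.Agent.Helper10.c9_fittingHall_nil M
    rw [hH] at h
    exact h
  · exact (Cfsg.Agent.S1364.result hG M hM K U hKU hK1).2.1
  · exact (Cfsg.Agent.S1426.result hG M hM K hcompl).1

end Cfsg.Agent.Helper22
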