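import Mathlib
import Cfsg.Agent.Helper48.M11UGeo

set_option autoImplicit false
open scoped Pointwise

namespace Cfsg.Agent.Helper22
open Cfsg.Agent.Helper48.M11U

universe u
set_option linter.unusedSectionVars false
variable {G : Type u} [Group G] [Finite G]

/-- a 2-element of a Sylow 3-subgroup of order 9 is trivial -/
theorem m11u_two_elt_in_syl (h : M11Raw G) (R : Sylow 3 G) (A : Subgroup G) (hA : IsPGroup 2 A)
    (a : G) (ha : a ∈ A) (haR : a ∈ (R : Subgroup G)) : a = 1 := by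
  obtain ⟨k, hk⟩ := hA ⟨a, ha⟩
  have hk' : a ^ 2 ^ k = 1 := by
    have := congrArg Subtype.val hk
    simpa using this
  have h1 : orderOf a ∣ 2 ^ k := orderOf_dvd_of_pow_eq_one hk'
  have h2 : orderOf a ∣ 9 := by
    have := Subgroup.orderOf_dvd_natCard (R : Subgroup G) haR
    rwa [h.card3 R] at this
  have h3 : Nat.Coprime (2 ^ k) 9 := Nat.Coprime.pow_left k (by norm_num)
  have h4 : orderOf a = 1 := Nat.eq_one_of_dvd_coprimes h3 h1 h2
  exact orderOf_eq_one_iff.mp h4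

/-- the centraliser in `R` of a nontrivial 2-element centralising `σ` is `⟨σ⟩`, of order 3 -/
theorem m11u_cop_key (h : M11Raw G) (R : Sylow 3 G) (σ : G) (hσ : σ ∈ (R : Subgroup G))
    (hσ1 : σ ≠ 1) (A : Subgroup G) (hA : IsPGroup 2 A) (a : G) (ha : a ∈ A) (ha1 : a ≠ 1)
    (hc : a * σ = σ * a) :
    (∀ r ∈ (R : Subgroup G), a * r = r * a → r ∈ Subgroup.zpowers σ) ∧
      Nat.card ↥(Subgroup.zpowers σ) = 3 := by
  obtain ⟨C, hC⟩ : ∃ C : Subgroup G, C = Subgroup.centralizer ({a} : Set G) ⊓ (R : Subgroup G) :=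
    ⟨_, rfl⟩
  have hmemC : ∀ r, r ∈ C ↔ (a * r = r * a ∧ r ∈ (R : Subgroup G)) := by
    intro r
    rw [hC, Subgroup.mem_inf, Subgroup.mem_centralizer_singleton_iff]
    constructor
    · rintro ⟨h1, h2⟩; exact ⟨h1.symm, h2⟩
    · rintro ⟨h1, h2⟩; exact ⟨h1.symm, h2⟩
  have hCR : C ≤ (R : Subgroup G) := fun r hr => ((hmemC r).mp hr).2
  have hσC : σ ∈ C := (hmemC σ).mpr ⟨hc, hσ⟩
  have hLC : Subgroup.zpowers σ ≤ C := (Subgroup.zpowers_le).mpr hσC
  have hCd : Nat.card C ∣ 3 ^ 2 := by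
    have := Subgroup.card_dvd_of_le hCR
    rw [h.card3 R] at this
    simpa using this
  have hCne : C ≠ (R : Subgroup G) := by
    intro hCeq
    have : a ∈ (R : Subgroup G) := h.cent R a (fun r hr => ((hmemC r).mp (hCeq ▸ hr)).1)
    exact ha1 (m11u_two_elt_in_syl h R A hA a ha this)
  have hCbot : C ≠ ⊥ := fun hb => hσ1 (by rw [hb] at hσC; exact Subgroup.mem_bot.mp hσC)
  have hLbot : Subgroup.zpowers σ ≠ ⊥ := by
    intro hb
    have : σ ∈ Subgroup.zpowers σ := Subgroup.mem_zpowers σ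
    rw [hb] at this
    exact hσ1 (Subgroup.mem_bot.mp this)
  have hC3 : Nat.card C = 3 := by
    obtain ⟨m, hm, hm'⟩ := (Nat.dvd_prime_pow Nat.prime_three).mp hCd
    interval_cases m
    · exfalso; exact hCbot (Subgroup.card_eq_one.mp (by simpa using hm'))
    · simpa using hm'
    · exfalso
      apply hCne
      apply Subgroup.eq_of_le_of_card_ge hCR
      rw [h.card3 R, hm']; norm_num
  have hL3 : Nat.card ↥(Subgroup.zpowers σ) = 3 := by
    have h1 : Nat.card ↥(Subgroup.zpowers σ) ∣ 3 := by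
      have := Subgroup.card_dvd_of_le hLC
      rwa [hC3] at this
    rcases (Nat.dvd_prime Nat.prime_three).mp h1 with h2 | h2
    · exfalso; exact hLbot (Subgroup.card_eq_one.mp h2)
    · exact h2
  have hLeq : Subgroup.zpowers σ = C :=
    Subgroup.eq_of_le_of_card_ge hLC (by rw [hL3, hC3])
  refine ⟨fun r hr hcr => ?_, hL3⟩
  rw [hLeq]
  exact (hmemC r).mpr ⟨hcr, hr⟩

theorem m11u_coprime (h : M11Raw G) (R : Sylow 3 G) (σ : G) (hσ : σ ∈ (R : Subgroup G))
    (hσ1 : σ ≠ 1) (A : Subgroup G) (hA : IsPGroup 2 A) (hc : ∀ a ∈ A, a * σ = σ * a) :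
    Nat.card A ≤ 2 := by
  classical
  by_cases hA1 : ∃ a ∈ A, a ≠ 1
  swap
  · have : A = ⊥ := by
      rw [eq_bot_iff]
      intro a ha
      by_contra hne
      exact hA1 ⟨a, ha, fun h1 => hne (Subgroup.mem_bot.mpr h1)⟩
    rw [this]; simp
  obtain ⟨a₀, ha₀, ha₀1⟩ := hA1
  have hL3 := (m11u_cop_key h R σ hσ hσ1 A hA a₀ ha₀ ha₀1 (hc a₀ ha₀)).2
  have hkey : ∀ a ∈ A, a ≠ 1 → ∀ r ∈ (R : Subgroup G), a * r = r * a → r ∈ Subgroup.zpowers σ :=
    fun a ha ha1 => (m11u_cop_key h R σ hσ hσ1 A hA a ha ha1 (hc a ha)).1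
  have hLR : Subgroup.zpowers σ ≤ (R : Subgroup G) := (Subgroup.zpowers_le).mpr hσ
  -- a normalises R
  have hnorm : ∀ a ∈ A, ∀ r ∈ (R : Subgroup G), a * r * a⁻¹ ∈ (R : Subgroup G) := by
    intro a ha r hr
    have h1 : σ ∈ ((a⁻¹ • R : Sylow 3 G) : Subgroup G) := by
      rw [mem_smul_iff]
      have : a⁻¹⁻¹ * σ * a⁻¹ = σ := by rw [inv_inv, hc a ha]; group
      rw [this]; exact hσ
    have h2 : R = a⁻¹ • R := h.ti R (a⁻¹ • R) σ hσ h1 hσ1
    have h3 : r ∈ ((a⁻¹ • R : Sylow 3 G) : Subgroup G) := by rw [← h2]; exact hr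
    rw [mem_smul_iff, inv_inv] at h3
    exact h3
  have hcomL : ∀ a ∈ A, ∀ l ∈ Subgroup.zpowers σ, a * l = l * a := by
    intro a ha l hl
    obtain ⟨k, rfl⟩ := Subgroup.mem_zpowers_iff.mp hl
    exact (show Commute a σ from hc a ha).zpow_right k
  have hnL : ∀ a ∈ A, ∀ r : G, a * r * a⁻¹ ∈ Subgroup.zpowers σ → r ∈ Subgroup.zpowers σ := by
    intro a ha r hr
    have h1 := hcomL a ha _ hr
    have h2 : r = a * r * a⁻¹ := by
      calc r = a⁻¹ * ((a * r * a⁻¹) * a) := by group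
        _ = a⁻¹ * (a * (a * r * a⁻¹)) := by rw [h1]
        _ = a * r * a⁻¹ := by group
    rw [h2]; exact hr
  let β := {r : G // r ∈ (R : Subgroup G) ∧ r ∉ Subgroup.zpowers σ}
  let _i : MulAction A β :=
    { smul := fun a r => ⟨(a : G) * r.1 * (a : G)⁻¹, hnorm a a.2 r.1 r.2.1,
        fun hl => r.2.2 (hnL a a.2 r.1 hl)⟩
      one_smul := fun r => Subtype.ext (by
        show ((1 : A) : G) * r.1 * ((1 : A) : G)⁻¹ = r.1
        simp)
      mul_smul := fun a b r => Subtype.ext (by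
        show ((a * b : A) : G) * r.1 * ((a * b : A) : G)⁻¹ =
          (a : G) * ((b : G) * r.1 * (b : G)⁻¹) * (a : G)⁻¹
        simp [mul_assoc]) }
  have hstab : ∀ b : β, MulAction.stabilizer A b = ⊥ := by
    intro b
    rw [eq_bot_iff]
    intro a ha
    rw [MulAction.mem_stabilizer_iff] at ha
    have h1 : (a : G) * b.1 * (a : G)⁻¹ = b.1 := congrArg Subtype.val ha
    have h2 : (a : G) * b.1 = b.1 * (a : G) := by
      calc (a : G) * b.1 = ((a : G) * b.1 * (a : G)⁻¹) * (a : G) := by group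
        _ = b.1 * (a : G) := by rw [h1]
    by_contra hne
    have hne' : (a : G) ≠ 1 := fun h1 => hne (Subgroup.mem_bot.mpr (Subtype.ext h1))
    exact b.2.2 (hkey a a.2 hne' b.1 b.2.1 h2)
  have e := MulAction.selfEquivOrbitsQuotientProd hstab
  have hcard : Nat.card β = Nat.card (Quotient (MulAction.orbitRel A β)) * Nat.card A := by
    rw [Nat.card_congr e, Nat.card_prod]
  have hβ : Nat.card β = 6 := by
    have h1 : Nat.card β = (((R : Subgroup G) : Set G) \ (Subgroup.zpowers σ : Set G)).ncard := by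
      rw [← Nat.card_coe_set_eq]
      rfl
    rw [h1, Set.ncard_sdiff (by exact_mod_cast hLR)]
    have h2 : (((R : Subgroup G) : Set G)).ncard = 9 := by
      rw [← Nat.card_coe_set_eq]; exact h.card3 R
    have h3 : ((Subgroup.zpowers σ : Subgroup G) : Set G).ncard = 3 := by
      rw [← Nat.card_coe_set_eq]; exact hL3
    rw [h2, h3]
  have hdvd : Nat.card A ∣ 6 := by
    rw [← hβ, hcard]; exact Dvd.intro_left _ rfl
  obtain ⟨k, hk⟩ := (IsPGroup.iff_card).mp hA
  rw [hk] at hdvd ⊢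
  rcases k with _ | _ | k
  · norm_num
  · norm_num
  · exfalso
    have : 4 ∣ 6 := Dvd.dvd.trans ⟨2 ^ k, by ring⟩ hdvd
    omega

end Cfsg.Agent.Helper22
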