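import Mathlib
import Cfsg.Agent.Helper48.M11UGeo
import Cfsg.Agent.Helper48.M11Sign
import Cfsg.Agent.Helper22.M11UCOP

set_option autoImplicit false
set_option linter.unusedSectionVars false
set_option linter.unusedVariables false
open scoped Pointwise

namespace Cfsg.Agent.Helper22
open Cfsg.Agent.Helper48.M11U

universe u
variable {G : Type u} [Group G] [Finite G]

/-- elements of a cyclic group of order 3 -/
theorem m11u_zpowers_three (σ x : G) (h3 : Nat.card ↥(Subgroup.zpowers σ) = 3)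
    (hx : x ∈ Subgroup.zpowers σ) : x = 1 ∨ x = σ ∨ x = σ⁻¹ := by
  have ho : orderOf σ = 3 := by rw [← Nat.card_zpowers]; exact h3
  have hσ3 : σ ^ 3 = 1 := by rw [← ho]; exact pow_orderOf_eq_one σ
  obtain ⟨k, rfl⟩ := Subgroup.mem_zpowers_iff.mp hx
  have h1 : σ ^ k = σ ^ (k % 3) := by
    have := zpow_mod_orderOf σ k
    rw [ho] at this
    exact_mod_cast this.symm
  have h2 : 0 ≤ k % 3 := Int.emod_nonneg k (by norm_num)
  have h3' : k % 3 < 3 := Int.emod_lt_of_pos k (by norm_num)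
  rw [h1]
  obtain ⟨m, hm⟩ : ∃ m : ℤ, m = k % 3 := ⟨_, rfl⟩
  rw [← hm] at h2 h3' ⊢
  interval_cases m
  · left; simp
  · right; left; simp
  · right; right
    have : σ ^ (2 : ℤ) * σ = 1 := by
      have h4 : σ ^ (2 : ℤ) = σ ^ 2 := by norm_cast
      rw [h4, ← pow_succ]; exact hσ3
    exact eq_inv_of_mul_eq_one_left this

theorem m11u_exinv [IsSimpleGroup G] (hG : Nat.card G = 7920) (h : M11Raw G)
    (hcop : ∀ (R : Sylow 3 G) (σ : G), σ ∈ (R : Subgroup G) → σ ≠ 1 → ∀ A : Subgroup G,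
      IsPGroup 2 A → (∀ a ∈ A, a * σ = σ * a) → Nat.card A ≤ 2)
    (R : Sylow 3 G) : ∃ z : G, orderOf z = 2 ∧ Inv z R := by
  classical
  have h2 : Fact (Nat.Prime 2) := ⟨Nat.prime_two⟩
  have hR : Nat.card ↥(R : Subgroup G) = 9 := h.card3 R
  have hN := h.n3 R
  obtain ⟨K, hK⟩ := Sylow.exists_subgroup_card_pow_prime
    (G := ↥(Subgroup.normalizer ((R : Subgroup G) : Set G))) 2 (n := 4) (by rw [hN]; norm_num)
  obtain ⟨T, hTdef⟩ : ∃ T : Subgroup G, T = K.map (Subgroup.subtype _) := ⟨_, rfl⟩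
  have hTN : T ≤ Subgroup.normalizer ((R : Subgroup G) : Set G) := by
    rw [hTdef]; exact Subgroup.map_subtype_le _
  have hT : Nat.card ↥T = 16 := by
    rw [hTdef, Nat.card_congr
      (Subgroup.equivMapOfInjective K _ (Subgroup.subtype_injective _)).symm.toEquiv, hK]
    norm_num
  have hT2 : IsPGroup 2 ↥T := IsPGroup.of_card (n := 4) (by rw [hT]; norm_num)
  have hfaith : ∀ t ∈ T, (∀ r ∈ (R : Subgroup G), t * r = r * t) → t = 1 := by
    intro t ht hc
    exact m11u_two_elt_in_syl h R T hT2 t ht (h.cent R t hc)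
  obtain ⟨Q, hQT, hQ, hQnorm, hQuniq, -⟩ :=
    Cfsg.Agent.Helper48.M11Sign.sd16_sign (R : Subgroup G) T hR hT hTN hfaith
  have hQ2 : IsPGroup 2 ↥Q := IsPGroup.of_card (n := 3) (by rw [hQ]; norm_num)
  obtain ⟨z', hz'⟩ := exists_prime_orderOf_dvd_card' (G := ↥Q) 2 (by rw [hQ]; norm_num)
  obtain ⟨z, hzdef⟩ : ∃ z : G, z = (z' : G) := ⟨_, rfl⟩
  have hzQ : z ∈ Q := hzdef ▸ z'.2
  have hz2 : orderOf z = 2 := by rw [hzdef, Subgroup.orderOf_coe]; exact hz'
  have hz1 : z ≠ 1 := by
    intro h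
    rw [h, orderOf_one] at hz2
    norm_num at hz2
  have hzz : z * z = 1 := by rw [← pow_two, ← hz2, pow_orderOf_eq_one]
  have hzinv : z⁻¹ = z := inv_eq_of_mul_eq_one_left hzz
  -- conjugation by elements of the normaliser
  have hnormR : ∀ t ∈ T, ∀ r ∈ (R : Subgroup G), t * r * t⁻¹ ∈ (R : Subgroup G) := by
    intro t ht r hr
    exact ((Subgroup.mem_normalizer_iff).mp (hTN ht) r).mp hr
  -- z is central in Q
  have hzc : ∀ q ∈ Q, q * z = z * q := by
    intro q hq
    have h1 : q * z * q⁻¹ ∈ Q := Q.mul_mem (Q.mul_mem hq hzQ) (Q.inv_mem hq)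
    have h2' : orderOf (q * z * q⁻¹) = 2 := by
      have h3 := MulEquiv.orderOf_eq (MulAut.conj q) z
      rw [MulAut.conj_apply] at h3
      rw [h3, hz2]
    have h3 := hQuniq _ h1 _ hzQ h2' hz2
    calc q * z = (q * z * q⁻¹) * q := by group
      _ = z * q := by rw [h3]
  -- z has no fixed point on R
  have hfpf : ∀ σ ∈ (R : Subgroup G), z * σ = σ * z → σ = 1 := by
    intro σ hσ hzσ
    by_contra hσ1
    obtain ⟨hkey, hL3⟩ := m11u_cop_key h R σ hσ hσ1 Q hQ2 z hzQ hz1 hzσ
    -- every element of Q centralises or inverts σ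
    have hpm : ∀ q ∈ Q, q * σ * q⁻¹ = σ ∨ q * σ * q⁻¹ = σ⁻¹ := by
      intro q hq
      have h1 : q * σ * q⁻¹ ∈ (R : Subgroup G) := hnormR q (hQT hq) σ hσ
      have h2' : z * (q * σ * q⁻¹) = (q * σ * q⁻¹) * z := by
        have hqz := hzc q hq
        have hqz' : z * q⁻¹ = q⁻¹ * z := by
          calc z * q⁻¹ = q⁻¹ * (q * z) * q⁻¹ := by group
            _ = q⁻¹ * (z * q) * q⁻¹ := by rw [hqz]
            _ = q⁻¹ * z := by group
        calc z * (q * σ * q⁻¹) = (z * q) * σ * q⁻¹ := by group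
          _ = (q * z) * σ * q⁻¹ := by rw [hqz]
          _ = q * (z * σ) * q⁻¹ := by group
          _ = q * (σ * z) * q⁻¹ := by rw [hzσ]
          _ = q * σ * (z * q⁻¹) := by group
          _ = q * σ * (q⁻¹ * z) := by rw [hqz']
          _ = (q * σ * q⁻¹) * z := by group
      rcases m11u_zpowers_three σ _ hL3 (hkey _ h1 h2') with h3 | h3 | h3
      · exfalso
        apply hσ1
        calc σ = q⁻¹ * (q * σ * q⁻¹) * q := by group
          _ = q⁻¹ * 1 * q := by rw [h3]
          _ = 1 := by group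
      · exact Or.inl h3
      · exact Or.inr h3
    obtain ⟨A, hAdef⟩ : ∃ A : Subgroup G, A = Q ⊓ Subgroup.centralizer ({σ} : Set G) := ⟨_, rfl⟩
    have hmemA : ∀ a, a ∈ A ↔ (a ∈ Q ∧ a * σ = σ * a) := by
      intro a
      rw [hAdef, Subgroup.mem_inf, Subgroup.mem_centralizer_singleton_iff]
    have hAQ : A ≤ Q := fun a ha => ((hmemA a).mp ha).1
    have hA2 : IsPGroup 2 ↥A := hQ2.to_le hAQ
    have hAle : Nat.card ↥A ≤ 2 := hcop R σ hσ hσ1 A hA2 (fun a ha => ((hmemA a).mp ha).2)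
    have hidx : Nat.card ↥Q ≤ 2 * Nat.card ↥A := by
      by_cases hall : ∀ q ∈ Q, q * σ = σ * q
      · have : Q ≤ A := fun q hq => (hmemA q).mpr ⟨hq, hall q hq⟩
        have := Subgroup.card_le_of_le this
        omega
      · push Not at hall
        obtain ⟨q₁, hq₁, hq₁σ⟩ := hall
        have hq₁inv : q₁ * σ * q₁⁻¹ = σ⁻¹ := by
          rcases hpm q₁ hq₁ with h1 | h1
          · exfalso; apply hq₁σ
            calc q₁ * σ = (q₁ * σ * q₁⁻¹) * q₁ := by group
              _ = σ * q₁ := by rw [h1]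
          · exact h1
        have hmem : ∀ q ∈ Q, ¬ (q * σ = σ * q) → q₁⁻¹ * q ∈ A := by
          intro q hq hqσ
          have hqinv : q * σ * q⁻¹ = σ⁻¹ := by
            rcases hpm q hq with h1 | h1
            · exfalso; apply hqσ
              calc q * σ = (q * σ * q⁻¹) * q := by group
                _ = σ * q := by rw [h1]
            · exact h1
          refine (hmemA _).mpr ⟨Q.mul_mem (Q.inv_mem hq₁) hq, ?_⟩
          have e1 : q * σ = σ⁻¹ * q := by
            calc q * σ = (q * σ * q⁻¹) * q := by group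
              _ = σ⁻¹ * q := by rw [hqinv]
          have e2 : q₁⁻¹ * σ⁻¹ = σ * q₁⁻¹ := by
            calc q₁⁻¹ * σ⁻¹ = q₁⁻¹ * (q₁ * σ * q₁⁻¹) := by rw [hq₁inv]
              _ = σ * q₁⁻¹ := by group
          calc q₁⁻¹ * q * σ = q₁⁻¹ * (q * σ) := by group
            _ = q₁⁻¹ * (σ⁻¹ * q) := by rw [e1]
            _ = (q₁⁻¹ * σ⁻¹) * q := by group
            _ = (σ * q₁⁻¹) * q := by rw [e2]
            _ = σ * (q₁⁻¹ * q) := by group
        let f : ↥Q → ↥A × Bool := fun q =>
          if hq : (q : G) * σ = σ * (q : G) then (⟨(q : G), (hmemA _).mpr ⟨q.2, hq⟩⟩, true)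
          else (⟨q₁⁻¹ * (q : G), hmem _ q.2 hq⟩, false)
        have hf : Function.Injective f := by
          intro a b hab
          by_cases ha : (a : G) * σ = σ * (a : G)
          · by_cases hb : (b : G) * σ = σ * (b : G)
            · simp only [f, dif_pos ha, dif_pos hb, Prod.mk.injEq, Subtype.mk.injEq, and_true] at hab
              exact Subtype.ext hab
            · simp [f, dif_pos ha, dif_neg hb] at hab
          · by_cases hb : (b : G) * σ = σ * (b : G)
            · simp [f, dif_neg ha, dif_pos hb] at hab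
            · simp only [f, dif_neg ha, dif_neg hb, Prod.mk.injEq, Subtype.mk.injEq, and_true] at hab
              exact Subtype.ext (mul_left_cancel hab)
        have := Nat.card_le_card_of_injective f hf
        rw [Nat.card_prod, Nat.card_eq_fintype_card (α := Bool), Fintype.card_bool] at this
        omega
    rw [hQ] at hidx
    omega
  refine ⟨z, hz2, ?_⟩
  intro r hr
  have hzr : z * r * z⁻¹ ∈ (R : Subgroup G) := hnormR z (hQT hzQ) r hr
  have hx : r * (z * r * z⁻¹) ∈ (R : Subgroup G) := (R : Subgroup G).mul_mem hr hzr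
  have hcomm := h.comm3 R r hr (z * r * z⁻¹) hzr
  have hzx : z * (r * (z * r * z⁻¹)) = (r * (z * r * z⁻¹)) * z := by
    rw [hzinv] at hcomm ⊢
    calc z * (r * (z * r * z)) = (z * r * z * r) * z := by group
      _ = (r * (z * r * z)) * z := by rw [hcomm]
  have h1 := hfpf _ hx hzx
  exact eq_inv_of_mul_eq_one_right h1

end Cfsg.Agent.Helper22
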