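import Mathlib
import Cfsg.Agent.Helper48.M11UGeo

set_option autoImplicit false
set_option linter.unusedSectionVars false
set_option linter.unusedVariables false
open scoped Pointwise

namespace Cfsg.Agent.Helper22
open Cfsg.Agent.Helper48.M11U

universe u
variable {G : Type u} [Group G] [Finite G]

/-- an element of a Sylow 3-subgroup (order 9) with trivial square is trivial -/
theorem m11u_sq_one_in_syl (h : M11Raw G) (R : Sylow 3 G) (x : G) (hx : x ∈ (R : Subgroup G))
    (hxx : x * x = 1) : x = 1 := by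
  have h1 : orderOf x ∣ 2 := orderOf_dvd_of_pow_eq_one (by rw [pow_two]; exact hxx)
  have h2 : orderOf x ∣ 9 := by
    have := Subgroup.orderOf_dvd_natCard (R : Subgroup G) hx
    rwa [h.card3 R] at this
  have h3 : orderOf x ∣ Nat.gcd 2 9 := Nat.dvd_gcd h1 h2
  have h4 : Nat.gcd 2 9 = 1 := by norm_num
  rw [h4] at h3
  exact orderOf_eq_one_iff.mp (Nat.dvd_one.mp h3)

theorem m11u_mul_self_of_order_two (z : G) (hz : orderOf z = 2) : z * z = 1 := by
  rw [← pow_two, ← hz, pow_orderOf_eq_one]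

theorem m11u_ne_one_of_order_two (z : G) (hz : orderOf z = 2) : z ≠ 1 := by
  intro h
  rw [h, orderOf_one] at hz
  norm_num at hz

theorem m11u_n0_J_le (h : M11L1 G) (z : G) (hz : orderOf z = 2) (hP : IsPGroup 2 ↥(n0 z))
    (J : Finset G) (hJ : ∀ j ∈ J, j ∈ n0 z ∧ orderOf j = 2 ∧ j ≠ z) : J.card ≤ 4 := by
  classical
  have hzz := m11u_mul_self_of_order_two z hz
  have hzinv : z⁻¹ = z := inv_eq_of_mul_eq_one_left hzz
  -- a Sylow subgroup inverted by z
  have hne : Nonempty {P : Sylow 3 G // Inv z P} := by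
    have h3 := h.tri z hz
    by_contra hcon
    rw [not_nonempty_iff] at hcon
    rw [Nat.card_of_isEmpty] at h3
    norm_num at h3
  obtain ⟨⟨R, hR⟩⟩ := hne
  -- each j fixes a nontrivial element of R
  have hex : ∀ j, j ∈ J → ∃ σ, σ ∈ (R : Subgroup G) ∧ σ ≠ 1 ∧ j * σ = σ * j := by
    intro j hj
    obtain ⟨hjn, hj2, hjz⟩ := hJ j hj
    obtain ⟨hjc, hjP⟩ := mem_n0.mp hjn
    have hjj := m11u_mul_self_of_order_two j hj2
    have hjinv : j⁻¹ = j := inv_eq_of_mul_eq_one_left hjj
    have hjR : j • R = R := hjP R hR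
    have hni : ¬ Inv j R := by
      intro hi
      have hcent : ∀ r ∈ (R : Subgroup G), (j * z) * r = r * (j * z) := by
        intro r hr
        have h1 := hR r hr
        have h2 := hi r⁻¹ (inv_mem hr)
        rw [inv_inv] at h2
        rw [hzinv] at h1
        rw [hjinv] at h2
        calc (j * z) * r = j * z * r * (z * z) := by rw [hzz, mul_one]
          _ = j * (z * r * z) * z := by group
          _ = j * r⁻¹ * z := by rw [h1]
          _ = (j * r⁻¹ * j) * (j * z) := by
              calc j * r⁻¹ * z = j * r⁻¹ * (j * j) * z := by rw [hjj, mul_one]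
                _ = (j * r⁻¹ * j) * (j * z) := by group
          _ = r * (j * z) := by rw [h2]
      have h1 : j * z ∈ (R : Subgroup G) := h.raw.cent R (j * z) hcent
      have h2 : (j * z) * (j * z) = 1 := by
        calc (j * z) * (j * z) = j * (z * j) * z := by group
          _ = j * (j * z) * z := by rw [hjc]
          _ = (j * j) * (z * z) := by group
          _ = 1 := by rw [hjj, hzz, mul_one]
      have h3 := m11u_sq_one_in_syl h.raw R _ h1 h2
      apply hjz
      calc j = (j * z) * z⁻¹ := by group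
        _ = z := by rw [h3, one_mul, hzinv]
    obtain ⟨σ, hσR, hσ1, hσc⟩ := h.reflaxis R j hj2 hjR hni
    exact ⟨σ, hσR, hσ1, hσc⟩
  choose! σ hσR hσ1 hσc using hex
  -- distinct members of J have no common nontrivial fixed point
  have hdis : ∀ j ∈ J, ∀ j' ∈ J, ∀ τ ∈ (R : Subgroup G), τ ≠ 1 → j * τ = τ * j →
      j' * τ = τ * j' → j = j' := by
    intro j hj j' hj' τ hτ hτ1 hjτ hj'τ
    by_contra hjj'
    obtain ⟨hjn, hj2, -⟩ := hJ j hj
    obtain ⟨hj'n, hj'2, -⟩ := hJ j' hj'
    obtain ⟨A, hAdef⟩ : ∃ A : Subgroup G, A = n0 z ⊓ Subgroup.centralizer ({τ} : Set G) :=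
      ⟨_, rfl⟩
    have hmemA : ∀ a, a ∈ A ↔ (a ∈ n0 z ∧ a * τ = τ * a) := by
      intro a
      rw [hAdef, Subgroup.mem_inf, Subgroup.mem_centralizer_singleton_iff]
    have hA2 : IsPGroup 2 ↥A := hP.to_le (fun a ha => ((hmemA a).mp ha).1)
    have hAle := h.coprime R τ hτ hτ1 A hA2 (fun a ha => ((hmemA a).mp ha).2)
    have h3 : ({1, j, j'} : Set G).ncard = 3 :=
      Set.ncard_eq_three.mpr ⟨1, j, j', (m11u_ne_one_of_order_two j hj2).symm,
        (m11u_ne_one_of_order_two j' hj'2).symm, hjj', rfl⟩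
    have hsub : ({1, j, j'} : Set G) ⊆ (A : Set G) := by
      intro x hx
      rcases hx with rfl | rfl | rfl
      · exact A.one_mem
      · exact (hmemA _).mpr ⟨hjn, hjτ⟩
      · exact (hmemA _).mpr ⟨hj'n, hj'τ⟩
    have h4 := Set.ncard_le_ncard hsub (Set.toFinite _)
    have h5 : (A : Set G).ncard = Nat.card ↥A := by rw [← Nat.card_coe_set_eq]; rfl
    omega
  -- the injection
  let T := {r : G // r ∈ (R : Subgroup G) ∧ r ≠ 1}
  have hT : Nat.card T = 8 := by
    have h1 : Nat.card T = (((R : Subgroup G) : Set G) \ {1}).ncard := by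
      rw [← Nat.card_coe_set_eq]
      rfl
    rw [h1, Set.ncard_sdiff_singleton_of_mem (Subgroup.one_mem _)]
    have h2 : (((R : Subgroup G) : Set G)).ncard = 9 := by
      rw [← Nat.card_coe_set_eq]; exact h.raw.card3 R
    rw [h2]
  let f : {j // j ∈ J} × Bool → T := fun p =>
    if p.2 then ⟨σ p.1.1, hσR _ p.1.2, hσ1 _ p.1.2⟩
    else ⟨(σ p.1.1)⁻¹, inv_mem (hσR _ p.1.2), fun h => hσ1 _ p.1.2 (inv_eq_one.mp h)⟩
  have hfc : ∀ p : {j // j ∈ J} × Bool, p.1.1 * (f p).1 = (f p).1 * p.1.1 := by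
    rintro ⟨⟨j, hj⟩, b⟩
    cases b
    · show j * (σ j)⁻¹ = (σ j)⁻¹ * j
      have := hσc j hj
      calc j * (σ j)⁻¹ = (σ j)⁻¹ * (σ j * j) * (σ j)⁻¹ := by group
        _ = (σ j)⁻¹ * (j * σ j) * (σ j)⁻¹ := by rw [this]
        _ = (σ j)⁻¹ * j := by group
    · exact hσc j hj
  have hf : Function.Injective f := by
    rintro ⟨⟨j, hj⟩, b⟩ ⟨⟨j', hj'⟩, b'⟩ hab
    have e1 := hfc ⟨⟨j, hj⟩, b⟩
    have e2 := hfc ⟨⟨j', hj'⟩, b'⟩
    rw [← hab] at e2
    have hjj' : j = j' := hdis j hj j' hj' _ (f ⟨⟨j, hj⟩, b⟩).2.1 (f ⟨⟨j, hj⟩, b⟩).2.2 e1 e2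
    subst hjj'
    have hbb : b = b' := by
      cases b <;> cases b'
      · rfl
      · exfalso
        have h1 : (σ j)⁻¹ = σ j := congrArg Subtype.val hab
        have h2 : σ j * σ j = 1 := by
          calc σ j * σ j = (σ j)⁻¹ * σ j := by rw [h1]
            _ = 1 := by group
        exact hσ1 j hj (m11u_sq_one_in_syl h.raw R _ (hσR j hj) h2)
      · exfalso
        have h1 : σ j = (σ j)⁻¹ := congrArg Subtype.val hab
        have h2 : σ j * σ j = 1 := by
          calc σ j * σ j = (σ j)⁻¹ * σ j := by rw [← h1]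
            _ = 1 := by group
        exact hσ1 j hj (m11u_sq_one_in_syl h.raw R _ (hσR j hj) h2)
      · rfl
    rw [hbb]
  have hle := Nat.card_le_card_of_injective f hf
  rw [Nat.card_prod, Nat.card_eq_fintype_card (α := Bool), Fintype.card_bool, hT,
    Nat.card_eq_fintype_card, Fintype.card_coe] at hle
  omega

end Cfsg.Agent.Helper22
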