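import Mathlib
import Cfsg.Agent.Helper48.M11UGeo
import Cfsg.Agent.Helper22.M11UN0J

set_option autoImplicit false
set_option linter.unusedSectionVars false
set_option linter.unusedVariables false
open scoped Pointwise

namespace Cfsg.Agent.Helper22
open Cfsg.Agent.Helper48.M11U

universe u
variable {G : Type u} [Group G] [Finite G]

theorem m11u_n0_three (h : M11L1 G) (z : G) (hz : orderOf z = 2) (J : Finset G)
    (hJ : ∀ j, j ∈ J ↔ (j ∈ n0 z ∧ orderOf j = 2 ∧ j ≠ z)) : 3 ∣ J.card := by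
  classical
  have h3 : Fact (Nat.Prime 3) := ⟨Nat.prime_three⟩
  have hzz := m11u_mul_self_of_order_two z hz
  obtain ⟨ρ', hρ'⟩ := exists_prime_orderOf_dvd_card'
    (G := ↥(Subgroup.centralizer ({z} : Set G))) 3 (by rw [h.raw.invc z hz]; norm_num)
  obtain ⟨ρ, hρdef⟩ : ∃ ρ : G, ρ = (ρ' : G) := ⟨_, rfl⟩
  have hρ3 : orderOf ρ = 3 := by rw [hρdef, Subgroup.orderOf_coe]; exact hρ'
  have hρz : ρ * z = z * ρ := by
    have := ρ'.2
    rw [Subgroup.mem_centralizer_singleton_iff] at this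
    rw [hρdef]; exact this
  have hρ1 : ρ ≠ 1 := by
    intro e; rw [e, orderOf_one] at hρ3; norm_num at hρ3
  have hρρρ : ρ * ρ * ρ = 1 := by
    have := pow_orderOf_eq_one ρ
    rw [hρ3, pow_succ, pow_succ, pow_one] at this
    exact this
  have hzp : IsPGroup 3 ↥(Subgroup.zpowers ρ) :=
    IsPGroup.of_card (n := 1) (by rw [Nat.card_zpowers, hρ3]; norm_num)
  obtain ⟨R, hR⟩ := hzp.exists_le_sylow
  have hρR : ρ ∈ (R : Subgroup G) := hR (Subgroup.mem_zpowers ρ)
  have hclosed : ∀ j ∈ J, ρ * j * ρ⁻¹ ∈ J := by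
    intro j hj
    obtain ⟨hjn, hj2, hjz⟩ := (hJ j).mp hj
    obtain ⟨hjc, hjP⟩ := mem_n0.mp hjn
    refine (hJ _).mpr ⟨mem_n0.mpr ⟨?_, ?_⟩, ?_, ?_⟩
    · have hρz' : z * ρ⁻¹ = ρ⁻¹ * z := by
        calc z * ρ⁻¹ = ρ⁻¹ * (ρ * z) * ρ⁻¹ := by group
          _ = ρ⁻¹ * (z * ρ) * ρ⁻¹ := by rw [hρz]
          _ = ρ⁻¹ * z := by group
      calc ρ * j * ρ⁻¹ * z = ρ * j * (ρ⁻¹ * z) := by group
        _ = ρ * j * (z * ρ⁻¹) := by rw [hρz']
        _ = ρ * (j * z) * ρ⁻¹ := by group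
        _ = ρ * (z * j) * ρ⁻¹ := by rw [hjc]
        _ = (ρ * z) * j * ρ⁻¹ := by group
        _ = (z * ρ) * j * ρ⁻¹ := by rw [hρz]
        _ = z * (ρ * j * ρ⁻¹) := by group
    · intro P hP
      have h1 : Inv z (ρ⁻¹ • P) := by
        have := inv_conj hP ρ⁻¹
        have e : ρ⁻¹ * z * ρ⁻¹⁻¹ = z := by
          rw [inv_inv]
          calc ρ⁻¹ * z * ρ = ρ⁻¹ * (z * ρ) := by group
            _ = ρ⁻¹ * (ρ * z) := by rw [hρz]
            _ = z := by group
        rwa [e] at this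
      have h2 := hjP _ h1
      rw [mul_smul, mul_smul, h2, smul_inv_smul]
    · have := MulEquiv.orderOf_eq (MulAut.conj ρ) j
      rw [MulAut.conj_apply] at this
      rw [this, hj2]
    · intro e
      apply hjz
      calc j = ρ⁻¹ * (ρ * j * ρ⁻¹) * ρ := by group
        _ = ρ⁻¹ * z * ρ := by rw [e]
        _ = ρ⁻¹ * (z * ρ) := by group
        _ = ρ⁻¹ * (ρ * z) := by rw [hρz]
        _ = z := by group
  have hnofix : ∀ j ∈ J, ρ * j * ρ⁻¹ ≠ j := by
    intro j hj e
    obtain ⟨hjn, hj2, hjz⟩ := (hJ j).mp hj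
    obtain ⟨hjc, hjP⟩ := mem_n0.mp hjn
    have hjρ : j * ρ = ρ * j := by
      calc j * ρ = (ρ * j * ρ⁻¹) * ρ := by rw [e]
        _ = ρ * j := by group
    have hz2g : IsPGroup 2 ↥(Subgroup.zpowers z) :=
      IsPGroup.of_card (n := 1) (by rw [Nat.card_zpowers, hz]; norm_num)
    have hj2g : IsPGroup 2 ↥(Subgroup.zpowers j) :=
      IsPGroup.of_card (n := 1) (by rw [Nat.card_zpowers, hj2]; norm_num)
    have hcomm : ∀ x ∈ Subgroup.zpowers j, z * x = x * z := by
      intro x hx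
      obtain ⟨k, rfl⟩ := Subgroup.mem_zpowers_iff.mp hx
      exact (show Commute z j from hjc.symm).zpow_right k
    have hnorm : Subgroup.zpowers z ≤ Subgroup.normalizer (Subgroup.zpowers j : Set G) := by
      rw [Subgroup.zpowers_le, Subgroup.mem_normalizer_iff]
      intro x
      constructor
      · intro hx
        have e1 : z * x * z⁻¹ = x := by
          calc z * x * z⁻¹ = (x * z) * z⁻¹ := by rw [hcomm x hx]
            _ = x := by group
        rw [e1]; exact hx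
      · intro hx
        have e1 := hcomm _ hx
        have e2 : x = z * x * z⁻¹ := by
          calc x = z⁻¹ * ((z * x * z⁻¹) * z) := by group
            _ = z⁻¹ * (z * (z * x * z⁻¹)) := by rw [e1]
            _ = z * x * z⁻¹ := by group
        rw [e2]; exact hx
    obtain ⟨A, hAdef⟩ : ∃ A : Subgroup G, A = Subgroup.zpowers z ⊔ Subgroup.zpowers j :=
      ⟨_, rfl⟩
    have hA2 : IsPGroup 2 ↥A := by
      rw [hAdef]; exact IsPGroup.to_sup_of_normal_right' hz2g hj2g hnorm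
    have hAc : A ≤ Subgroup.centralizer ({ρ} : Set G) := by
      rw [hAdef]
      refine sup_le ?_ ?_
      · rw [Subgroup.zpowers_le, Subgroup.mem_centralizer_singleton_iff]; exact hρz.symm
      · rw [Subgroup.zpowers_le, Subgroup.mem_centralizer_singleton_iff]; exact hjρ
    have hAle := h.coprime R ρ hρR hρ1 A hA2
      (fun a ha => (Subgroup.mem_centralizer_singleton_iff).mp (hAc ha))
    have hzA : z ∈ A := by rw [hAdef]; exact Subgroup.mem_sup_left (Subgroup.mem_zpowers z)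
    have hjA : j ∈ A := by rw [hAdef]; exact Subgroup.mem_sup_right (Subgroup.mem_zpowers j)
    have h3' : ({1, z, j} : Set G).ncard = 3 :=
      Set.ncard_eq_three.mpr ⟨1, z, j, (m11u_ne_one_of_order_two z hz).symm,
        (m11u_ne_one_of_order_two j hj2).symm, fun e => hjz e.symm, rfl⟩
    have hsub : ({1, z, j} : Set G) ⊆ (A : Set G) := by
      intro x hx
      rcases hx with rfl | rfl | rfl
      · exact A.one_mem
      · exact hzA
      · exact hjA
    have h4 := Set.ncard_le_ncard hsub (Set.toFinite _)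
    have h5 : (A : Set G).ncard = Nat.card ↥A := by rw [← Nat.card_coe_set_eq]; rfl
    omega
  let f : Function.End {j // j ∈ J} := fun j => ⟨ρ * j.1 * ρ⁻¹, hclosed j.1 j.2⟩
  have hf : f ^ 3 ^ 1 = 1 := by
    rw [pow_one, pow_succ, pow_succ, pow_one]
    funext x
    apply Subtype.ext
    show ρ * (ρ * (ρ * x.1 * ρ⁻¹) * ρ⁻¹) * ρ⁻¹ = x.1
    calc ρ * (ρ * (ρ * x.1 * ρ⁻¹) * ρ⁻¹) * ρ⁻¹
        = (ρ * ρ * ρ) * x.1 * (ρ * ρ * ρ)⁻¹ := by group
      _ = x.1 := by rw [hρρρ]; group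
  have hmod := Equiv.Perm.card_fixedPoints_modEq (p := 3) (n := 1) hf
  have hfix : Fintype.card ↥(Function.fixedPoints f) = 0 := by
    rw [Fintype.card_eq_zero_iff]
    exact ⟨fun x => hnofix x.1.1 x.1.2 (congrArg Subtype.val x.2)⟩
  rw [hfix, Fintype.card_coe] at hmod
  exact (Nat.modEq_zero_iff_dvd).mp hmod

end Cfsg.Agent.Helper22
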