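import Mathlib
import Cfsg.Agent.Helper48.M11UGeo

set_option autoImplicit false
set_option linter.unusedSectionVars false
set_option linter.unusedVariables false
open scoped Pointwise

namespace Cfsg.Agent.Helper22
open Cfsg.Agent.Helper48.M11U

universe u
variable {G : Type u} [Group G] [Finite G]

/-- four pairwise distinct members of a set with at most three elements: impossible -/
theorem m11u_four_of_three {α : Type*} (s : Set α) (hfin : s.Finite) (hs : s.ncard ≤ 3)
    (a b c d : α) (ha : a ∈ s) (hb : b ∈ s) (hc : c ∈ s) (hd : d ∈ s)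
    (hab : a ≠ b) (hac : a ≠ c) (had : a ≠ d) (hbc : b ≠ c) (hbd : b ≠ d) (hcd : c ≠ d) :
    False := by
  have h4 : ({a, b, c, d} : Set α).ncard = 4 := by
    rw [Set.ncard_insert_of_notMem (by simp [hab, hac, had]),
      Set.ncard_eq_three.mpr ⟨b, c, d, hbc, hbd, hcd, rfl⟩]
  have hsub : ({a, b, c, d} : Set α) ⊆ s := by
    intro x hx
    rcases hx with rfl | rfl | rfl | rfl <;> assumption
  have := Set.ncard_le_ncard hsub hfin
  omega

theorem m11u_transadj (h : M11Geo G) (R S R' S' : Sylow 3 G) (h1 : Adj R S) (h2 : Adj R' S') :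
    ∃ g : G, g • R = R' ∧ g • S = S' := by
  classical
  obtain ⟨g₁, hg₁⟩ := MulAction.exists_smul_eq G R R'
  have hadj : Adj R' (g₁ • S) := by
    have := adj_smul h1 g₁
    rwa [hg₁] at this
  obtain ⟨hne1, z₁, hz₁, hi₁R, hi₁S⟩ := hadj
  obtain ⟨hne2, z₂, hz₂, hi₂R, hi₂S⟩ := h2
  obtain ⟨r, hr, hrz⟩ := h.l1.orbI R' z₁ z₂ hz₁ hz₂ hi₁R hi₂R
  have hrR : r • R' = R' := by
    rw [smul_eq_iff]
    exact Subgroup.le_normalizer hr
  have hiS₂ : Inv z₂ (r • g₁ • S) := by
    rw [hrz]; exact inv_conj hi₁S r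
  have hne3 : R' ≠ r • g₁ • S := by
    intro e
    apply hne1
    have : r • R' = r • g₁ • S := by rw [hrR]; exact e
    exact smul_left_cancel r this
  by_cases hS : r • g₁ • S = S'
  · refine ⟨r * g₁, ?_, ?_⟩
    · rw [mul_smul, hg₁, hrR]
    · rw [mul_smul, hS]
  · obtain ⟨g, hgz, hgR, hgS⟩ := h.swap z₂ R' (r • g₁ • S) hz₂ hi₂R hiS₂ hne3
    have hconj : g * z₂ * g⁻¹ = z₂ := by
      calc g * z₂ * g⁻¹ = (z₂ * g) * g⁻¹ := by rw [hgz]
        _ = z₂ := by group
    have hiX : Inv z₂ (g • r • g₁ • S) := by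
      have := inv_conj hiS₂ g
      rwa [hconj] at this
    have hXR : R' ≠ g • r • g₁ • S := by
      intro e
      apply hne3
      have : g • R' = g • r • g₁ • S := by rw [hgR]; exact e
      exact smul_left_cancel g this
    have hX : g • r • g₁ • S = S' := by
      by_contra hXS
      have h3 : ({P : Sylow 3 G | Inv z₂ P}).ncard = 3 := by
        rw [← Nat.card_coe_set_eq]
        exact h.l1.tri z₂ hz₂
      exact m11u_four_of_three {P : Sylow 3 G | Inv z₂ P} (Set.toFinite _) (le_of_eq h3)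
        R' (r • g₁ • S) S' (g • r • g₁ • S) hi₂R hiS₂ hi₂S hiX hne3 hne2 hXR hS
        (fun e => hgS e.symm) (fun e => hXS e.symm)
    refine ⟨g * (r * g₁), ?_, ?_⟩
    · rw [mul_smul, mul_smul, hg₁, hrR, hgR]
    · rw [mul_smul, mul_smul, hX]

end Cfsg.Agent.Helper22
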