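import Mathlib
import Cfsg.Agent.Helper44.SPUDefs

set_option autoImplicit false
open Classical

namespace Cfsg.Agent.Helper22.SPUPCOUNT

open Matrix Cfsg.Agent.Helper44.SPU

variable {F : Type*} [Field F] [Fintype F] {m : ℕ}

/-- PCOUNT: counting `p`-elements through a surjection with `p`-group kernel. -/
theorem spu_pcount {G H : Type*} [Group G] [Group H] [Finite G] (π : G →* H)
    (hπ : Function.Surjective π) (p : ℕ) [Fact p.Prime] (e : ℕ) (hker : Nat.card π.ker = p ^ e) :
    Nat.card {g : G // ∃ j : ℕ, orderOf g = p ^ j} =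
      Nat.card π.ker * Nat.card {h : H // ∃ j : ℕ, orderOf h = p ^ j} := by
  have hp : p.Prime := Fact.out
  have hiff : ∀ g : G, (∃ j : ℕ, orderOf g = p ^ j) ↔ ∃ j : ℕ, orderOf (π g) = p ^ j := by
    intro g
    constructor
    · rintro ⟨j, hj⟩
      have h1 : orderOf (π g) ∣ p ^ j := by
        rw [← hj]
        exact orderOf_map_dvd π g
      obtain ⟨i, -, hi⟩ := (Nat.dvd_prime_pow hp).1 h1
      exact ⟨i, hi⟩
    · rintro ⟨j, hj⟩
      have h1 : π (g ^ (p ^ j)) = 1 := by
        rw [map_pow, ← hj, pow_orderOf_eq_one]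
      have h2 : g ^ (p ^ j) ∈ π.ker := h1
      have h3 : (⟨g ^ (p ^ j), h2⟩ : π.ker) ^ (p ^ e) = 1 := by
        rw [← hker]
        exact pow_card_eq_one'
      have h4 : g ^ (p ^ (j + e)) = 1 := by
        have h5 := congrArg Subtype.val h3
        simp only [Subgroup.coe_pow, Subgroup.coe_one] at h5
        rw [pow_add, pow_mul]
        exact h5
      obtain ⟨i, -, hi⟩ := (Nat.dvd_prime_pow hp).1 (orderOf_dvd_of_pow_eq_one h4)
      exact ⟨i, hi⟩
  rw [← Nat.card_prod]
  refine Nat.card_congr ?_
  exact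
    { toFun := fun g => (⟨g.1 * (Function.surjInv hπ (π g.1))⁻¹, by
          rw [MonoidHom.mem_ker, map_mul, map_inv, Function.surjInv_eq hπ, mul_inv_cancel]⟩,
        ⟨π g.1, (hiff g.1).1 g.2⟩)
      invFun := fun x => ⟨x.1.1 * Function.surjInv hπ x.2.1, by
          rw [hiff, map_mul, (MonoidHom.mem_ker).1 x.1.2, one_mul, Function.surjInv_eq hπ]
          exact x.2.2⟩
      left_inv := by
        intro g
        apply Subtype.ext
        simp
      right_inv := by
        rintro ⟨⟨κ, hκ⟩, ⟨h, hh⟩⟩
        have h1 : π (κ * Function.surjInv hπ h) = h := by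
          rw [map_mul, (MonoidHom.mem_ker).1 hκ, one_mul, Function.surjInv_eq hπ]
        apply Prod.ext
        · apply Subtype.ext
          simp only
          rw [h1]
          group
        · apply Subtype.ext
          exact h1 }

end Cfsg.Agent.Helper22.SPUPCOUNT
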