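import Mathlib
import Cfsg.Agent.Helper3.SU2Defs

set_option autoImplicit false

namespace Cfsg.Agent.Helper22

open Cfsg.Agent.Helper3.SU2 Cfsg.Agent.Helper13

variable {F : Type*} [Field F] [Fintype F] {n : ℕ}

theorem su2c_shift_iff (τ : Equiv.Perm (Fin n)) (k i : Fin n) : k = τ i ↔ τ.symm k = i := by
  constructor
  · intro h
    rw [h]
    simp
  · intro h
    rw [← h]
    simp

theorem su2c_eshift {Φ : Set (Fin n → F)} (τ : Equiv.Perm (Fin n))
    (hτ : ∀ v ∈ Φ, (fun i => v (τ.symm i)) ∈ Φ) (i j : Fin n) (h : Edge Φ i j) :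
    Edge Φ (τ i) (τ j) := by
  classical
  intro μ hμ
  have key := hτ _ (h μ hμ)
  convert key using 1
  funext k
  simp only [Pi.add_apply, Pi.smul_apply, Pi.single_apply, smul_eq_mul]
  simp only [su2c_shift_iff τ k i, su2c_shift_iff τ k j]

end Cfsg.Agent.Helper22
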