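import Mathlib
import Cfsg.Agent.Helper3.SU2Defs

set_option autoImplicit false

namespace Cfsg.Agent.Helper22

open Cfsg.Agent.Helper3.SU2 Cfsg.Agent.Helper13

variable {F : Type*} [Field F] [Fintype F] {n : ℕ}

theorem su2c_fin {Φ : Set (Fin n → F)}
    (hsmall : ∀ v : Fin n → F, (supp v).card ≤ 3 → v ∈ Φ)
    (hred : ∀ (v : Fin n → F) (i1 i2 i3 i4 : Fin n), i1 ≠ i2 → i1 ≠ i3 → i1 ≠ i4 → i2 ≠ i3 →
      i2 ≠ i4 → i3 ≠ i4 → v i1 ≠ 0 → v i2 ≠ 0 → v i3 ≠ 0 → v i4 ≠ 0 →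
      (∀ y : Fin n → F, (supp y).card < (supp v).card → y ∈ Φ) → v ∈ Φ) :
    ∀ v : Fin n → F, v ∈ Φ := by
  classical
  intro v
  induction' hm : (supp v).card using Nat.strong_induction_on with m IH generalizing v
  by_cases h3 : (supp v).card ≤ 3
  · exact hsmall v h3
  · have c1 : 0 < (supp v).card := by omega
    obtain ⟨i1, h1⟩ := Finset.card_pos.1 c1
    have c2 : 0 < ((supp v).erase i1).card := by
      rw [Finset.card_erase_of_mem h1]
      omega
    obtain ⟨i2, h2⟩ := Finset.card_pos.1 c2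
    have c3 : 0 < (((supp v).erase i1).erase i2).card := by
      rw [Finset.card_erase_of_mem h2, Finset.card_erase_of_mem h1]
      omega
    obtain ⟨i3, h3'⟩ := Finset.card_pos.1 c3
    have c4 : 0 < ((((supp v).erase i1).erase i2).erase i3).card := by
      rw [Finset.card_erase_of_mem h3', Finset.card_erase_of_mem h2, Finset.card_erase_of_mem h1]
      omega
    obtain ⟨i4, h4'⟩ := Finset.card_pos.1 c4
    obtain ⟨h21, h2s⟩ := Finset.mem_erase.1 h2
    obtain ⟨h32, h3a⟩ := Finset.mem_erase.1 h3'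
    obtain ⟨h31, h3s⟩ := Finset.mem_erase.1 h3a
    obtain ⟨h43, h4a⟩ := Finset.mem_erase.1 h4'
    obtain ⟨h42, h4b⟩ := Finset.mem_erase.1 h4a
    obtain ⟨h41, h4s⟩ := Finset.mem_erase.1 h4b
    refine hred v i1 i2 i3 i4 (Ne.symm h21) (Ne.symm h31) (Ne.symm h41) (Ne.symm h32)
      (Ne.symm h42) (Ne.symm h43) ((mem_supp v i1).1 h1) ((mem_supp v i2).1 h2s)
      ((mem_supp v i3).1 h3s) ((mem_supp v i4).1 h4s) ?_
    intro y hy
    exact IH (supp y).card (by omega) y rfl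

end Cfsg.Agent.Helper22
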