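import Mathlib
import Cfsg.Agent.Helper3.SU2Defs

set_option autoImplicit false

namespace Cfsg.Agent.Helper22

open Cfsg.Agent.Helper3.SU2 Cfsg.Agent.Helper13

variable {F : Type*} [Field F] [Fintype F] {n : ℕ}

theorem su2c_w4 (hn : 5 ≤ n) {Φ : Set (Fin n → F)}
    (hmove : ∀ (v : Fin n → F), v ∈ Φ → ∀ i j : Fin n, i ≠ j → v j = 0 → ∀ ν : F, ν ≠ 0 →
      Function.update (Function.update v i 0) j (ν * v i) ∈ Φ)
    (hbase : ∀ v : Fin n → F, (∀ i : Fin n, v i ≠ 0 ↔ i.val < 4) → v ∈ Φ)
    (v : Fin n → F) (hv : (supp v).card = 4) : v ∈ Φ := by
  classical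
  have hcard : (Finset.univ.filter (fun i : Fin n => i.val < 4)).card = 4 := by
    have : (Finset.univ.filter (fun i : Fin n => i.val < 4)) =
        Finset.Iio (⟨4, by omega⟩ : Fin n) := by
      ext k
      simp [Fin.lt_def]
    rw [this, Fin.card_Iio]
  induction' hm : ((supp v).filter (fun i : Fin n => 4 ≤ i.val)).card with m IH generalizing v
  · apply hbase
    have hsub : supp v ⊆ Finset.univ.filter (fun i : Fin n => i.val < 4) := by
      intro i hi
      rw [Finset.mem_filter]
      refine ⟨Finset.mem_univ _, ?_⟩
      by_contra h
      have hmem : i ∈ (supp v).filter (fun i : Fin n => 4 ≤ i.val) := by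
        rw [Finset.mem_filter]
        exact ⟨hi, by omega⟩
      rw [Finset.card_eq_zero] at hm
      rw [hm] at hmem
      exact absurd hmem (Finset.notMem_empty _)
    have heq : supp v = Finset.univ.filter (fun i : Fin n => i.val < 4) :=
      Finset.eq_of_subset_of_card_le hsub (by rw [hcard, hv])
    intro i
    rw [← mem_supp, heq]
    simp
  · have hne : ((supp v).filter (fun i : Fin n => 4 ≤ i.val)).Nonempty := by
      rw [← Finset.card_pos]
      omega
    obtain ⟨i, hi⟩ := hne
    have hi' := hi
    rw [Finset.mem_filter] at hi'
    obtain ⟨hiS, hi4⟩ := hi'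
    have hj : ∃ j : Fin n, j.val < 4 ∧ v j = 0 := by
      by_contra hcon
      push Not at hcon
      have hsub : insert i (Finset.univ.filter (fun i : Fin n => i.val < 4)) ⊆ supp v := by
        intro k hk
        rw [Finset.mem_insert] at hk
        rcases hk with rfl | hk
        · exact hiS
        · rw [Finset.mem_filter] at hk
          exact (mem_supp v k).2 (hcon k hk.2)
      have hle := Finset.card_le_card hsub
      have hni : i ∉ Finset.univ.filter (fun i : Fin n => i.val < 4) := by
        rw [Finset.mem_filter]
        intro h
        omega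
      rw [Finset.card_insert_of_notMem hni, hcard, hv] at hle
      omega
    obtain ⟨j, hj4, hvj⟩ := hj
    have hij : i ≠ j := by
      rintro rfl
      omega
    have hvi : v i ≠ 0 := (mem_supp v i).1 hiS
    obtain ⟨v', hv'⟩ : ∃ v' : Fin n → F,
        v' = Function.update (Function.update v i 0) j (v i) := ⟨_, rfl⟩
    have hsupp' : supp v' = insert j ((supp v).erase i) := by
      ext k
      rw [mem_supp, Finset.mem_insert, Finset.mem_erase, mem_supp, hv']
      simp only [Function.update_apply]
      by_cases hkj : k = j
      · subst hkj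
        simp [hvi]
      · by_cases hki : k = i
        · subst hki
          simp [hkj]
        · simp [hkj, hki]
    have hjS : j ∉ (supp v).erase i := by
      intro h
      exact (mem_supp v j).1 (Finset.mem_of_mem_erase h) hvj
    have hcard' : (supp v').card = 4 := by
      rw [hsupp', Finset.card_insert_of_notMem hjS, Finset.card_erase_of_mem hiS, hv]
    have hm' : ((supp v').filter (fun i : Fin n => 4 ≤ i.val)).card = m := by
      have hE : (supp v').filter (fun i : Fin n => 4 ≤ i.val) =
          ((supp v).filter (fun i : Fin n => 4 ≤ i.val)).erase i := by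
        ext k
        rw [Finset.mem_filter, hsupp', Finset.mem_insert, Finset.mem_erase, Finset.mem_erase,
          Finset.mem_filter]
        constructor
        · rintro ⟨h | h, hk⟩
          · subst h
            omega
          · exact ⟨h.1, h.2, hk⟩
        · rintro ⟨h1, h2, h3⟩
          exact ⟨Or.inr ⟨h1, h2⟩, h3⟩
      rw [hE, Finset.card_erase_of_mem hi, hm]
      rfl
    have hΦ' : v' ∈ Φ := IH v' hcard' hm'
    have hv'i : v' i = 0 := by
      rw [hv']
      simp [Function.update_apply, hij]
    have key := hmove v' hΦ' j i (Ne.symm hij) hv'i 1 one_ne_zero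
    convert key using 1
    funext k
    rw [hv']
    simp only [Function.update_apply]
    by_cases hki : k = i
    · subst hki
      simp [hij]
    · by_cases hkj : k = j
      · subst hkj
        simp [hki, hvj]
      · simp [hki, hkj]

end Cfsg.Agent.Helper22
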