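import Mathlib
import Cfsg.Agent.Helper3.SU2Defs
import Cfsg.Agent.Helper22.SU2CESHIFT

set_option autoImplicit false

namespace Cfsg.Agent.Helper22

open Cfsg.Agent.Helper3.SU2 Cfsg.Agent.Helper13

variable {F : Type*} [Field F] [Fintype F] {n : ℕ}

theorem su2c_wshift {Φ : Set (Fin n → F)} (τ : Equiv.Perm (Fin n))
    (hτ : ∀ v ∈ Φ, (fun i => v (τ.symm i)) ∈ Φ) (i j k l : Fin n) (h : win i j k l ∈ Φ) :
    (win (τ i) (τ j) (τ k) (τ l) : Fin n → F) ∈ Φ := by
  classical
  have key := hτ _ h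
  convert key using 1
  funext a
  simp only [win_apply]
  simp only [su2c_shift_iff τ a i, su2c_shift_iff τ a j, su2c_shift_iff τ a k,
    su2c_shift_iff τ a l]

end Cfsg.Agent.Helper22
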